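import Cfsg.Agent.H24.Pearl
import Cfsg.Agent.H24.ResistantMetacyclic
import Cfsg.Agent.H93.Essential

/-!
Basic facts about a saturated fusion system with a pearl.
-/

set_option autoImplicit false

namespace Cfsg.Agent.H93

open Subgroup
open Cfsg
open scoped commutatorElement

universe u

variable {Ω : Type u} [Group Ω] {S : Subgroup Ω}

/-- An essential subgroup is proper. -/
theorem IsEssential.ne_self [Finite S] {p : ℕ} [Fact p.Prime] (hS : IsPGroup p S)
    {F : FusionSystem S} (hF : F.IsSaturated p) {E : Subgroup Ω} (hE : F.IsEssential p E) :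
    E ≠ S := by
  rintro rfl
  obtain ⟨-, hn, hnor, K, hp, -⟩ := hE
  have := finite_mulAut (S := E) le_rfl
  obtain ⟨-, R, hR⟩ := IsFullyNormalized.isFullyAutomized hS hF hn
  have heq : (Inn E).subgroupOf (F.autGroup E) = (R : Subgroup (F.autGroup E)) := by
    rw [hR]
    congr 1
    ext α
    rw [mem_autInducedBy]
    constructor
    · intro h
      obtain ⟨g, hg⟩ := MonoidHom.mem_range.1 h
      exact ⟨g, g.2, fun x => by rw [← hg]; simp⟩
    · rintro ⟨g, hg, hα⟩
      exact MonoidHom.mem_range.2 ⟨⟨g, hg⟩, MulEquiv.ext fun x => Subtype.ext (by simpa using (hα x).symm)⟩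
  rw [← Subgroup.index_eq_card, heq] at hp
  exact R.not_dvd_index hp

/-- A pearl forces maximal class and, for order at least `p ^ 4`, a small centralizer. -/
theorem pearl_class_data {p : ℕ} [Fact p.Prime] [Finite S] (hS : IsPGroup p S) (F : FusionSystem S)
    (E : Subgroup Ω) (hE : F.IsEssential p E)
    (hpearl : (Nat.card E = p ^ 2 ∧ ∀ x ∈ E, x ^ p = 1 ∧ IsMulCommutative ↥E) ∨
      (Nat.card E = p ^ 3 ∧ ¬ IsMulCommutative ↥E)) {n : ℕ} (hn : Nat.card S = p ^ n) :
    3 ≤ n → Group.nilpotencyClass S = n - 1 ∧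
      (4 ≤ n → ∃ x : S, Nat.card (Subgroup.centralizer ({x} : Set S)) ≤ p ^ 2) := by
  classical
  have hP : p.Prime := Fact.out
  set A := E.subgroupOf S with hA
  have hES : E ≤ S := hE.1.1
  have hcardA : Nat.card A = Nat.card E := Nat.card_congr (Subgroup.subgroupOfEquivOfLe hES).toEquiv
  have hCS : ∀ g : S, (∀ a ∈ A, g * a = a * g) → g ∈ A := fun g hg =>
    hE.1.2 E (H93.isConj_refl F hES) (H93.mem_centralizerIn.2 ⟨g.2, fun x hx => by
      have := congrArg Subtype.val (hg ⟨x, hES hx⟩ hx)
      simp only [Subgroup.coe_mul] at this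
      show (g : Ω) * x * (g : Ω)⁻¹ = x
      rw [this, mul_inv_cancel_right]⟩)
  have hZA : Subgroup.center S ≤ A := fun z hz =>
    hCS z fun a _ => (Subgroup.mem_center_iff.mp hz a).symm
  have hmain : 3 ≤ n → Group.nilpotencyClass S = n - 1 ∧
      (4 ≤ n → ∃ x : S, Nat.card (Subgroup.centralizer ({x} : Set S)) ≤ p ^ 2) := by
    intro hn3
    refine H24.pearl_class hn hn3 hZA ?_
    rcases hpearl with ⟨hc, hab⟩ | ⟨hc, hna⟩
    · left
      have hcomm := (hab 1 E.one_mem).2
      refine ⟨hcardA.trans hc, le_antisymm (fun g hg => hCS g fun a ha =>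
        (Subgroup.mem_centralizer_iff.mp hg a ha).symm) fun a ha => ?_⟩
      refine Subgroup.mem_centralizer_iff.mpr fun b hb => Subtype.ext ?_
      simpa using congrArg Subtype.val (mul_comm' (⟨(b : Ω), hb⟩ : E) ⟨(a : Ω), ha⟩)
    · right
      refine ⟨hcardA.trans hc, fun h => hna ⟨⟨fun u v => ?_⟩⟩, fun g hg => ?_⟩
      · have := mul_comm' (⟨⟨(u : Ω), hES u.2⟩, u.2⟩ : A) ⟨⟨(v : Ω), hES v.2⟩, v.2⟩
        exact Subtype.ext (congrArg (fun w : A => ((w : S) : Ω)) this)
      · have hrad := H93.IsEssential.isRadical hS hE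
        have hgN : (g : Ω) ∈ FusionSystem.normalizerIn S E := by
          refine ⟨g.2, Subgroup.mem_normalizer_iff.2 fun x => ⟨fun hx => ?_, fun hx => ?_⟩⟩
          · have h1 : g * ⟨x, hES hx⟩ * g⁻¹ ∈ A := by
              have h0 : g * ⟨x, hES hx⟩ * g⁻¹ * ⟨x, hES hx⟩⁻¹ ∈ A := hZA (hg ⟨x, hES hx⟩ hx)
              simpa using A.mul_mem h0 (show (⟨x, hES hx⟩ : S) ∈ A from hx)
            exact h1
          · have hxS : x ∈ S := by
              simpa [mul_assoc] using S.mul_mem (S.mul_mem (S.inv_mem g.2) (hES hx)) g.2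
            set y : S := g * ⟨x, hxS⟩ * g⁻¹ with hy
            have hyA : y ∈ A := hx
            have h0 : g * y * g⁻¹ * y⁻¹ ∈ Subgroup.center S := hg y hyA
            have h1 := (Subgroup.center S).inv_mem h0
            have h2 : g⁻¹ * (g * y * g⁻¹ * y⁻¹)⁻¹ * g = (g * y * g⁻¹ * y⁻¹)⁻¹ := by
              rw [Subgroup.mem_center_iff.mp h1 g⁻¹]
              group
            have h3 : (⟨x, hxS⟩ : S) = (g * y * g⁻¹ * y⁻¹)⁻¹ * y := by
              rw [← h2, hy]
              group
            exact show (⟨x, hxS⟩ : S) ∈ A from h3 ▸ A.mul_mem (hZA h1) hyA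
        let Z : Subgroup Ω := (Subgroup.center E).map E.subtype
        refine H24.mem_of_chain hS hE.1 hrad 1 (fun i => if i = 0 then ⊥ else Z) rfl
          (fun i hi => by simp [show i = 0 by omega]) ?_ hgN ?_ ?_
        · intro i hi α _ x hx
          rcases Nat.eq_zero_or_pos i with rfl | hi0
          · simp only [if_pos, Subgroup.mem_bot] at hx ⊢
            rw [show x = 1 from Subtype.ext hx]
            simp
          · simp only [if_neg hi0.ne'] at hx ⊢
            obtain ⟨z, hz, hzx⟩ := hx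
            obtain rfl : z = x := Subtype.ext hzx
            exact ⟨α z, Subgroup.mem_center_iff.mpr fun w => by
              simpa using congrArg α (Subgroup.mem_center_iff.mp hz (α.symm w)), rfl⟩
        · intro i hi x hxE hx
          obtain rfl : i = 0 := by omega
          simp only [zero_add, if_neg one_ne_zero, if_pos] at hx ⊢
          obtain ⟨z, hz, rfl⟩ := hx
          obtain ⟨hcen, -⟩ := H24.center_eq_of_card_cube hS hZA (hcardA.trans hc) (fun h => hna ⟨⟨fun u v => by
            have := mul_comm' (⟨⟨(u : Ω), hES u.2⟩, u.2⟩ : A) ⟨⟨(v : Ω), hES v.2⟩, v.2⟩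
            exact Subtype.ext (congrArg (fun w : A => ((w : S) : Ω)) this)⟩⟩)
          have hw : (⟨⟨(z : Ω), hES z.2⟩, z.2⟩ : A) ∈ Subgroup.center A :=
            Subgroup.mem_center_iff.mpr fun w => Subtype.ext (Subtype.ext (by
              simpa using congrArg Subtype.val
                (Subgroup.mem_center_iff.mp hz ⟨((w : S) : Ω), w.2⟩)))
          have hgz : (g : Ω) * (z : Ω) = (z : Ω) * (g : Ω) :=
            congrArg Subtype.val (Subgroup.mem_center_iff.mp (hcen hw) g)
          show (g : Ω) * (z : Ω) * (g : Ω)⁻¹ * (z : Ω)⁻¹ = 1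
          rw [hgz]
          simp
        · intro x hxE
          simp only [if_neg one_ne_zero]
          have h0 := hg ⟨x, hES hxE⟩ hxE
          refine ⟨⟨_, hZA h0⟩, Subgroup.mem_center_iff.mpr fun w => Subtype.ext ?_, rfl⟩
          have := congrArg Subtype.val (Subgroup.mem_center_iff.mp h0 ⟨(w : Ω), hES w.2⟩)
          simpa using this
  exact hmain

end Cfsg.Agent.H93
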