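import Cfsg.Agent.S5127
import Cfsg.Agent.H96.CentralizeNormal
import Cfsg.Agent.S5293
import Cfsg.Agent.H94.PPowerIndex
import Cfsg.Agent.H94.SatTools
import Cfsg.Agent.H94.StrongClosure

/-!
A normal subsystem is centralized by a strongly closed subgroup that centralizes its underlying group and meets
it in a central subgroup.
-/

set_option autoImplicit false

namespace Cfsg.Agent.H93.CPN

open Cfsg Cfsg.FusionSystem Cfsg.Agent.H96

/-- A subgroup containing a Sylow `p`-subgroup and all elements of prime power order prime to `p` is everything. -/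
theorem mem_of_parts {G : Type*} [Group G] [Finite G] {p : ℕ} [Fact p.Prime] (R : Sylow p G) (H : Subgroup G)
    (hR : (R : Subgroup G) ≤ H)
    (hq : ∀ (q : ℕ), q.Prime → q ≠ p → ∀ (e : ℕ) (a : G), a ^ q ^ e = 1 → a ∈ H) (g : G) : g ∈ H := by
  obtain ⟨k, hk, r, hr, rfl⟩ := H94.exists_pResidual_mul_sylow R g
  refine H.mul_mem ?_ (hR hr)
  suffices h : pResidual p G ≤ H from h hk
  exact (Subgroup.closure_le _).2 fun a ha =>
    S5127.mem_of_coprime_parts hq (orderOf a) a (pow_orderOf_eq_one a) ha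

/-- A `q`-element fixing its own displacement at a `p`-element fixes the element. -/
theorem eq_of_fix_displacement {Ω : Type*} [Group Ω] {W : Subgroup Ω} {p q e : ℕ} [Fact p.Prime] [Fact q.Prime]
    (hW : IsPGroup p W) (hqp : q ≠ p) {b : MulAut W} (hb : b ^ q ^ e = 1) {w : W}
    (hfix : b (w⁻¹ * b w) = w⁻¹ * b w) : b w = w := by
  set u := w⁻¹ * b w
  have hu : b w = w * u := by simp [u]
  have hpow : ∀ n : ℕ, (b ^ n) w = w * u ^ n := by
    intro n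
    induction n with
    | zero => simp
    | succ n ih =>
      rw [pow_succ', MulAut.mul_apply, ih, map_mul, map_pow, hfix, hu, pow_succ', mul_assoc]
  have h1 : u ^ q ^ e = 1 := by
    have := hpow (q ^ e)
    rw [hb] at this
    exact mul_eq_left.1 this.symm
  obtain ⟨k, hk⟩ := hW u
  have hco : Nat.Coprime (p ^ k) (q ^ e) :=
    Nat.Coprime.pow _ _ ((Nat.coprime_primes (Fact.out : p.Prime) (Fact.out : q.Prime)).2 hqp.symm)
  have : u = 1 := orderOf_eq_one_iff.1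
    (Nat.eq_one_of_dvd_coprimes hco (orderOf_dvd_of_pow_eq_one hk) (orderOf_dvd_of_pow_eq_one h1))
  rw [hu, this, mul_one]

variable {Ω : Type*} [Group Ω] {S : Subgroup Ω} [Finite S] {p : ℕ} [Fact p.Prime] {F : FusionSystem S}
  {T₁ T₂ : Subgroup Ω} {E₁ : FusionSystem T₁}

omit [Finite S] [Fact p.Prime] in
theorem modTrivial_pow {W R : Subgroup Ω} {b : MulAut W} (hb : ModTrivial R b) (s : ℕ) :
    ModTrivial R (b ^ s) := by
  induction s with
  | zero => exact modTrivial_one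
  | succ s ih => rw [pow_succ]; exact modTrivial_mul ih hb

/-- Coprime lifts fix `T₂`. -/
theorem exists_fix_lift (hS : IsPGroup p S) (h₁ : F.StronglyClosed T₁) (h₂ : F.StronglyClosed T₂)
    {U P : Subgroup Ω} (hU : U ≤ T₁) (hP : P ≤ centralizerIn S T₁) (hTP : T₂ ≤ P) {γ : MulAut U}
    (hγ : Liftable F T₁ U γ) (hfix : ∀ x : U, (x : Ω) ∈ T₂ → γ x = x)
    {q e : ℕ} [Fact q.Prime] (hqp : q ≠ p) (hγq : γ ^ q ^ e = 1) :
    ∃ b ∈ F.autGroup (U ⊔ P), ModTrivial U b ∧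
      (∀ x : U, ((b (Subgroup.inclusion le_sup_left x) : ↥(U ⊔ P)) : Ω) = (γ x : U)) ∧
      ∀ x : ↥(U ⊔ P), (x : Ω) ∈ T₂ → b x = x := by
  obtain ⟨b, hb, hbm, hbe⟩ := hγ P hP
  have hWS : U ⊔ P ≤ S := sup_le (hU.trans h₁.1) (hP.trans inf_le_left)
  have := finite_of_le hWS
  have : Finite (MulAut ↥(U ⊔ P)) :=
    Finite.of_injective (fun a : MulAut ↥(U ⊔ P) => (a : ↥(U ⊔ P) → ↥(U ⊔ P))) DFunLike.coe_injective
  obtain ⟨s, ⟨e', hbq⟩, hbu⟩ := exists_qLift (Subgroup.inclusion (le_sup_left : U ≤ U ⊔ P))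
    (fun x => Subtype.ext (hbe x)) ⟨e, hγq⟩
  have hm := modTrivial_pow hbm s
  have hc := (mem_autGroup F hWS).1 (pow_mem hb s)
  refine ⟨b ^ s, pow_mem hb s, hm, fun x => congrArg Subtype.val (hbu x), fun x hx => ?_⟩
  refine eq_of_fix_displacement (hS.to_le hWS) hqp hbq ?_
  have h3 : ((x⁻¹ * (b ^ s) x : ↥(U ⊔ P)) : Ω) ∈ T₂ :=
    T₂.mul_mem (T₂.inv_mem hx) (H94.apply_mem_of_stronglyClosed h₂ hc (x := x) hx)
  have h4 : ((x⁻¹ * (b ^ s) x : ↥(U ⊔ P)) : Ω) ∈ U := hm x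
  have h5 := hfix ⟨_, h4⟩ h3
  have h6 := hbu ⟨_, h4⟩
  rw [h5] at h6
  exact h6

/-- A map of `E₁` fixes the elements of `T₂` in its source. -/
theorem apply_eq_of_mem (h₂ : T₁ ⊓ T₂ ≤ E₁.center) [Finite T₁] {P : Subgroup Ω} {φ : P →* Ω} (hφ : φ ∈ E₁.Hom P)
    {x : P} (hx : (x : Ω) ∈ T₂) : φ x = x :=
  apply_center E₁ hφ (h₂ ⟨(E₁.le_of_mem hφ).1 x.2, hx⟩)

/-- Every map of the normal subsystem `E₁` extends to one fixing `T₂` elementwise. -/
theorem ext_commuting (hS : IsPGroup p S) (hF : F.IsSaturated p) (h₁ : E₁.IsNormalIn F p)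
    (h₂ : F.StronglyClosed T₂) (hcomm : ∀ x ∈ T₁, ∀ y ∈ T₂, x * y = y * x) (hz : T₁ ⊓ T₂ ≤ E₁.center)
    {P : Subgroup Ω} {φ : P →* Ω} (hφ : φ ∈ E₁.Hom P) : S5127.Ext F T₂ P φ := by
  have hT₁ : F.StronglyClosed T₁ := h₁.1.2.2.2.1
  have := finite_of_le hT₁.1
  have hS' : IsPGroup p T₁ := hS.to_le hT₁.1
  have hT₂C : T₂ ≤ centralizerIn S T₁ := fun y hy => ⟨h₂.1 hy, fun x hx => hcomm x hx y hy⟩
  refine H94.alperin_induction_step hS' h₁.1.1 (fun P φ => S5127.Ext F T₂ P φ)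
    (fun P R h φ _ hC => S5127.ext_res h hC) (fun P Q φ ψ _ _ a b h => S5127.ext_comp a b h)
    (fun U hU hc _ hlarge α hα => ?_) hφ
  have hUT := hU.1
  have hUS := hUT.trans hT₁.1
  have := finite_of_le hUS
  have hUTS : U ⊔ T₂ ≤ S := sup_le hUS h₂.1
  let Hc : Subgroup (MulAut U) :=
    { carrier := {a | S5127.Ext F T₂ U (U.subtype.comp a.toMonoidHom) ∧
        S5127.Ext F T₂ U (U.subtype.comp a⁻¹.toMonoidHom)}
      one_mem' := by
        have h : S5127.Ext F T₂ U (U.subtype.comp (1 : MulAut U).toMonoidHom) :=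
          ⟨(U ⊔ T₂).subtype, subtype_mem F hUTS, fun x => rfl, fun x => rfl⟩
        exact ⟨h, by rwa [inv_one]⟩
      mul_mem' := fun {a b} ha hb => ⟨S5127.ext_comp hb.1 ha.1 fun x => (b x).2, by
        rw [mul_inv_rev]; exact S5127.ext_comp ha.2 hb.2 fun x => (a⁻¹ x).2⟩
      inv_mem' := fun {a} ha => ⟨ha.2, by rw [inv_inv]; exact ha.1⟩ }
  have hTHc : autInducedBy T₁ U ≤ Hc := by
    suffices h : ∀ a ∈ autInducedBy T₁ U, S5127.Ext F T₂ U (U.subtype.comp a.toMonoidHom) from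
      fun a ha => ⟨h a ha, h _ (inv_mem ha)⟩
    intro a ha
    obtain ⟨s, hs, hse⟩ := mem_autInducedBy.1 ha
    refine ⟨conjHom _ s, F.conj_mem hUTS (hT₁.1 hs), fun x => (hse x).symm, fun x => ?_⟩
    show s * (x : Ω) * s⁻¹ = x
    rw [hcomm s hs x x.2, mul_inv_cancel_right]
  have hlift : ∀ a ∈ E₁.autGroup U, Liftable F T₁ U a → ∀ (q : ℕ), q.Prime → q ≠ p → ∀ e : ℕ,
      a ^ q ^ e = 1 → S5127.Ext F T₂ U (U.subtype.comp a.toMonoidHom) := by
    intro a ha hla q hq hqp e he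
    have := Fact.mk hq
    obtain ⟨b, hb, -, hbe, hbf⟩ := exists_fix_lift hS hT₁ h₂ hUT hT₂C le_rfl hla
      (fun x hx => Subtype.ext (apply_eq_of_mem hz ((mem_autGroup E₁ hUT).1 ha) hx)) hqp he
    exact ⟨_, (mem_autGroup F hUTS).1 hb, hbe, fun x => congrArg Subtype.val (hbf _ x.2)⟩
  obtain ⟨hA, hrec⟩ := H94.fullyNormalized_spec hS' h₁.1.1 hU
  obtain ⟨R, hR⟩ := hA.2
  have key : ∀ (L : Subgroup (E₁.autGroup U)), L.Normal → (∀ a ∈ L, Liftable F T₁ U (a : MulAut U)) →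
      ∀ l ∈ L, ((l : E₁.autGroup U) : MulAut U) ∈ Hc := by
    intro L hLn hL l hl
    obtain ⟨R', hR'⟩ := H94.exists_sylow_inf_normal R L
    refine mem_of_parts R' (Hc.comap ((E₁.autGroup U).subtype.comp L.subtype)) (fun a ha => ?_)
      (fun q hq hqp e a ha => ?_) ⟨l, hl⟩
    · exact hTHc (Subgroup.mem_subgroupOf.1 (hR.le (Subgroup.mem_subgroupOf.1 (hR'.le ha)).1))
    · have ha' : ((a : E₁.autGroup U) : MulAut U) ^ q ^ e = 1 :=
        congrArg (fun z : L => ((z : E₁.autGroup U) : MulAut U)) ha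
      exact ⟨hlift _ (a : E₁.autGroup U).2 (hL _ a.2) q hq hqp e ha',
        hlift _ (inv_mem (a : E₁.autGroup U).2) (hL _ (L.inv_mem a.2)) q hq hqp e
          ((inv_pow _ _).trans (inv_eq_one.2 ha'))⟩
  rcases eq_or_ne U T₁ with rfl | hne
  · exact (key ⊤ inferInstance (fun a _ => S5293.liftable_of_extension h₁ a.2) ⟨α, hα⟩ trivial).1
  · obtain ⟨L, hLn, hLT, hL⟩ := exists_liftable_subgroup hS hF h₁.1 hUT hc.2
    obtain ⟨n, hn, l, hl, he⟩ := H94.exists_mul_normalizer_inf R L ⟨α, hα⟩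
    rw [inf_eq_left.2 (hR.le.trans hLT)] at hn
    have hnH := (mem_autGroup E₁ hUT).1 n.2
    have hCn : S5127.Ext F T₂ U (U.subtype.comp (n : MulAut U).toMonoidHom) := by
      obtain ⟨ψ, hψ, hψe⟩ := hrec.2 U _ hnH (range_eq_of_forall_mem E₁ hnH fun x => ((n : MulAut U) x).2)
      let Nφ := extender T₁ U (U.subtype.comp (n : MulAut U).toMonoidHom)
      have hUN : U ≤ Nφ := H94.le_extender_aut hUT _
      have hgt : Nat.card U < Nat.card Nφ := by
        have hlt : U < normalizerIn T₁ U := H94.lt_normalizerIn hS' (lt_of_le_of_ne hUT hne)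
        have hNle : normalizerIn T₁ U ≤ Nφ := by
          intro g hg
          obtain ⟨c, hc, hce⟩ := exists_autGroup_of_mem E₁ (E₁.conj_mem hUT hg.1)
            (fun x => (Subgroup.mem_normalizer_iff.1 hg.2 x).1 x.2)
          refine H94.mem_extender_of_conj (β := c) hg.1 hg.2 hce ?_
          have h1 : (⟨c, hc⟩ : E₁.autGroup U) ∈ (R : Subgroup (E₁.autGroup U)) :=
            hR.ge (Subgroup.mem_subgroupOf.2 (mem_autInducedBy.2 ⟨g, hg.1, hce⟩))
          exact Subgroup.mem_subgroupOf.1 (hR.le ((Subgroup.mem_normalizer_iff.1 hn _).1 h1))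
        have := finite_of_le (E₁.le_of_mem hψ).1
        exact lt_of_le_of_ne (Subgroup.card_le_of_le hUN) fun h =>
          (hlt.trans_le hNle).ne (Subgroup.eq_of_le_of_card_ge hUN h.ge)
      have h1 := S5127.ext_res hUN (hlarge Nφ ψ hψ hgt)
      rwa [show res ψ hUN = U.subtype.comp (n : MulAut U).toMonoidHom from
        MonoidHom.ext fun x => hψe x x.2 _] at h1
    have h2 := S5127.ext_comp (key L hLn hL l hl).1 hCn fun x => ((l : MulAut U) x).2
    rwa [show ((U.subtype.comp (n : MulAut U).toMonoidHom).comp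
        ((U.subtype.comp (l : MulAut U).toMonoidHom).codRestrict U fun x => ((l : MulAut U) x).2)) =
        U.subtype.comp α.toMonoidHom from MonoidHom.ext fun x => by
          show (((n : MulAut U) ((l : MulAut U) x) : U) : Ω) = (α x : U)
          rw [← MulAut.mul_apply, ← Subgroup.coe_mul, ← he]] at h2

/-- The extension condition, with `T₂` fixed. -/
theorem exists_top_ext (hS : IsPGroup p S) (h₁ : E₁.IsNormalIn F p)
    (h₂ : F.StronglyClosed T₂) (hcomm : ∀ x ∈ T₁, ∀ y ∈ T₂, x * y = y * x) (hz : T₁ ⊓ T₂ ≤ E₁.center)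
    {a : MulAut T₁} (ha : a ∈ E₁.autGroup T₁) :
    ∃ β ∈ F.autGroup (T₁ ⊔ centralizerIn S T₁),
      (∀ x : T₁, ((β (Subgroup.inclusion le_sup_left x) : ↥(T₁ ⊔ centralizerIn S T₁)) : Ω) = ((a x : T₁) : Ω)) ∧
      (∀ c : ↥(T₁ ⊔ centralizerIn S T₁), (c : Ω) ∈ centralizerIn S T₁ →
        (c : Ω)⁻¹ * ((β c : ↥(T₁ ⊔ centralizerIn S T₁)) : Ω) ∈ T₁ ⊓ Subgroup.centralizer (T₁ : Set Ω)) ∧
      ∀ x : ↥(T₁ ⊔ centralizerIn S T₁), (x : Ω) ∈ T₂ → β x = x := by
  have hT₁ : F.StronglyClosed T₁ := h₁.1.2.2.2.1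
  have := finite_of_le hT₁.1
  have hS' : IsPGroup p T₁ := hS.to_le hT₁.1
  set C := centralizerIn S T₁
  have hT₂C : T₂ ≤ C := fun y hy => ⟨h₂.1 hy, fun x hx => hcomm x hx y hy⟩
  have hWS : T₁ ⊔ C ≤ S := sup_le hT₁.1 inf_le_left
  let good : MulAut T₁ → Prop := fun a => ∃ β ∈ F.autGroup (T₁ ⊔ C),
      (∀ x : T₁, ((β (Subgroup.inclusion le_sup_left x) : ↥(T₁ ⊔ C)) : Ω) = ((a x : T₁) : Ω)) ∧
      (∀ c : ↥(T₁ ⊔ C), (c : Ω) ∈ C →
        (c : Ω)⁻¹ * ((β c : ↥(T₁ ⊔ C)) : Ω) ∈ T₁ ⊓ Subgroup.centralizer (T₁ : Set Ω)) ∧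
      ∀ x : ↥(T₁ ⊔ C), (x : Ω) ∈ T₂ → β x = x
  have hmul : ∀ a b, good a → good b → good (a * b) := by
    rintro a b ⟨β₁, h₁, e₁, c₁, f₁⟩ ⟨β₂, h₂, e₂, c₂, f₂⟩
    obtain ⟨he, hc⟩ := H94.ext_condition_mul e₁ c₁ e₂ c₂
    exact ⟨β₁ * β₂, mul_mem h₁ h₂, he, hc, fun x hx => by rw [MulAut.mul_apply, f₂ x hx, f₁ x hx]⟩
  have hone : good 1 := ⟨1, one_mem _, fun x => rfl, fun c _ => by simp, fun x _ => rfl⟩
  let Hg : Subgroup (MulAut T₁) :=
    { carrier := {a | good a ∧ good a⁻¹}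
      one_mem' := ⟨hone, by rw [inv_one]; exact hone⟩
      mul_mem' := fun ha hb => ⟨hmul _ _ ha.1 hb.1, by rw [mul_inv_rev]; exact hmul _ _ hb.2 ha.2⟩
      inv_mem' := fun ha => ⟨ha.2, by rw [inv_inv]; exact ha.1⟩ }
  obtain ⟨R, hR⟩ := (H94.fullyNormalized_spec hS' h₁.1.1 (H93.isFullyNormalized_top E₁)).1.2
  refine (mem_of_parts R (Hg.comap (E₁.autGroup T₁).subtype) (fun r hr => ?_)
    (fun q hq hqp e r hr => ?_) ⟨a, ha⟩).1
  · have hext : ∀ b ∈ autInducedBy T₁ T₁, good b := by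
      intro b hb
      obtain ⟨t, ht, hte⟩ := mem_autInducedBy.1 hb
      obtain ⟨β, hβ, hβe⟩ := H94.exists_autInducedBy (hT₁.1 ht)
        (Subgroup.le_normalizer ((le_sup_left : T₁ ≤ T₁ ⊔ C) ht))
      refine ⟨β, autInducedBy_le_autGroup F hWS hβ, fun x => (hβe _).trans (hte x).symm, fun c hc => ?_,
        fun x hx => Subtype.ext ?_⟩
      · rw [hβe, show t * (c : Ω) = (c : Ω) * t from Subgroup.mem_centralizer_iff.1 hc.2 t ht]
        simp
      · rw [hβe, hcomm t ht x hx, mul_inv_cancel_right]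
    have := Subgroup.mem_subgroupOf.1 (hR.le hr)
    exact ⟨hext _ this, hext _ (inv_mem this)⟩
  · have := Fact.mk hq
    have hr' : ((r : E₁.autGroup T₁) : MulAut T₁) ^ q ^ e = 1 := congrArg Subtype.val hr
    have hq' : ∀ g ∈ E₁.autGroup T₁, g ^ q ^ e = 1 → good g := by
      intro g hg hge
      obtain ⟨b, hb, hbm, hbe, hbf⟩ := exists_fix_lift hS hT₁ h₂ le_rfl le_rfl hT₂C
        (S5293.liftable_of_extension h₁ hg)
        (fun x hx => Subtype.ext (apply_eq_of_mem hz ((mem_autGroup E₁ le_rfl).1 hg) hx)) hqp hge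
      refine ⟨b, hb, hbe, fun c hc => ⟨hbm c, ?_⟩, hbf⟩
      -- the image of an element of `C` is in `C`
      refine Subgroup.mul_mem _ (Subgroup.inv_mem _ hc.2) fun x hx => ?_
      obtain ⟨x', hx'⟩ := g.surjective ⟨x, hx⟩
      rw [show x = ((b (Subgroup.inclusion le_sup_left x') : ↥(T₁ ⊔ C)) : Ω) from
        ((hbe x').trans (congrArg Subtype.val hx')).symm, ← Subgroup.coe_mul, ← Subgroup.coe_mul,
        ← map_mul, ← map_mul]
      exact congrArg (fun v => ((b v : ↥(T₁ ⊔ C)) : Ω)) (Subtype.ext (hc.2 x' x'.2))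
    exact ⟨hq' _ r.2 hr', hq' _ (inv_mem r.2) ((inv_pow _ _).trans (inv_eq_one.2 hr'))⟩

end Cfsg.Agent.H93.CPN
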