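import Cfsg.Agent.H24.MeetRestrict
import Cfsg.Agent.H94.CongExt
import Cfsg.Agent.H93.CommutingExt

/-!
In a normal subsystem every automorphism of a centric subgroup extends to the hull of a fully centralized
conjugate congruent to the identity modulo the underlying group.
-/

set_option autoImplicit false

namespace Cfsg.Agent.H93.NormalCongruence

open Cfsg Cfsg.FusionSystem
open Cfsg.Agent.H93 (Mor)
open Cfsg.Agent.H94.Meet

variable {Ω : Type*} [Group Ω] {S T : Subgroup Ω} {F : FusionSystem S} {D : FusionSystem T} {p : ℕ}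
  [Finite S] [Fact p.Prime]

/-- A subgroup of `T` fully normalized in the ambient system is fully normalized in an invariant subsystem. -/
theorem isFullyNormalized_sub (hS : IsPGroup p S) (hF : F.IsSaturated p) (hI : D.IsInvariantIn F)
    {Q : Subgroup Ω} (hQT : Q ≤ T) (hQ : F.IsFullyNormalized Q) : D.IsFullyNormalized Q := by
  have hTS := hI.2.1.1
  obtain ⟨hA, hrec⟩ := H94.fullyNormalized_spec hS hF hQ
  refine ⟨hQT, fun R hR => ?_⟩
  obtain ⟨η, hη, hηr⟩ := hR
  obtain ⟨η', hη', hη'r⟩ := H93.isConj_symm (F := F) ⟨η, hI.1 Q hη, hηr⟩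
  obtain ⟨-, -, ψ, hψ, hval, -⟩ := H94.exists_ext_normalizer hS hA hrec hη' hη'r
  have hle : normalizerIn T R ≤ normalizerIn S R := inf_le_inf_right _ hTS
  have := H96.finite_of_le (S := S) (P := normalizerIn T Q) (inf_le_left.trans hTS)
  exact Nat.card_le_card_of_injective (fun g : normalizerIn T R =>
    (⟨ψ ⟨g, hle g.2⟩, H93.StronglyClosed.apply_mem hI.2.1 hψ _ g.2.1, (hval _).2⟩ : normalizerIn T Q))
    fun x y hxy => Subtype.ext (congrArg Subtype.val (F.injective_of_mem hψ (congrArg Subtype.val hxy)) :)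

omit [Finite S] [Fact p.Prime] in
/-- Centricity in the subsystem of all conjugates in the ambient system. -/
theorem tCentric_of_centric (hI : D.IsInvariantIn F) {P : Subgroup Ω} (hP : D.IsCentric P) :
    TCentric F (T ⊓ T) P := by
  rw [inf_idem]
  refine ⟨hP.1, ?_⟩
  rintro _ ⟨φ, hφ, rfl⟩
  have h := H94.centric_range_of_invariant hI hP hφ
  exact h.2 _ ⟨φ.range.subtype, H96.subtype_mem D h.1, Subgroup.range_subtype _⟩

omit [Finite S] [Fact p.Prime] in
theorem centric_of_tCentric (hsub : D.IsSubsystemOf F) {P : Subgroup Ω} (hP : TCentric F (T ⊓ T) P) :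
    D.IsCentric P := by
  rw [inf_idem] at hP
  refine ⟨hP.1, ?_⟩
  rintro Q ⟨φ, hφ, hr⟩
  exact hP.2 Q ⟨φ, hsub P hφ, hr⟩

omit [Fact p.Prime] in
theorem data (hS : IsPGroup p S) (hD : D.IsNormalIn F p) : Data p F D D :=
  ⟨hS, hD.1.2.1, hD.1, hD.1⟩

theorem meetAut_le (hS : IsPGroup p S) (hD : D.IsNormalIn F p) {U : Subgroup Ω} (hU : TCentric F (T ⊓ T) U) :
    meetAut p F D D U ≤ D.autGroup U := fun _ ha =>
  (actsIn_iff (hU.1.trans inf_le_left)).1 (bGood_of_mem_meetAut (data hS hD) hU ha).2.1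

theorem sylowProp (hS : IsPGroup p S) (hD : D.IsNormalIn F p) : SylowProp p F D D := by
  intro U hU hUn
  have hTS := hD.1.2.2.2.1.1
  have := H96.finite_of_le hTS
  have hUT : U ≤ T := hU.1.trans inf_le_left
  obtain ⟨R, hR⟩ := (H94.fullyNormalized_spec (hS.to_le hTS) hD.1.1
    (isFullyNormalized_sub hS hD.1.2.1 hD.1.2.2 hUT hUn)).1.2
  have := H96.finite_of_le hUT
  have : Finite (MulAut ↥U) := Finite.of_injective (fun e : MulAut ↥U => (e : _ → _)) DFunLike.coe_injective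
  have hle : autInducedBy (T ⊓ T) U ≤ meetAut p F D D U := autInducedBy_le_meetAut (hUT.trans hTS)
  have h1 : ¬ p ∣ (autInducedBy (T ⊓ T) U).relIndex (D.autGroup U) := by
    rw [inf_idem]
    have := R.not_dvd_index
    rwa [hR] at this
  exact fun h => h1 (h.trans ⟨_, (Subgroup.relIndex_mul_relIndex _ _ _ hle (meetAut_le hS hD hU)).symm⟩)

omit [Fact p.Prime] in
theorem isFullyNormalized_closed {W : Subgroup Ω} (hW : F.StronglyClosed W) : F.IsFullyNormalized W := by
  have := H96.finite_of_le hW.1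
  refine ⟨hW.1, fun R hR => ?_⟩
  obtain ⟨φ, hφ, rfl⟩ := hR
  rw [H96.range_eq_of_forall_mem F hφ fun x => H93.StronglyClosed.apply_mem hW hφ x x.2]

/-- Automorphisms of the top of order prime to `p` are congruent. -/
theorem bGood_top (hS : IsPGroup p S) (hD : D.IsNormalIn F p) {a : MulAut T} (ha : a ∈ D.autGroup T) :
    BGood F D D T a := by
  have hI := hD.1.2.2
  have hT : F.StronglyClosed T := hI.2.1
  have hTS := hT.1
  have := H96.finite_of_le hTS
  have haF : a ∈ F.autGroup T :=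
    (H96.mem_autGroup F hTS).2 (hI.1 _ ((H96.mem_autGroup D le_rfl).1 ha))
  have hTc : TCentric F (T ⊓ T) T := tCentric_of_centric hI ⟨le_rfl, fun Q hQ => by
    obtain ⟨φ, hφ, rfl⟩ := hQ
    rw [H96.range_eq_of_forall_mem D hφ fun x => (D.le_of_mem hφ).2 x]
    exact inf_le_left⟩
  refine ⟨(actsIn_iff hTS).2 haF, (actsIn_iff le_rfl).2 ha, (actsIn_iff le_rfl).2 ha, fun U' φ hφ hU' => ?_⟩
  obtain ⟨β, hβ, hβT, hβc⟩ := hD.2 a ha
  have hHS : T ⊔ centralizerIn S T ≤ S := sup_le hTS inf_le_left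
  obtain ⟨g, hg, hge⟩ := H93.exists_mor_of_aut hHS hβ
  have hgT : ∀ x : T, g x = ((a x : T) : Ω) := fun x =>
    (hge ⟨x, Subgroup.mem_sup_left x.2⟩).trans (hβT x)
  obtain ⟨f, hf, hfe⟩ := H93.exists_mor_of_aut le_rfl ha
  have hgD : Mor D (hull T T) (hull T T) g := by
    rw [show hull T T = T from sup_eq_left.2 inf_le_left]
    exact hf.congr fun x hx => ((hgT ⟨x, hx⟩).trans (hfe ⟨x, hx⟩).symm).symm
  refine congIn_of_congIn (data hS hD) hTc (Mor.id F hTS) hφ
    (H93.IsFullyNormalized.isFullyCentralized hS hD.1.2.1 (isFullyNormalized_closed hT)) hU'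
    ⟨g, hg, hgT, fun y hy => ?_, hgD, hgD⟩
  rw [inf_idem]
  refine H24.Meet.cong_sup hg (hHS.trans (H93.StronglyClosed.le_normalizer hT)) (fun x hx => ?_) (fun c hc => ?_) hy
  · rw [hgT ⟨x, hx⟩]
    exact T.mul_mem (T.inv_mem hx) (a ⟨x, hx⟩).2
  · rw [show g c = _ from hge ⟨c, Subgroup.mem_sup_right hc⟩]
    exact (hβc ⟨c, Subgroup.mem_sup_right hc⟩ hc).1

/-- Automorphisms of order prime to `p` normalizing the Sylow subgroup induced by `T` are congruent, given the
statement for larger subgroups. -/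
theorem bGood_of_normalizes (hS : IsPGroup p S) (hD : D.IsNormalIn F p) {P : Subgroup Ω} (hP : D.IsCentric P)
    (hPn : F.IsFullyNormalized P)
    (IH : ∀ Q : Subgroup Ω, D.IsCentric Q → Nat.card P < Nat.card Q → D.autGroup Q ≤ meetAut p F D D Q)
    {a : MulAut P} (ha : a ∈ D.autGroup P) (hp : (orderOf a).Coprime p)
    (hn : ∀ b ∈ autInducedBy T P, a * b * a⁻¹ ∈ autInducedBy T P) : BGood F D D P a := by
  have hI := hD.1.2.2
  have hT : F.StronglyClosed T := hI.2.1
  have hTS := hT.1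
  have := H96.finite_of_le hTS
  have hPT := hP.1
  rcases eq_or_ne P T with rfl | hne
  · exact bGood_top hS hD ha
  have hTp := hS.to_le hTS
  have := H96.finite_of_le hPT
  have hd := data hS hD
  obtain ⟨-, hrec⟩ := H94.fullyNormalized_spec hTp hD.1.1 (isFullyNormalized_sub hS hD.1.2.1 hI hPT hPn)
  have haD := (H96.mem_autGroup D hPT).1 ha
  obtain ⟨ψ, hψ, hψe⟩ := hrec.2 P _ haD (H96.range_eq_of_forall_mem D haD fun x => (a x).2)
  set N := normalizerIn T P
  have hNx : N ≤ extender T P (P.subtype.comp a.toMonoidHom) := fun t ht => by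
    obtain ⟨b, hb, hbe⟩ := H94.exists_autInducedBy (P := P) ht.1 ht.2
    exact H94.mem_extender_of_conj ht.1 ht.2 hbe (hn b hb)
  have hPN : P ≤ N := H93.le_normalizerIn hPT
  have hψP : ∀ (x : Ω) (hx : x ∈ P) (hx' : x ∈ extender T P (P.subtype.comp a.toMonoidHom)),
      ψ ⟨x, hx'⟩ = ((a ⟨x, hx⟩ : P) : Ω) := fun x hx hx' => hψe x hx hx'
  have hval : ∀ t : N, H96.res ψ hNx t ∈ N := by
    intro t
    refine ⟨(D.le_of_mem hψ).2 _, H94.mem_normalizer_of_forall_conj_mem fun x hx => ?_⟩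
    obtain ⟨y, hy⟩ := a.surjective ⟨x, hx⟩
    have h1 : (t : Ω) * y * (t : Ω)⁻¹ ∈ P := (Subgroup.mem_normalizer_iff.1 t.2.2 y).1 y.2
    have h2 : ψ (Subgroup.inclusion hNx t * ⟨y, hNx (hPN y.2)⟩ * (Subgroup.inclusion hNx t)⁻¹) =
        ((a ⟨_, h1⟩ : P) : Ω) := hψP _ h1 _
    rw [map_mul, map_mul, map_inv, hψP y y.2, hy] at h2
    exact h2 ▸ Subtype.mem _
  obtain ⟨a₁, ha₁, ha₁e⟩ := H96.exists_autGroup_of_mem D (H96.res_mem D hψ hNx) hval
  have hres : ∀ x : P, a₁ (Subgroup.inclusion hPN x) = Subgroup.inclusion hPN (a x) := fun x =>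
    Subtype.ext ((ha₁e _).trans (hψP x x.2 _))
  have : Finite ↥N := H96.finite_of_le (S := T) (inf_le_left : N ≤ T)
  have : Finite (MulAut ↥N) := Finite.of_injective (fun e : MulAut ↥N => (e : _ → _)) DFunLike.coe_injective
  obtain ⟨m, hm, ha₁m⟩ := H24.Meet.exists_coprime_pow (p := p) _ hres hp
  have hPc := tCentric_of_centric hI hP
  have hNT : N ≤ T ⊓ T := le_inf inf_le_left inf_le_left
  have hNc := hPc.mono hPN hNT
  have hlt : Nat.card P < Nat.card N := by
    have h1 : P < N := H94.lt_normalizerIn hTp (lt_of_le_of_ne hPT hne)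
    exact lt_of_le_of_ne (Subgroup.card_le_of_le h1.le) fun h => h1.ne (Subgroup.eq_of_le_of_card_ge h1.le h.ge)
  have hg₁ : BGood F D D N a₁ :=
    bGood_of_mem_meetAut hd hNc (IH N (centric_of_tCentric hI.1 hNc) hlt ha₁)
  have hg₂ : BGood F D D N (a₁ ^ m) := (mem_bGroup (h0 := hNT.trans hd.le) (h1 := (inf_le_left : N ≤ T))
    (h2 := (inf_le_left : N ≤ T)) (hc₁ := hT) (hc₂ := hT)).1 (pow_mem (mem_bGroup.2 hg₁) m)
  exact H24.Meet.bGood_restrict hd (sylowProp hS hD) hPc hPN hNT hg₂ hm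
    fun x => (congrArg Subtype.val (ha₁m x)).symm

/-- Every automorphism of a centric subgroup of a normal subsystem lies in the automizer of the meet of the
subsystem with itself. -/
theorem autGroup_le_meetAut (hS : IsPGroup p S) (hD : D.IsNormalIn F p) {P : Subgroup Ω} (hP : D.IsCentric P) :
    D.autGroup P ≤ meetAut p F D D P := by
  have hI := hD.1.2.2
  have hTS := hI.2.1.1
  have hF := hD.1.2.1
  have := H96.finite_of_le hTS
  have hd := data hS hD
  suffices H : ∀ (n : ℕ) (P : Subgroup Ω), Nat.card T - Nat.card P ≤ n → D.IsCentric P →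
      D.autGroup P ≤ meetAut p F D D P from H _ P le_rfl hP
  intro n
  induction n using Nat.strong_induction_on with
  | _ n ih =>
  intro P hn hP a ha
  have hPT := hP.1
  -- pass to a fully normalized conjugate
  obtain ⟨Q, ⟨φ₀, hφ₀, hr₀⟩, hQ⟩ := H93.exists_isFullyNormalized F (hPT.trans hTS)
  obtain ⟨φ, hφ, -⟩ := H93.exists_mor hφ₀ hr₀
  obtain ⟨φi, hφi, hφi1, -⟩ := hφ.exists_inv
  have hQc : D.IsCentric Q := centric_of_tCentric hI.1 ((tCentric_of_centric hI hP).of_mor hd.closed hφ)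
  have hQT := hQc.1
  obtain ⟨a', ha'⟩ := exists_conjAut hφ a
  have ha'D : a' ∈ D.autGroup Q :=
    (actsIn_iff hQT).1 (actsIn_conj hI hPT hφ ((actsIn_iff hPT).2 ha) ha')
  suffices key : D.autGroup Q ≤ meetAut p F D D Q by
    refine meetAut_conj hd (le_inf hQT hQT) hφi (key ha'D) fun y => ?_
    obtain ⟨x, hx, hxy⟩ := hφ.surj y.2
    rw [show y = ⟨φ x, hφ.map_mem hx⟩ from Subtype.ext hxy.symm, ← ha' ⟨x, hx⟩,
      hφi1 _ (a ⟨x, hx⟩).2]
    exact congrArg (fun z : P => ((a z : P) : Ω)) (Subtype.ext (hφi1 x hx).symm)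
  clear ha'D ha' a' ha a
  have := H96.finite_of_le hQT
  have IH : ∀ R : Subgroup Ω, D.IsCentric R → Nat.card Q < Nat.card R → D.autGroup R ≤ meetAut p F D D R := by
    intro R hR hlt
    have hle : Nat.card R ≤ Nat.card T := Subgroup.card_le_of_le hR.1
    rw [← hφ.card_eq] at hlt
    exact ih (Nat.card T - Nat.card R) (by omega) R le_rfl hR
  obtain ⟨hA, -⟩ := H94.fullyNormalized_spec (hS.to_le hTS) hD.1.1 (isFullyNormalized_sub hS hF hI hQT hQ)
  obtain ⟨R, hR⟩ := hA.2
  have hQc' := tCentric_of_centric hI hQc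
  have hRM : autInducedBy T Q ≤ meetAut p F D D Q := by
    have h := autInducedBy_le_meetAut (T₁ := T) (T₂ := T) (E₁ := D) (E₂ := D) (F := F) (p := p) (hQT.trans hTS)
    rwa [inf_idem] at h
  have hconj : ∀ c ∈ D.autGroup Q, ∀ k ∈ meetAut p F D D Q, c * k * c⁻¹ ∈ meetAut p F D D Q := by
    intro c hc k hk
    obtain ⟨f, hf, hfe⟩ := H93.exists_mor_of_aut (hQT.trans hTS)
      ((H96.mem_autGroup F (hQT.trans hTS)).2 (hI.1 _ ((H96.mem_autGroup D hQT).1 hc)))
    refine meetAut_conj hd (le_inf hQT hQT) hf hk fun x => ?_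
    rw [hfe, show (⟨f x, hf.map_mem x.2⟩ : Q) = c x from Subtype.ext (hfe x), MulAut.mul_apply, MulAut.mul_apply,
      MulAut.inv_apply_self]
  haveI : ((meetAut p F D D Q).subgroupOf (D.autGroup Q)).Normal := ⟨fun k hk c =>
    Subgroup.mem_subgroupOf.2 (hconj c c.2 k (Subgroup.mem_subgroupOf.1 hk))⟩
  intro a ha
  obtain ⟨g, hg, l, hl, he⟩ :=
    H94.exists_mul_normalizer_inf R ((meetAut p F D D Q).subgroupOf (D.autGroup Q)) ⟨a, ha⟩
  have hRle : (R : Subgroup (D.autGroup Q)) ≤ (meetAut p F D D Q).subgroupOf (D.autGroup Q) := fun r hr =>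
    Subgroup.mem_subgroupOf.2 (hRM (Subgroup.mem_subgroupOf.1 (hR.le hr)))
  rw [inf_eq_left.2 hRle] at hg
  suffices hgM : ((g : D.autGroup Q) : MulAut Q) ∈ meetAut p F D D Q by
    rw [show a = ((g : D.autGroup Q) : MulAut Q) * ((l : D.autGroup Q) : MulAut Q) from congrArg Subtype.val he]
    exact mul_mem hgM (Subgroup.mem_subgroupOf.1 hl)
  let N : Subgroup (D.autGroup Q) := Subgroup.normalizer ((R : Subgroup (D.autGroup Q)) : Set (D.autGroup Q))
  let RN : Sylow p N := R.subtype Subgroup.le_normalizer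
  refine H93.CPN.mem_of_parts RN ((meetAut p F D D Q).comap ((D.autGroup Q).subtype.comp N.subtype))
    (fun r hr => hRM (Subgroup.mem_subgroupOf.1 (hR.le hr))) (fun q hq hqp e c hc => ?_) ⟨g, hg⟩
  refine Subgroup.subset_closure (Or.inl ⟨?_, ?_⟩)
  · have hp : (orderOf ((c : D.autGroup Q) : MulAut Q)).Coprime p :=
      Nat.Coprime.coprime_dvd_left (orderOf_dvd_of_pow_eq_one
        (congrArg (fun z : N => ((z : D.autGroup Q) : MulAut Q)) hc))
        (Nat.Coprime.pow_left e ((Nat.coprime_primes hq Fact.out).2 hqp))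
    refine bGood_of_normalizes hS hD hQc hQ IH (c : D.autGroup Q).2 hp fun b hb => ?_
    have hbR : (⟨b, H96.autInducedBy_le_autGroup D hQT hb⟩ : D.autGroup Q) ∈ (R : Subgroup (D.autGroup Q)) :=
      hR.ge (Subgroup.mem_subgroupOf.2 hb)
    exact Subgroup.mem_subgroupOf.1 (hR.le ((Subgroup.mem_normalizer_iff.1 c.2 _).1 hbR))
  · exact Nat.Coprime.coprime_dvd_left (orderOf_dvd_of_pow_eq_one
      (congrArg (fun z : N => ((z : D.autGroup Q) : MulAut Q)) hc))
      (Nat.Coprime.pow_left e ((Nat.coprime_primes hq Fact.out).2 hqp))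

/-- Every automorphism of a centric subgroup of a normal subsystem is congruent. -/
theorem congAt_of_autGroup (hS : IsPGroup p S) (hD : D.IsNormalIn F p) {P P' : Subgroup Ω} (hP : D.IsCentric P)
    {φ : Ω → Ω} (hφ : Mor F P P' φ) (hP' : F.IsFullyCentralized P') {a : MulAut P} (ha : a ∈ D.autGroup P) :
    CongAt F T P P' φ a := by
  have h := ((bGood_of_mem_meetAut (data hS hD) (tCentric_of_centric hD.1.2.2 hP)
    (autGroup_le_meetAut hS hD hP ha)).2.2.2 P' φ hφ hP').congAt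
  rwa [inf_idem] at h

end Cfsg.Agent.H93.NormalCongruence
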