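import Cfsg.Agent.H93.Mor
import Cfsg.Agent.H94.CentricExt
import Cfsg.Agent.H94.StrongClosure

/-!
Centric subgroups meeting the underlying group of a subsystem in a non-centric subgroup are not radical.
-/

set_option autoImplicit false

namespace Cfsg.Agent.H93

open Cfsg Cfsg.FusionSystem

variable {Ω : Type*} [Group Ω] {S T : Subgroup Ω} {F : FusionSystem S} {E : FusionSystem T} {p : ℕ}

/-- An automorphism centralizing `R` and the quotient by `R` has `p`-power order. -/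
theorem pow_eq_one_of_stabilizes [Finite S] [Fact p.Prime] (hS : IsPGroup p S) {M R : Subgroup Ω} (hM : M ≤ S)
    {δ : MulAut M} (hfix : ∀ y : M, (y : Ω) ∈ R → δ y = y) (hw : ∀ y : M, ((y⁻¹ * δ y : M) : Ω) ∈ R) :
    ∃ k : ℕ, δ ^ p ^ k = 1 := by
  obtain ⟨k, hk⟩ := IsPGroup.iff_card.1 hS
  refine ⟨k, ?_⟩
  have hpow : ∀ (n : ℕ) (y : M), (δ ^ n) y = y * (y⁻¹ * δ y) ^ n := by
    intro n
    induction n with
    | zero => simp
    | succ n ih =>
      intro y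
      rw [pow_succ', MulAut.mul_apply, ih, map_mul, map_pow, hfix _ (hw y), pow_succ']
      simp [mul_assoc]
  refine MulEquiv.ext fun y => ?_
  rw [hpow]
  have : (⟨((y⁻¹ * δ y : M) : Ω), hM (y⁻¹ * δ y).2⟩ : S) ^ Nat.card S = 1 := pow_card_eq_one'
  rw [hk] at this
  have h2 : (y⁻¹ * δ y) ^ p ^ k = 1 := by
    apply Subtype.ext
    rw [Subgroup.coe_pow]
    simpa using congrArg (fun s : S => (s : Ω)) this
  rw [h2, mul_one]
  rfl

/-- A centric subgroup meeting `T` in a subgroup that is not centric in `E` has a conjugate with an element outside it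
acting in the `p`-core of its automizer. -/
theorem exists_opMem_conj [Finite S] [Fact p.Prime] (hS : IsPGroup p S) (hF : F.IsSaturated p)
    (hsub : E.IsSubsystemOf F) (hTc : F.StronglyClosed T) {P : Subgroup Ω} (hP : F.IsCentric P)
    (hPT : ¬ E.IsCentric (P ⊓ T)) :
    ∃ φ ∈ F.Hom P, ∃ x, OpMem F p φ.range x ∧ x ∉ φ.range := by
  have hTS : T ≤ S := hTc.1
  have hPS : P ≤ S := hP.1
  have hX : P ⊓ T ≤ S := inf_le_left.trans hPS
  obtain ⟨R0, hR0, hnc⟩ : ∃ R0, E.IsConj (P ⊓ T) R0 ∧ ¬ centralizerIn T R0 ≤ R0 := by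
    by_contra h
    exact hPT ⟨inf_le_right, fun Q hQ => Classical.byContradiction fun hQ' => h ⟨Q, hQ, hQ'⟩⟩
  have hXR0 : F.IsConj (P ⊓ T) R0 := by
    obtain ⟨φ, hφ, hr⟩ := hR0
    exact ⟨φ, hsub _ hφ, hr⟩
  obtain ⟨R', hXR', hR'⟩ := H94.exists_fullyNormalized (F := F) hX
  obtain ⟨hA, hR⟩ := H94.fullyNormalized_spec hS hF hR'
  have hR'T : R' ≤ T := by
    obtain ⟨φ, hφ, rfl⟩ := hXR'
    rintro _ ⟨x, rfl⟩
    exact hTc.2 _ inf_le_right φ hφ x
  have hncR : ¬ centralizerIn T R' ≤ R' := by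
    intro hle
    obtain ⟨ψ, hψ, hψr⟩ := isConj_trans (isConj_symm hXR0) hXR'
    obtain ⟨f, hf, -⟩ := exists_mor hψ hψr
    obtain ⟨f', M', hf', -, hf'R⟩ := hf.extend hR (M := centralizerIn T R0) fun m hm => by
      refine ⟨⟨hTS hm.1, Subgroup.centralizer_le_normalizer _ hm.2⟩, 1, S.one_mem, fun x hx => ?_⟩
      rw [← Subgroup.mem_centralizer_iff.1 hm.2 x hx, mul_inv_cancel_right]
      simp
    apply hnc
    intro c hc
    have hcX : c ∈ R0 ⊔ centralizerIn T R0 := Subgroup.mem_sup_right hc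
    have h1 : f' c ∈ centralizerIn S R' := hf'.map_mem_centralizerIn hf'R le_sup_left hcX fun r hr => by
      rw [← Subgroup.mem_centralizer_iff.1 hc.2 r hr, mul_inv_cancel_right]
    obtain ⟨χ, hχ, -, hχe⟩ := hf'
    have h2 : χ ⟨c, hcX⟩ ∈ T := H94.apply_mem_of_stronglyClosed hTc hχ (x := ⟨c, hcX⟩) hc.1
    rw [hχe] at h2
    obtain ⟨r, hr, he⟩ := hf'R.surj (hle ⟨h2, h1.2⟩)
    have h3 : (⟨c, hcX⟩ : ↥(R0 ⊔ centralizerIn T R0)) = ⟨r, Subgroup.mem_sup_left hr⟩ :=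
      F.injective_of_mem hχ (by rw [hχe, hχe]; exact he.symm)
    rw [show c = r from congrArg Subtype.val h3]
    exact hr
  obtain ⟨φ₀, hφ₀, hr₀⟩ := hXR'
  obtain ⟨-, -, θ, hθ, hval, hmap, -⟩ := H94.exists_ext_normalizer hS hA hR hφ₀ hr₀
  have hTn : S ≤ Subgroup.normalizer (T : Set Ω) := H94.le_normalizer_of_stronglyClosed hTc
  have hPN : P ≤ normalizerIn S (P ⊓ T) := by
    intro x hx
    refine ⟨hPS hx, Subgroup.mem_normalizer_iff.2 fun y => ⟨fun hy => ⟨P.mul_mem (P.mul_mem hx hy.1) (P.inv_mem hx),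
      (Subgroup.mem_normalizer_iff.1 (hTn (hPS hx)) y).1 hy.2⟩, fun hy => ⟨?_,
      (Subgroup.mem_normalizer_iff.1 (hTn (hPS hx)) y).2 hy.2⟩⟩⟩
    have := P.mul_mem (P.mul_mem (P.inv_mem hx) hy.1) hx
    simpa [mul_assoc] using this
  set φ := H96.res θ hPN with hφdef
  have hφ : φ ∈ F.Hom P := H96.res_mem F hθ hPN
  set M := φ.range with hMdef
  have hMS : M ≤ S := range_le hφ
  have hMc : F.IsCentric M := H94.centric_of_isConj hP ⟨φ, hφ, rfl⟩
  have hMT : M ⊓ T = R' := by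
    apply le_antisymm
    · rintro y ⟨⟨x, rfl⟩, hy⟩
      have hxT : (x : Ω) ∈ T := by
        have h1 := H94.apply_mem_of_stronglyClosed hTc (invHom_mem hφ) (x := ⟨φ x, ⟨x, rfl⟩⟩) hy
        exact Eq.subst (motive := fun z => z ∈ T) (invHom_apply φ (F.injective_of_mem hφ) x _) h1
      rw [← hmap]
      exact ⟨⟨(x : Ω), hPN x.2⟩, Subgroup.mem_subgroupOf.2 ⟨x.2, hxT⟩, rfl⟩
    · intro y hy
      refine ⟨?_, hR'T hy⟩
      rw [← hmap] at hy
      obtain ⟨x, hx, rfl⟩ := hy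
      exact ⟨⟨(x : Ω), (Subgroup.mem_subgroupOf.1 hx).1⟩, rfl⟩
  set C := centralizerIn T R' with hCdef
  have hMC : M ≤ Subgroup.normalizer (C : Set Ω) := by
    have key : ∀ s ∈ M, ∀ c ∈ C, s * c * s⁻¹ ∈ C := by
      intro s hs c hc
      refine ⟨(Subgroup.mem_normalizer_iff.1 (hTn (hMS hs)) c).1 hc.1,
        Subgroup.mem_centralizer_iff.2 fun y hy => ?_⟩
      have h3 : s⁻¹ * y * s ∈ R' := by
        rw [← hMT] at hy ⊢
        refine ⟨M.mul_mem (M.mul_mem (M.inv_mem hs) hy.1) hs, ?_⟩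
        have := (Subgroup.mem_normalizer_iff.1 (hTn (S.inv_mem (hMS hs))) y).1 hy.2
        simpa using this
      have h4 := Subgroup.mem_centralizer_iff.1 hc.2 _ h3
      calc y * (s * c * s⁻¹) = s * (s⁻¹ * y * s * c) * s⁻¹ := by group
        _ = s * (c * (s⁻¹ * y * s)) * s⁻¹ := by rw [h4]
        _ = s * c * s⁻¹ * y := by group
    intro s hs
    rw [Subgroup.mem_normalizer_iff]
    refine fun y => ⟨key s hs y, fun hy => ?_⟩
    simpa [mul_assoc] using key s⁻¹ (M.inv_mem hs) _ hy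
  have hCS : C ≤ S := inf_le_left.trans hTS
  have hDS : M ⊔ C ≤ S := sup_le hMS hCS
  have := finite_of_le hDS
  have hlt : M < M ⊔ C := lt_of_le_of_ne le_sup_left fun h => hncR fun c hc => by
    rw [← hMT]
    exact ⟨h ▸ Subgroup.mem_sup_right hc, hc.1⟩
  obtain ⟨x, hx, hxM⟩ := SetLike.exists_of_lt (H94.lt_normalizerIn (hS.to_le hDS) hlt)
  obtain ⟨a, ha, c, hc, rfl⟩ : ∃ a ∈ M, ∃ c ∈ C, a * c = x := by
    have h6 : x ∈ ((M ⊔ C : Subgroup Ω) : Set Ω) := hx.1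
    rw [Subgroup.coe_mul_of_left_le_normalizer_right M C hMC] at h6
    exact h6
  have hcM : c ∉ M := fun h => hxM (M.mul_mem ha h)
  have hcN : c ∈ Subgroup.normalizer (M : Set Ω) := by
    have := (Subgroup.normalizer (M : Set Ω)).mul_mem
      ((Subgroup.normalizer (M : Set Ω)).inv_mem (Subgroup.le_normalizer ha)) hx.2
    simpa using this
  have hcS : c ∈ S := hCS hc
  obtain ⟨β, hβ, hβe⟩ := H94.exists_autInducedBy hcS hcN
  have hpres : ∀ b ∈ F.autGroup M, ∀ y : M, (y : Ω) ∈ R' → ((b y : M) : Ω) ∈ R' := by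
    intro b hb y hy
    rw [← hMT] at hy ⊢
    exact ⟨(b y).2, H94.apply_mem_of_stronglyClosed hTc ((H96.mem_autGroup F hMS).1 hb) (x := y) hy.2⟩
  let K : Subgroup (MulAut M) :=
    { carrier := {k | k ∈ F.autGroup M ∧ (∀ y : M, (y : Ω) ∈ R' → k y = y) ∧
        ∀ y : M, ((y⁻¹ * k y : M) : Ω) ∈ R'}
      one_mem' := ⟨one_mem _, fun _ _ => rfl, fun y => by simp⟩
      mul_mem' := fun {a b} ha hb => ⟨mul_mem ha.1 hb.1, fun y hy => by
        rw [MulAut.mul_apply, hb.2.1 y hy, ha.2.1 y hy], fun y => by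
        have e : y⁻¹ * (a * b) y = (y⁻¹ * a y) * (y⁻¹ * b y) := by
          rw [MulAut.mul_apply]
          have h1 : a (y⁻¹ * b y) = y⁻¹ * b y := ha.2.1 _ (hb.2.2 y)
          rw [map_mul, map_inv] at h1
          calc y⁻¹ * a (b y) = (y⁻¹ * a y) * ((a y)⁻¹ * a (b y)) := by group
            _ = (y⁻¹ * a y) * (y⁻¹ * b y) := by rw [h1]
        rw [e, Subgroup.coe_mul]
        exact R'.mul_mem (ha.2.2 y) (hb.2.2 y)⟩
      inv_mem' := fun {a} ha => ⟨inv_mem ha.1, fun y hy => by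
        conv_lhs => rw [← ha.2.1 y hy]
        exact a.symm_apply_apply _, fun y => by
        have h1 := R'.inv_mem (ha.2.2 (a⁻¹ y))
        rw [show a (a⁻¹ y) = y from a.apply_symm_apply y] at h1
        simpa using h1⟩ }
  have hKp : IsPGroup p K := by
    rintro ⟨k, hk⟩
    obtain ⟨n, hn⟩ := pow_eq_one_of_stabilizes hS hMS hk.2.1 hk.2.2
    exact ⟨n, Subtype.ext hn⟩
  have hKop : K ≤ opAut F p M := le_opAut (fun k hk => hk.1) (fun k hk b hb => by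
    refine ⟨mul_mem (mul_mem hb hk.1) (inv_mem hb), fun y hy => ?_, fun y => ?_⟩
    · rw [MulAut.mul_apply, MulAut.mul_apply, hk.2.1 _ (hpres _ (inv_mem hb) y hy)]
      exact b.apply_symm_apply _
    · have h := hpres b hb _ (hk.2.2 (b⁻¹ y))
      rw [map_mul, map_inv, show b (b⁻¹ y) = y from b.apply_symm_apply y] at h
      exact h) hKp
  refine ⟨φ, hφ, c, ⟨hcS, β, hKop ⟨H96.autInducedBy_le_autGroup F hMS hβ, fun y hy => ?_, fun y => ?_⟩,
    hβe⟩, hcM⟩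
  · apply Subtype.ext
    rw [hβe, ← Subgroup.mem_centralizer_iff.1 hc.2 _ hy, mul_inv_cancel_right]
  · rw [← hMT]
    refine ⟨(y⁻¹ * β y).2, ?_⟩
    rw [Subgroup.coe_mul, Subgroup.coe_inv, hβe]
    have h1 := (Subgroup.mem_normalizer_iff.1 (hTn (S.inv_mem (hMS y.2))) c).1 hc.1
    have h2 := T.mul_mem h1 (T.inv_mem hc.1)
    simpa [mul_assoc] using h2

/-- A centric subgroup with such a conjugate is not radical. -/
theorem not_isRadical_of_opMem_conj [Finite S] {P : Subgroup Ω} (hP : F.IsCentric P) {φ : P →* Ω}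
    (hφ : φ ∈ F.Hom P) {x : Ω} (hx : OpMem F p φ.range x) (hxn : x ∉ φ.range) : ¬ F.IsRadical p P := by
  intro hr
  obtain ⟨hxS, α, hα, hαe⟩ := hx
  have hψ := invHom_mem hφ
  have hψr := invHom_range φ (F.injective_of_mem hφ)
  set ψ := invHom φ (F.injective_of_mem hφ) with hψdef
  have h1 : (autCongr ψ (F.injective_of_mem hψ) hψr) α ∈ opAut F p P := map_opAut_le hψ hψr ⟨α, hα, rfl⟩
  have h2 : (autCongr ψ (F.injective_of_mem hψ) hψr) α ∈ Inn P := hr.2 ▸ h1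
  obtain ⟨q₀, hq₀, hq⟩ := H96.mem_inn_iff.1 h2
  set q : P := ⟨q₀, hq₀⟩ with hqdef
  have h3 : x⁻¹ * φ q ∈ centralizerIn S φ.range := by
    refine ⟨S.mul_mem (S.inv_mem hxS) (apply_mem hφ q), Subgroup.mem_centralizer_iff.2 ?_⟩
    rintro _ ⟨z, rfl⟩
    have h5 : φ ((autCongr ψ (F.injective_of_mem hψ) hψr α) z) = (α ⟨φ z, ⟨z, rfl⟩⟩ : φ.range) := by
      have ez : z = ⟨ψ ⟨φ z, ⟨z, rfl⟩⟩, hψr.le ⟨_, rfl⟩⟩ := Subtype.ext (invHom_apply φ _ z _).symm
      conv_lhs => rw [ez]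
      obtain ⟨w, hw⟩ := (α ⟨φ z, ⟨z, rfl⟩⟩).2
      have e := autCongr_apply ψ (F.injective_of_mem hψ) hψr α ⟨φ z, ⟨z, rfl⟩⟩
      refine Eq.trans (congrArg φ (Subtype.ext ?_)) hw
      refine e.trans ?_
      rw [show α ⟨φ z, ⟨z, rfl⟩⟩ = ⟨φ w, ⟨w, rfl⟩⟩ from Subtype.ext hw.symm]
      exact invHom_apply φ _ w _
    have e1 : φ q * φ z * (φ q)⁻¹ = x * φ z * x⁻¹ := by
      rw [← hαe ⟨φ z, ⟨z, rfl⟩⟩, ← h5, ← map_inv, ← map_mul, ← map_mul]
      exact congrArg φ (Subtype.ext (hq z).symm)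
    calc φ z * (x⁻¹ * φ q) = x⁻¹ * (x * φ z * x⁻¹) * φ q := by group
      _ = x⁻¹ * (φ q * φ z * (φ q)⁻¹) * φ q := by rw [e1]
      _ = x⁻¹ * φ q * φ z := by group
  have h4 := hP.2 _ ⟨φ, hφ, rfl⟩ h3
  have h6 := φ.range.mul_mem (φ.range.mul_mem ⟨q, rfl⟩ (φ.range.inv_mem h4)) (φ.range.one_mem)
  exact hxn (by simpa using h6)

end Cfsg.Agent.H93
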