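import Cfsg.Agent.H93.CharacterData
import Cfsg.Agent.H93.FamilyCriterion

/-!
The normal subsystem of maps of trivial value of a character of `Aut_F(T)` of order prime to `p`.
-/

set_option autoImplicit false
set_option linter.unusedSectionVars false
set_option linter.unusedVariables false

namespace Cfsg.Agent.H93

open Cfsg Cfsg.FusionSystem

variable {Ω : Type*} [Group Ω] {S T : Subgroup Ω} {F : FusionSystem S} {E : FusionSystem T} {p : ℕ}
  {Δ : Type*} [Group Δ] {χ : F.autGroup T →* Δ}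

/-- The centric subgroups of `F` meeting `T` in a centric subgroup of `E`. -/
def GoodPair (F : FusionSystem S) (E : FusionSystem T) (P : Subgroup Ω) : Prop :=
  F.IsCentric P ∧ E.IsCentric (P ⊓ T)

/-- The generating maps: maps of trivial value. -/
def TrivialValue (χ : F.autGroup T →* Δ) (E : FusionSystem T) (Q : Subgroup Ω) (ψ : Q →* Ω) : Prop :=
  ψ ∈ F.Hom Q ∧ GoodPair F E Q ∧ ∃ f : Ω → Ω, (∀ x : Q, f x = ψ x) ∧ Dec χ E (Q ⊓ T) f 1

/-- The subsystem generated by the maps of trivial value. -/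
def charSystem (χ : F.autGroup T →* Δ) (E : FusionSystem T) : FusionSystem S where
  Hom P := {φ | φ ∈ F.Hom P ∧ ∀ D : FusionSystem S, (∀ Q ψ, TrivialValue χ E Q ψ → ψ ∈ D.Hom Q) → φ ∈ D.Hom P}
  le_of_mem h := F.le_of_mem h.1
  injective_of_mem h := F.injective_of_mem h.1
  conj_mem := fun {_ _} hP hg => ⟨F.conj_mem hP hg, fun D _ => D.conj_mem hP hg⟩
  comp_mem := fun h1 h2 h => ⟨F.comp_mem h1.1 h2.1 h, fun D hD => D.comp_mem (h1.2 D hD) (h2.2 D hD) h⟩
  inv_mem := fun {P φ} h => ⟨invHom φ (F.injective_of_mem h.1),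
    ⟨invHom_mem h.1, fun D hD => invHom_mem (h.2 D hD)⟩, fun x => invHom_apply φ _ x _⟩

theorem charSystem_le : charSystem χ E ≤ F := fun _ _ h => h.1

theorem charSystem_isConj {P Q : Subgroup Ω} (h : (charSystem χ E).IsConj P Q) : F.IsConj P Q := by
  obtain ⟨φ, hφ, hr⟩ := h
  exact ⟨φ, hφ.1, hr⟩

theorem charSystem_mor_toF {P Q : Subgroup Ω} {f : Ω → Ω} (h : Mor (charSystem χ E) P Q f) : Mor F P Q f := by
  obtain ⟨φ, hφ, hr, hv⟩ := h
  exact ⟨φ, hφ.1, hr, hv⟩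

/-- A map of trivial value is a map of the subsystem. -/
theorem mor_charSystem {P Q : Subgroup Ω} {f : Ω → Ω} (hP : GoodPair F E P) (hf : Mor F P Q f)
    (hd : Dec χ E (P ⊓ T) f 1) : Mor (charSystem χ E) P Q f := by
  obtain ⟨φ, hφ, hr, hv⟩ := hf
  exact ⟨φ, ⟨hφ, fun D hD => hD P φ ⟨hφ, hP, f, fun x => (hv x).symm, hd⟩⟩, hr, hv⟩

theorem mor_charSystem_of_mem {P : Subgroup Ω} {φ : P →* Ω} (hφ : φ ∈ (charSystem χ E).Hom P) {f : Ω → Ω}
    (hf : ∀ x : P, f x = φ x) : Mor (charSystem χ E) P φ.range f :=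
  ⟨φ, hφ, rfl, fun x => (hf x).symm⟩

namespace CharData

theorem goodPair_of_le (_h : CharData p F E χ) {P R : Subgroup Ω} (hR : GoodPair F E R) (hRP : R ≤ P)
    (hP : P ≤ S) : GoodPair F E P :=
  ⟨H94.centric_of_le hR.1 hRP hP, H94.centric_of_le hR.2 (inf_le_inf_right _ hRP) inf_le_right⟩

/-- A map of `F` carries `P ⊓ T` onto the meet of its image with `T`. -/
theorem mor_inf (h : CharData p F E χ) {P Q : Subgroup Ω} {f : Ω → Ω} (hf : Mor F P Q f) :
    Mor F (P ⊓ T) (Q ⊓ T) f := by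
  obtain ⟨g, hg, hgf, hfg⟩ := hf.exists_inv
  have key : ∀ {A B : Subgroup Ω} {u : Ω → Ω}, Mor F A B u → ∀ x ∈ A, x ∈ T → u x ∈ T := by
    intro A B u hu x hx hxT
    obtain ⟨φ, hφ, -, hv⟩ := hu
    rw [← hv ⟨x, hx⟩]
    exact H94.apply_mem_of_stronglyClosed h.closed hφ (x := ⟨x, hx⟩) hxT
  exact hf.restrict_eq inf_le_left (fun x hx => ⟨hf.map_mem hx.1, key hf x hx.1 hx.2⟩)
    fun y hy => ⟨g y, ⟨hg.map_mem hy.1, key hg y hy.1 hy.2⟩, hfg y hy.1⟩

theorem goodPair_of_mor (h : CharData p F E χ) {P Q : Subgroup Ω} {f : Ω → Ω} (hP : GoodPair F E P)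
    (hf : Mor F P Q f) : GoodPair F E Q :=
  ⟨H94.centric_of_isConj hP.1 hf.isConj, h.centric_image hP.2 (h.mor_inf hf)⟩

variable [Finite S] [Fact p.Prime]

omit [Fact p.Prime] in
theorem goodPair_top (h : CharData p F E χ) : GoodPair F E S := by
  have := finite_of_le h.top_le
  refine ⟨⟨le_rfl, fun Q hQ x hx => ?_⟩, ?_⟩
  · obtain ⟨φ, hφ, rfl⟩ := hQ
    rw [H96.range_eq_of_stronglyClosed (H96.stronglyClosed_top F) hφ]
    exact hx.1
  · rw [inf_eq_right.2 h.top_le]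
    refine ⟨le_rfl, fun Q hQ x hx => ?_⟩
    obtain ⟨φ, hφ, rfl⟩ := hQ
    rw [H96.range_eq_of_stronglyClosed (H96.stronglyClosed_top E) hφ]
    exact hx.1

/-- The maps of the subsystem with such a source have trivial value. -/
theorem dec_of_charSystem (h : CharData p F E χ) {P Q : Subgroup Ω} {f : Ω → Ω} (hP : GoodPair F E P)
    (hf : Mor (charSystem χ E) P Q f) : Dec χ E (P ⊓ T) f 1 := by
  let D : FusionSystem S :=
    { Hom := fun P => {φ | φ ∈ F.Hom P ∧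
        (GoodPair F E P → ∀ f : Ω → Ω, (∀ x : P, f x = φ x) → Dec χ E (P ⊓ T) f 1)}
      le_of_mem := fun h => F.le_of_mem h.1
      injective_of_mem := fun h => F.injective_of_mem h.1
      conj_mem := fun {P g} hP hg => ⟨F.conj_mem hP hg, fun _ f hf =>
        (h.dec_conj inf_le_right hg).congr fun x hx => (hf ⟨x, hx.1⟩).symm⟩
      comp_mem := by
        intro P Q φ ψ h1 h2 hh
        refine ⟨F.comp_mem h1.1 h2.1 hh, fun hP f hf => ?_⟩
        obtain ⟨u, hu, hue⟩ := exists_mor h1.1 rfl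
        obtain ⟨w, -, hwe⟩ := exists_mor h2.1 rfl
        have hrange : φ.range ≤ Q := by rintro _ ⟨x, rfl⟩; exact hh x
        have hQ : GoodPair F E Q := h.goodPair_of_le (h.goodPair_of_mor hP hu) hrange (F.le_of_mem h2.1).1
        have hd := h.dec_comp (h.mor_inf hu) (h1.2 hP u hue)
          ((h2.2 hQ w hwe).restrict (inf_le_inf_right T hrange))
        rw [one_mul] at hd
        refine hd.congr fun x hx => ?_
        rw [show f x = _ from hf ⟨x, hx.1⟩, show u x = φ ⟨x, hx.1⟩ from hue ⟨x, hx.1⟩,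
          show w (φ ⟨x, hx.1⟩) = _ from hwe ⟨_, hh _⟩]
        rfl
      inv_mem := by
        intro P φ hφ
        refine ⟨invHom φ (F.injective_of_mem hφ.1), ⟨invHom_mem hφ.1, fun hR f hf => ?_⟩,
          fun x => invHom_apply φ _ x _⟩
        obtain ⟨u, hu, hue⟩ := exists_mor hφ.1 rfl
        obtain ⟨v, hv, hvu, -⟩ := hu.exists_inv
        have hP : GoodPair F E P := h.goodPair_of_mor hR hv
        have hfv : ∀ y ∈ φ.range, f y = v y := by
          rintro y ⟨x, rfl⟩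
          refine (hf ⟨φ x, ⟨x, rfl⟩⟩).trans ((invHom_apply φ _ x _).trans ?_)
          rw [← hue x, hvu x x.2]
        obtain ⟨d, hd⟩ := h.dec_exists inf_le_right (h.mor_inf hv)
        have h1 := h.dec_comp (h.mor_inf hu) (hP.2 |> fun _ => hφ.2 hP u hue) hd
        have h2 : Dec χ E (P ⊓ T) (fun x => v (u x)) 1 :=
          (h.dec_of_E (Mor.id E inf_le_right)).congr fun x hx => (hvu x hx.1).symm
        have h3 := h.dec_unique hP.2 h1 h2
        rw [mul_one] at h3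
        rw [h3] at hd
        exact hd.congr fun x hx => (hfv x hx.1).symm }
  obtain ⟨φ, hφ, -, hv⟩ := hf
  refine (hφ.2 D fun Q ψ hψ => ⟨hψ.1, fun _ g hg => ?_⟩).2 hP f fun x => (hv x).symm
  obtain ⟨g', hg', hd'⟩ := hψ.2.2
  exact hd'.congr fun x hx => (hg' ⟨x, hx.1⟩).trans (hg ⟨x, hx.1⟩).symm

omit [Finite S] [Fact p.Prime] in
/-- An automorphism of `S` restricts to one of `T`. -/
theorem top_restrict (h : CharData p F E χ) {a : Ω → Ω} (ha : Mor F S S a) : Mor F T T a := by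
  have := h.mor_inf ha
  rwa [inf_eq_right.2 h.top_le] at this

/-- Every value is taken on an automorphism of `S`. -/
theorem exists_lift (h : CharData p F E χ) (d : Δ) : ∃ a : Ω → Ω, Mor F S S a ∧ Chi χ a d := by
  have hTS := h.top_le
  have hTn : normalizerIn S T = S := le_antisymm inf_le_left (le_inf le_rfl h.normal)
  obtain ⟨hA, hR⟩ := H94.fullyNormalized_spec h.isPGroup h.saturated (isFullyNormalized_of_normalized hTS hTn)
  obtain ⟨α, rfl⟩ := h.surjective d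
  set K : Subgroup (MulAut T) := χ.ker.map (F.autGroup T).subtype with hKdef
  obtain ⟨α₁, hα₁, κ, hκ, hακ, hfr⟩ := H94.autGroup_frattini hA K (Subgroup.map_subtype_le _)
    (fun c hc k hk => by
      obtain ⟨k₀, hk₀, rfl⟩ := hk
      exact ⟨⟨c, hc⟩ * k₀ * ⟨c, hc⟩⁻¹, (inferInstance : χ.ker.Normal).conj_mem k₀ hk₀ ⟨c, hc⟩, rfl⟩) α.2
  obtain ⟨a, ha, hae⟩ := exists_mor_of_aut hTS hα₁
  obtain ⟨a', M', ha', hagree, -⟩ := ha.extend hR (M := S) fun s hs => by
    refine ⟨⟨hs, h.normal hs⟩, ?_⟩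
    obtain ⟨β, hβ, hβe⟩ := H94.exists_autInducedBy hs (h.normal hs)
    obtain ⟨γ, hγd, hγe⟩ := h.chi_conj hs
    have hβK : β ∈ K := ⟨γ, hγd, MulEquiv.ext fun x => Subtype.ext ((hγe x).trans (hβe x).symm)⟩
    obtain ⟨t, ht, hte⟩ := H96.mem_autInducedBy.1 (hfr β hβK hβ)
    refine ⟨t, ht, fun x hx => ?_⟩
    have h2 := hte (α₁ ⟨x, hx⟩)
    simp only [MulAut.mul_apply] at h2
    rw [show (α₁⁻¹ : MulAut T) (α₁ ⟨x, hx⟩) = ⟨x, hx⟩ from α₁.symm_apply_apply _] at h2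
    have hmem : s * x * s⁻¹ ∈ T := (Subgroup.mem_normalizer_iff.1 (h.normal hs) x).1 hx
    rw [show a (s * x * s⁻¹) = _ from hae ⟨_, hmem⟩, show a x = _ from hae ⟨x, hx⟩, ← h2]
    exact congrArg (fun z : T => ((α₁ z : T) : Ω)) (Subtype.ext (hβe ⟨x, hx⟩)).symm
  rw [sup_of_le_right hTS] at ha'
  have hM' : M' = S := Subgroup.eq_of_le_of_card_ge ha'.le_right ha'.card_eq.le
  rw [hM'] at ha'
  refine ⟨a', ha', ⟨α₁, hα₁⟩, ?_, fun x => ((hagree x x.2).trans (hae x)).symm⟩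
  obtain ⟨k₀, hk₀, rfl⟩ := hκ
  rw [show α = ⟨α₁, hα₁⟩ * k₀ from Subtype.ext hακ, map_mul, MonoidHom.mem_ker.1 hk₀, mul_one]

/-- The automorphisms of `S` in the subsystem. -/
theorem chi_one_of_charSystem (h : CharData p F E χ) {a : Ω → Ω} (ha : Mor (charSystem χ E) S S a) :
    Chi χ a 1 := by
  have haT := h.top_restrict (charSystem_mor_toF ha)
  obtain ⟨d, hd⟩ := h.chi_exists haT
  have h1 := h.dec_of_charSystem h.goodPair_top ha
  rw [inf_eq_right.2 h.top_le] at h1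
  have hc : E.IsCentric T := by simpa [inf_eq_right.2 h.top_le] using h.goodPair_top.2
  rwa [h.dec_unique hc h1 (h.dec_of_top le_rfl haT hd)]

theorem charSystem_of_chi_one (h : CharData p F E χ) {a : Ω → Ω} (ha : Mor F S S a) (hd : Chi χ a 1) :
    Mor (charSystem χ E) S S a :=
  mor_charSystem h.goodPair_top ha ((h.dec_of_top inf_le_right (h.top_restrict ha) hd))

/-- The subsystem is invariant under the automorphisms of `S`. -/
theorem transport_charSystem (h : CharData p F E χ) {a b : Ω → Ω} (ha : Mor F S S a)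
    (hb : Mor F S S b) (hba : ∀ x ∈ S, b (a x) = x) {P Q : Subgroup Ω} {f : Ω → Ω}
    (hf : Mor (charSystem χ E) P Q f) :
    ∃ P' Q', Mor F P P' a ∧ Mor F Q Q' a ∧ Mor (charSystem χ E) P' Q' (fun y => a (f (b y))) := by
  -- images under `a` of images
  have himg : ∀ {P P' Q Q' : Subgroup Ω} {f : Ω → Ω}, Q ≤ S → Mor F P Q f → Mor F P P' a →
      Mor (charSystem χ E) P' Q' (fun y => a (f (b y))) → Mor F Q Q' a := by
    intro P P' Q Q' f hQ hf hPP' hg
    refine ha.restrict_eq hQ (fun y hy => ?_) fun z hz => ?_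
    · obtain ⟨x, hx, rfl⟩ := hf.surj hy
      have := hg.map_mem (hPP'.map_mem hx)
      rwa [hba x (hf.le_left hx)] at this
    · obtain ⟨w, hw, rfl⟩ := hg.surj hz
      obtain ⟨x, hx, rfl⟩ := hPP'.surj hw
      exact ⟨f x, hf.map_mem hx, by rw [hba x (hf.le_left hx)]⟩
  let D : FusionSystem S :=
    { Hom := fun P => {φ | φ ∈ F.Hom P ∧ ∀ f : Ω → Ω, (∀ x : P, f x = φ x) →
        ∃ P', Mor F P P' a ∧ ∃ Q', Mor (charSystem χ E) P' Q' (fun y => a (f (b y)))}
      le_of_mem := fun h => F.le_of_mem h.1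
      injective_of_mem := fun h => F.injective_of_mem h.1
      conj_mem := by
        intro P g hP hg
        refine ⟨F.conj_mem hP hg, fun f hf => ?_⟩
        obtain ⟨P', hP'S, hPP'⟩ := ha.restrict hP
        refine ⟨P', hPP', _, conjHom P' (a g), (charSystem χ E).conj_mem hP'S (ha.map_mem hg), rfl, fun y => ?_⟩
        obtain ⟨x, hx, hxy⟩ := hPP'.surj y.2
        show a g * (y : Ω) * (a g)⁻¹ = a (f (b y))
        rw [← hxy, hba x (hP hx), show f x = g * x * g⁻¹ from hf ⟨x, hx⟩, ha.map_conj hg (hP hx)]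
      comp_mem := by
        intro P R φ ψ h1 h2 hh
        refine ⟨F.comp_mem h1.1 h2.1 hh, fun f hf => ?_⟩
        obtain ⟨u, hu, hue⟩ := exists_mor h1.1 rfl
        obtain ⟨w, -, hwe⟩ := exists_mor h2.1 rfl
        obtain ⟨P', hPP', Q₁, hQ₁⟩ := h1.2 u hue
        obtain ⟨R', hRR', R₂, hR₂⟩ := h2.2 w hwe
        have hQ₁R' : Q₁ ≤ R' := by
          intro z hz
          obtain ⟨y, hy, rfl⟩ := hQ₁.surj hz
          obtain ⟨x, hx, rfl⟩ := hPP'.surj hy
          rw [hba x (hu.le_left hx), show u x = φ ⟨x, hx⟩ from hue ⟨x, hx⟩]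
          exact hRR'.map_mem (hh _)
        obtain ⟨Q₂, -, hQ₂⟩ := hR₂.restrict hQ₁R'
        refine ⟨P', hPP', Q₂, (hQ₂.comp hQ₁).congr fun y hy => ?_⟩
        obtain ⟨x, hx, rfl⟩ := hPP'.surj hy
        show a (w (b (a (u (b (a x)))))) = a (f (b (a x)))
        rw [hba x (hu.le_left hx), hba _ (hu.le_right (hu.map_mem hx)), show u x = φ ⟨x, hx⟩ from hue ⟨x, hx⟩,
          show w (φ ⟨x, hx⟩) = _ from hwe ⟨_, hh _⟩, show f x = _ from hf ⟨x, hx⟩]
        rfl
      inv_mem := by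
        intro P φ hφ
        refine ⟨invHom φ (F.injective_of_mem hφ.1), ⟨invHom_mem hφ.1, fun f hf => ?_⟩,
          fun x => invHom_apply φ _ x _⟩
        obtain ⟨u, hu, hue⟩ := exists_mor hφ.1 rfl
        obtain ⟨P', hPP', Q₁, hQ₁⟩ := hφ.2 u hue
        obtain ⟨g, hg, hgu, -⟩ := hQ₁.exists_inv
        refine ⟨Q₁, himg hu.le_right hu hPP' hQ₁, P', hg.congr fun z hz => ?_⟩
        obtain ⟨y, hy, rfl⟩ := hQ₁.surj hz
        rw [hgu y hy]
        obtain ⟨x, hx, rfl⟩ := hPP'.surj hy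
        rw [hba x (hu.le_left hx), hba _ (hu.le_right (hu.map_mem hx)), show u x = φ ⟨x, hx⟩ from hue ⟨x, hx⟩,
          show f (φ ⟨x, hx⟩) = x from (hf ⟨_, ⟨_, rfl⟩⟩).trans (invHom_apply φ _ ⟨x, hx⟩ _)] }
  have hfF := charSystem_mor_toF hf
  obtain ⟨φ, hφ, -, hv⟩ := hf
  obtain ⟨P', hPP', Q', hQ'⟩ := (hφ.2 D fun R ψ hψ => by
    refine ⟨hψ.1, fun g hg => ?_⟩
    obtain ⟨hψF, hR, g', hg', hd⟩ := hψ
    have hgm : Mor F R ψ.range g := ⟨ψ, hψF, rfl, fun x => (hg x).symm⟩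
    obtain ⟨R', -, hRR'⟩ := ha.restrict hgm.le_left
    obtain ⟨R'', -, hR''⟩ := ha.restrict hgm.le_right
    have hbR : Mor F R' R b := hb.restrict_eq hRR'.le_right
      (fun y hy => by
        obtain ⟨x, hx, rfl⟩ := hRR'.surj hy
        rw [hba x (hgm.le_left hx)]; exact hx)
      fun x hx => ⟨a x, hRR'.map_mem hx, hba x (hgm.le_left hx)⟩
    refine ⟨R', hRR', R'', mor_charSystem (h.goodPair_of_mor hR hRR') ((hR''.comp hgm).comp hbR) ?_⟩
    obtain ⟨δ, hδ⟩ := h.chi_exists (h.top_restrict ha)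
    have hδ' := h.chi_inv (h.top_restrict hb) hδ fun x hx => hba x (h.top_le hx)
    have h1 : Dec χ E (R ⊓ T) g 1 := hd.congr fun x hx => (hg' ⟨x, hx.1⟩).trans (hg ⟨x, hx.1⟩).symm
    have h2 := h.dec_comp (h.mor_inf hgm) h1
      (h.dec_of_top (X := ψ.range ⊓ T) inf_le_right (h.top_restrict ha) hδ)
    have h3 := h.dec_comp (h.mor_inf hbR) (h.dec_of_top inf_le_right (h.top_restrict hb) hδ') h2
    simpa using h3).2 f fun x => (hv x).symm
  exact ⟨P', Q', hPP', himg hfF.le_right hfF hPP' hQ', hQ'⟩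

/-- Every map is a map of the subsystem followed by an automorphism of `S`. -/
theorem decompose (h : CharData p F E χ) {P Q : Subgroup Ω} {f : Ω → Ω} (hf : Mor F P Q f) :
    ∃ (a f₀ : Ω → Ω) (Q₀ : Subgroup Ω), Mor F S S a ∧ Mor (charSystem χ E) P Q₀ f₀ ∧
      ∀ x ∈ P, f x = a (f₀ x) := by
  obtain ⟨φ, hφ, -, hv⟩ := hf
  revert f
  suffices H : ∀ f : Ω → Ω, (∀ x : P, f x = φ x) → ∃ (a f₀ : Ω → Ω) (Q₀ : Subgroup Ω),
      Mor F S S a ∧ Mor (charSystem χ E) P Q₀ f₀ ∧ ∀ x ∈ P, f x = a (f₀ x) from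
    fun {f} hv => H f fun x => (hv x).symm
  refine H94.alperin_induction_step h.isPGroup h.saturated (fun P φ => ∀ f : Ω → Ω, (∀ x : P, f x = φ x) →
    ∃ (a f₀ : Ω → Ω) (Q₀ : Subgroup Ω), Mor F S S a ∧ Mor (charSystem χ E) P Q₀ f₀ ∧
      ∀ x ∈ P, f x = a (f₀ x)) ?_ ?_ ?_ hφ
  · intro P R hle φ hφ hC f hf
    obtain ⟨u, hu, hue⟩ := exists_mor hφ rfl
    obtain ⟨a, f₀, Q₀, ha, hf₀, he⟩ := hC u hue
    obtain ⟨R₀, -, hR₀⟩ := hf₀.restrict hle
    refine ⟨a, f₀, R₀, ha, hR₀, fun x hx => ?_⟩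
    rw [show f x = _ from hf ⟨x, hx⟩, ← he x (hle hx), show u x = _ from hue ⟨x, hle hx⟩]
    rfl
  · intro P R φ ψ hφ hψ h1 h2 hh f hf
    obtain ⟨u, hu, hue⟩ := exists_mor hφ rfl
    obtain ⟨w, hw, hwe⟩ := exists_mor hψ rfl
    obtain ⟨a, f₀, Q₀, ha, hf₀, he⟩ := h1 u hue
    obtain ⟨c, g₀, R₀, hc, hg₀, hge⟩ := h2 w hwe
    obtain ⟨ai, hai, haia, haai⟩ := ha.exists_inv
    obtain ⟨R', R₀', hRR', -, hg'⟩ := h.transport_charSystem hai ha haai hg₀
    have hQ₀ : Q₀ ≤ R' := by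
      intro z hz
      obtain ⟨x, hx, rfl⟩ := hf₀.surj hz
      rw [← haia (f₀ x) (hf₀.le_right hz), ← he x hx, show u x = _ from hue ⟨x, hx⟩]
      exact hRR'.map_mem (hh _)
    obtain ⟨Q₁, -, hQ₁⟩ := hg'.restrict hQ₀
    refine ⟨_, _, Q₁, hc.comp ha, hQ₁.comp hf₀, fun x hx => ?_⟩
    show f x = c (a (ai (g₀ (a (f₀ x)))))
    have hux : a (f₀ x) = φ ⟨x, hx⟩ := (he x hx).symm.trans (hue ⟨x, hx⟩)
    rw [hux, haai _ (hg₀.le_right (hg₀.map_mem (hh _))), ← hge _ (hh _),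
      show f x = _ from hf ⟨x, hx⟩, show w (φ ⟨x, hx⟩) = _ from hwe ⟨_, hh _⟩]
    rfl
  · intro U hU hc hr _ α hα f hf
    have hgood : GoodPair F E U := ⟨hc, Classical.byContradiction fun hne => by
      obtain ⟨φ', hφ', x, hx, hxn⟩ :=
        exists_opMem_conj h.isPGroup h.saturated h.invariant.1 h.closed hc hne
      exact not_isRadical_of_opMem_conj hc hφ' hx hxn hr⟩
    have hαF := (H96.mem_autGroup F hU.1).1 hα
    have hfm : Mor F U (U.subtype.comp α.toMonoidHom).range f := ⟨_, hαF, rfl, fun x => (hf x).symm⟩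
    obtain ⟨d, hd⟩ := h.dec_exists inf_le_right (h.mor_inf hfm)
    obtain ⟨a, ha, had⟩ := h.exists_lift d
    obtain ⟨ai, hai, haia, haai⟩ := ha.exists_inv
    obtain ⟨Q₀, -, hQ₀⟩ := hai.restrict hfm.le_right
    have hg := hQ₀.comp hfm
    have hd1 := h.dec_comp (h.mor_inf hfm) hd (h.dec_of_top inf_le_right (h.top_restrict hai)
      (h.chi_inv (h.top_restrict hai) had fun x hx => haia x (h.top_le hx)))
    rw [inv_mul_cancel] at hd1
    exact ⟨a, _, Q₀, ha, mor_charSystem hgood hg hd1,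
      fun x hx => (haai _ (hfm.le_right (hfm.map_mem hx))).symm⟩

/-- Fully normalized conjugates inside the subsystem. -/
theorem exists_fullyNormalized_charSystem (h : CharData p F E χ) {P : Subgroup Ω} (hP : P ≤ S) :
    ∃ (Q : Subgroup Ω) (f : Ω → Ω), Mor (charSystem χ E) P Q f ∧ F.IsFullyNormalized Q := by
  obtain ⟨Q', hPQ', hQ'⟩ := H94.exists_fullyNormalized (F := F) hP
  obtain ⟨φ, hφ, hr⟩ := hPQ'
  obtain ⟨u, hu, -⟩ := exists_mor hφ hr
  obtain ⟨a, f₀, Q, ha, hf₀, he⟩ := h.decompose hu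
  have haQ : Mor F Q Q' a := ha.restrict_eq hf₀.le_right
    (fun z hz => by
      obtain ⟨x, hx, rfl⟩ := hf₀.surj hz
      rw [← he x hx]; exact hu.map_mem hx)
    fun z hz => by
      obtain ⟨x, hx, rfl⟩ := hu.surj hz
      exact ⟨f₀ x, hf₀.map_mem hx, (he x hx).symm⟩
  obtain ⟨ai, hai, haia, haai⟩ := ha.exists_inv
  have haiQ : Mor F Q' Q ai := hai.restrict_eq haQ.le_right
    (fun z hz => by
      obtain ⟨y, hy, rfl⟩ := haQ.surj hz
      rw [haia y (haQ.le_left hy)]; exact hy)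
    fun y hy => ⟨a y, haQ.map_mem hy, haia y (haQ.le_left hy)⟩
  obtain ⟨N', -, hN'⟩ := hai.restrict (normalizerIn_le S Q')
  have hle : N' ≤ normalizerIn S Q := by
    intro z hz
    obtain ⟨y, hy, rfl⟩ := hN'.surj hz
    exact hai.map_mem_normalizerIn haiQ haQ.le_right hy.1 hy.2
  have := finite_of_le (S := S) (P := normalizerIn S Q) inf_le_left
  refine ⟨Q, f₀, hf₀, hf₀.le_right, fun R hR => (hQ'.2 R ?_).trans
    (hN'.card_eq.le.trans (Subgroup.card_le_of_le hle))⟩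
  exact H96.isConj_trans (H96.isConj_symm haQ.isConj) hR

/-- Automorphisms of `p`-power order lie in the subsystem. -/
theorem pPower_mem (h : CharData p F E χ) {P : Subgroup Ω} (hP : P ≤ S) {α : MulAut P}
    (hα : α ∈ F.autGroup P) {k : ℕ} (hk : α ^ p ^ k = 1) : α ∈ (charSystem χ E).autGroup P := by
  obtain ⟨Q', hPQ', hQ'⟩ := H94.exists_fullyNormalized (F := F) hP
  obtain ⟨φ, hφ, hr⟩ := hPQ'
  obtain ⟨γ, hγ, -⟩ := exists_mor hφ hr
  obtain ⟨g, hg, s, hs, hgs⟩ := exists_conj_of_pPower h.isPGroup h.saturated hP hα hk hQ' hγ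
  obtain ⟨a, g₀, Q, ha, hg₀, hge⟩ := h.decompose hg
  obtain ⟨ai, hai, haia, -⟩ := ha.exists_inv
  obtain ⟨g₀i, hg₀i, hg₀i', hg₀g₀i⟩ := hg₀.exists_inv
  have hs'S : ai s ∈ S := hai.map_mem hs.1
  have hval : ∀ x : P, g₀ (α x : P) = ai s * g₀ x * (ai s)⁻¹ := by
    intro x
    have h1 := hgs x
    rw [hge _ (α x).2, hge _ x.2] at h1
    have h2 := congrArg ai h1
    rw [haia _ (hg₀.le_right (hg₀.map_mem (α x).2)),
      hai.map_conj hs.1 (ha.map_mem (hg₀.le_right (hg₀.map_mem x.2))),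
      haia _ (hg₀.le_right (hg₀.map_mem x.2))] at h2
    exact h2
  have hsQ : ai s ∈ normalizerIn S Q := by
    refine ⟨hs'S, Subgroup.mem_normalizer_iff.2 fun y => ⟨fun hy => ?_, fun hy => ?_⟩⟩
    · obtain ⟨x, hx, rfl⟩ := hg₀.surj hy
      rw [← hval ⟨x, hx⟩]
      exact hg₀.map_mem (α _).2
    · obtain ⟨z, hz, hze⟩ := hg₀.surj hy
      obtain ⟨x, hx⟩ := α.surjective ⟨z, hz⟩
      have h3 := hval x
      rw [hx, hze] at h3
      rw [mul_right_cancel (mul_left_cancel ((mul_assoc _ _ _).symm.trans (h3.trans (mul_assoc _ _ _))))]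
      exact hg₀.map_mem x.2
  have hm : Mor (charSystem χ E) P P (fun x => g₀i (ai s * g₀ x * (ai s)⁻¹)) :=
    (hg₀i.comp (mor_conj (charSystem χ E) hg₀.le_right hsQ)).comp hg₀
  obtain ⟨β, hβ, hβe⟩ := hm.exists_aut
  rw [show α = β from MulEquiv.ext fun x => Subtype.ext (by
    rw [hβe x, ← hval x, hg₀i' _ (α x).2])]
  exact hβ

theorem hasPrimeToPIndexIn (h : CharData p F E χ) : (charSystem χ E).HasPrimeToPIndexIn F p := by
  refine ⟨fun P φ hφ => hφ.1, fun P hP => ?_⟩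
  rw [Subgroup.map_le_iff_le_comap, Subgroup.closure_le]
  rintro α ⟨k, hk⟩
  refine h.pPower_mem hP α.2 (k := k) ?_
  have h1 : α ^ p ^ k = 1 := hk ▸ pow_orderOf_eq_one α
  exact congrArg Subtype.val h1

/-- The subsystem is saturated. -/
theorem isSaturated (h : CharData p F E χ) : (charSystem χ E).IsSaturated p := by
  refine isSaturated_of_family (ℋ := {P | GoodPair F E P}) h.isPGroup ?_ ?_ ?_ ?_
  · intro P hP Q hQ
    obtain ⟨φ, hφ, hr⟩ := charSystem_isConj hQ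
    obtain ⟨u, hu, -⟩ := exists_mor hφ hr
    exact h.goodPair_of_mor hP hu
  · intro P hP
    obtain ⟨Q, f, hf, hQ⟩ := h.exists_fullyNormalized_charSystem hP.1.1
    obtain ⟨⟨-, R, hRe⟩, -, hrec⟩ := H94.fullyNormalized_spec h.isPGroup h.saturated hQ
    have hQgood := h.goodPair_of_mor hP (charSystem_mor_toF hf)
    have hQS := hQ.1
    refine ⟨Q, hf.isConj, ⟨hQS, ?_⟩, hQS, fun R' φ hφ hφr => ?_⟩
    · have := finite_autGroup (F := F) hQS
      have := finite_autGroup (F := charSystem χ E) hQS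
      have hA : autInducedBy S Q ≤ (charSystem χ E).autGroup Q := autInducedBy_le_autGroup _ hQS
      have hB : (charSystem χ E).autGroup Q ≤ F.autGroup Q := fun α hα =>
        (H96.mem_autGroup F hQS).2 ((H96.mem_autGroup _ hQS).1 hα).1
      have hp : IsPGroup p ((autInducedBy S Q).subgroupOf ((charSystem χ E).autGroup Q)) :=
        (isPGroup_autInducedBy h.isPGroup Q).comap_of_injective _ (Subgroup.subtype_injective _)
      refine ⟨hp.toSylow fun hd => R.not_dvd_index ?_, rfl⟩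
      rw [hRe]
      exact hd.trans ⟨_, (Subgroup.relIndex_mul_relIndex _ _ _ hA hB).symm⟩
    · obtain ⟨ψ, hψ, hψe⟩ := hrec R' φ hφ.1 hφr
      refine ⟨ψ, ?_, hψe⟩
      obtain ⟨w, hw, hwe⟩ := exists_mor hψ rfl
      obtain ⟨u, hu, hue⟩ := exists_mor hφ hφr
      obtain ⟨v, hv, -, -⟩ := (charSystem_mor_toF hu).exists_inv
      have hR' : GoodPair F E R' := h.goodPair_of_mor hQgood hv
      have hle : R' ≤ extender S R' φ := le_extender hφ.1
      have hD : GoodPair F E (extender S R' φ) := h.goodPair_of_le hR' hle fun g hg => (H96.mem_extender.1 hg).1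
      obtain ⟨d, hd⟩ := h.dec_exists inf_le_right (h.mor_inf hw)
      have h1 : Dec χ E (R' ⊓ T) u d := (hd.restrict (inf_le_inf_right T hle)).congr fun x hx => by
        rw [show w x = _ from hwe ⟨x, hle hx.1⟩, show u x = _ from hue ⟨x, hx.1⟩]
        exact hψe x hx.1 _
      rw [h.dec_unique hR'.2 h1 (h.dec_of_charSystem hR' hu)] at hd
      obtain ⟨ψ', hψ', -, hψ'e⟩ := mor_charSystem hD hw hd
      exact H96.mem_congr _ hψ' fun x => (hwe x).symm.trans (hψ'e x).symm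
  · intro D hD P φ hφ
    refine hφ.2 D fun Q ψ hψ => hD Q hψ.2.1 ⟨hψ.1, fun D' hD' => hD' Q ψ hψ⟩
  · intro P hPc hPH
    have hPS := hPc.1
    have hPF : F.IsCentric P := by
      refine ⟨hPS, fun R hR => ?_⟩
      obtain ⟨φ, hφ, hr⟩ := hR
      obtain ⟨u, hu, -⟩ := exists_mor hφ hr
      obtain ⟨a, f₀, Q₀, ha, hf₀, he⟩ := h.decompose hu
      obtain ⟨ai, hai, haia, haai⟩ := ha.exists_inv
      intro c hc
      have hmem : ai c ∈ centralizerIn S Q₀ := by
        refine ⟨hai.map_mem hc.1, Subgroup.mem_centralizer_iff.2 fun q hq => ?_⟩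
        obtain ⟨x, hx, rfl⟩ := hf₀.surj hq
        have hm := hu.map_mem hx
        rw [← haia (f₀ x) (hf₀.le_right hq), ← he x hx, ← hai.map_mul (hu.le_right hm) hc.1,
          ← hai.map_mul hc.1 (hu.le_right hm), Subgroup.mem_centralizer_iff.1 hc.2 _ hm]
      obtain ⟨x, hx, hxc⟩ := hf₀.surj (hPc.2 Q₀ hf₀.isConj hmem)
      have : c = u x := by rw [he x hx, hxc, haai c hc.1]
      rw [this]
      exact hu.map_mem hx
    obtain ⟨φ, hφ, x, hx, hxn⟩ := exists_opMem_conj h.isPGroup h.saturated h.invariant.1 h.closed hPF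
      fun hc => hPH ⟨hPF, hc⟩
    obtain ⟨u, hu, -⟩ := exists_mor hφ rfl
    obtain ⟨a, f₀, Q, ha, hf₀, he⟩ := h.decompose hu
    obtain ⟨ai, hai, haia, -⟩ := ha.exists_inv
    have haiR : Mor F φ.range Q ai := hai.restrict_eq hu.le_right
      (fun z hz => by
        obtain ⟨y, hy, rfl⟩ := hu.surj hz
        rw [he y hy, haia _ (hf₀.le_right (hf₀.map_mem hy))]
        exact hf₀.map_mem hy)
      fun z hz => by
        obtain ⟨y, hy, rfl⟩ := hf₀.surj hz
        exact ⟨u y, hu.map_mem hy, by rw [he y hy, haia _ (hf₀.le_right hz)]⟩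
    obtain ⟨hs'S, β, hβ, hβe⟩ := hx.map hai haiR hu.le_right hx.1
    refine ⟨Q, hf₀.isConj, fun hle => hxn ?_⟩
    have hQS := hf₀.le_right
    have hβ' : β ∈ opAut (charSystem χ E) p Q := by
      refine le_opAut (N := opAut F p Q ⊓ (charSystem χ E).autGroup Q) inf_le_right ?_ ?_ ⟨hβ, ?_⟩
      · rintro α ⟨h1, h2⟩ b hb
        exact ⟨conj_mem_opAut h1 ((H96.mem_autGroup F hQS).2 ((H96.mem_autGroup _ hQS).1 hb).1),
          mul_mem (mul_mem hb h2) (Subgroup.inv_mem _ hb)⟩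
      · exact (isPGroup_opAut hQS).to_le inf_le_left
      · exact autInducedBy_le_autGroup _ hQS (H96.mem_autInducedBy.2 ⟨_, hs'S, hβe⟩)
    have hinn : β ∈ Inn Q := hle ⟨H96.mem_autInducedBy.2 ⟨_, hs'S, hβe⟩, hβ'⟩
    obtain ⟨q, hq, hqe⟩ := H96.mem_inn_iff.1 hinn
    have hc : q⁻¹ * ai x ∈ centralizerIn S Q := by
      refine ⟨S.mul_mem (S.inv_mem (hQS hq)) hs'S, Subgroup.mem_centralizer_iff.2 fun y hy => ?_⟩
      have h1 := (hβe ⟨y, hy⟩).symm.trans (hqe ⟨y, hy⟩)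
      calc y * (q⁻¹ * ai x) = q⁻¹ * (q * y * q⁻¹) * ai x := by group
        _ = q⁻¹ * (ai x * y * (ai x)⁻¹) * ai x := by rw [← h1]
        _ = q⁻¹ * ai x * y := by group
    have h2 := Q.mul_mem hq (hPc.2 Q hf₀.isConj hc)
    rw [mul_inv_cancel_left] at h2
    exact (hai.mem_iff haiR hu.le_right hx.1).1 h2

/-- `E` lies in the subsystem. -/
theorem le_charSystem (h : CharData p F E χ) : E.IsSubsystemOf (charSystem χ E) := by
  have hTS := h.top_le
  have := finite_of_le hTS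
  have hTp : IsPGroup p T := h.isPGroup.to_le hTS
  intro P φ hφ
  refine H94.alperin_induction_step hTp h.saturatedE (fun P φ => φ ∈ (charSystem χ E).Hom P)
    (fun _ _ hle _ _ hC => H96.res_mem _ hC hle)
    (fun _ _ _ _ _ _ h1 h2 hh => (charSystem χ E).comp_mem h1 h2 hh) ?_ hφ
  intro U hU hUc _ _ α hα
  have hUT := hU.1
  have hUS := hUT.trans hTS
  obtain ⟨Q, f, hf, hQ⟩ := h.exists_fullyNormalized_charSystem hUS
  have hfF := charSystem_mor_toF hf
  obtain ⟨-, hrec⟩ := H94.fullyNormalized_spec h.isPGroup h.saturated hQ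
  have hQE : E.IsCentric Q := h.centric_image hUc hfF
  have hQT : Q ≤ T := hQE.1
  -- transport `α` to `Q`
  obtain ⟨fi, hfi, hfif, hffi⟩ := hf.exists_inv
  obtain ⟨ua, hua, huae⟩ := exists_mor_of_aut (F := E) hUT hα
  obtain ⟨ψ, hψ, hψr, hψv⟩ := id hfF
  obtain ⟨η, hη, hηe⟩ := H94.stronglyInvariant_of_invariant h.invariant U U le_rfl hUT _
    ((H96.mem_autGroup E hUT).1 hα) (fun x => (α x).2) ψ hψ
  have heq : (U.subgroupOf U).map ψ = Q := by
    rw [Subgroup.subgroupOf_self, ← MonoidHom.range_eq_map, hψr]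
  set e := fun y => f (ua (fi y)) with hedef
  have he : Mor E Q Q e := by
    obtain ⟨w, hw, hwe⟩ := exists_mor hη rfl
    generalize hR₁ : η.range = R₁ at hw
    rw [heq] at hw
    have hweq : ∀ y ∈ Q, w y = e y := by
      intro y hy
      obtain ⟨x, hx, rfl⟩ := hf.surj hy
      have hm : ψ ⟨x, hx⟩ ∈ (U.subgroupOf U).map ψ := heq.symm ▸ hψr.le ⟨_, rfl⟩
      have h1 := hηe ⟨x, hx⟩ hm
      have h2 : w (f x) = η ⟨ψ ⟨x, hx⟩, hm⟩ := by
        rw [← hψv ⟨x, hx⟩]; exact hwe ⟨_, hm⟩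
      rw [h2]
      refine h1.trans ?_
      show ψ ⟨((α ⟨x, hx⟩ : U) : Ω), _⟩ = f (ua (fi (f x)))
      rw [hψv, hfif x hx, show ua x = _ from huae ⟨x, hx⟩]
    have hr : R₁ = Q := by
      have := finite_of_le hUS
      have := finite_of_le hQ.1
      refine Subgroup.eq_of_le_of_card_ge (fun z hz => ?_) ?_
      · obtain ⟨y, hy, rfl⟩ := hw.surj hz
        rw [hweq y hy]
        exact hfF.map_mem (hua.map_mem (hfi.map_mem hy))
      · rw [hw.card_eq]
    rw [hr] at hw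
    exact hw.congr hweq
  -- extend over `Q C_S(Q)`
  set C := centralizerIn S Q with hCdef
  obtain ⟨e', M', he', hagree, -⟩ := (h.toF he).extend hrec (M := C) fun m hm => by
    refine ⟨⟨hm.1, Subgroup.centralizer_le_normalizer _ hm.2⟩, 1, S.one_mem, fun x hx => ?_⟩
    rw [← Subgroup.mem_centralizer_iff.1 hm.2 x hx, mul_inv_cancel_right]
    simp
  have hQS := hQ.1
  have hQC : Q ≤ Subgroup.normalizer (C : Set Ω) := by
    have key : ∀ s ∈ Q, ∀ c ∈ C, s * c * s⁻¹ ∈ C := by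
      intro s hs c hc
      refine ⟨S.mul_mem (S.mul_mem (hQS hs) hc.1) (S.inv_mem (hQS hs)), ?_⟩
      rw [Subgroup.mem_centralizer_iff.1 hc.2 s hs, mul_inv_cancel_right]
      exact hc.2
    intro s hs
    rw [Subgroup.mem_normalizer_iff]
    refine fun y => ⟨key s hs y, fun hy => ?_⟩
    simpa [mul_assoc] using key s⁻¹ (Q.inv_mem hs) _ hy
  have hP₁S : Q ⊔ C ≤ S := sup_le hQS inf_le_left
  have hinf : (Q ⊔ C) ⊓ T = Q := by
    refine le_antisymm (fun x hx => ?_) (le_inf le_sup_left hQT)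
    obtain ⟨q, hq, c, hc, rfl⟩ : ∃ q ∈ Q, ∃ c ∈ C, q * c = x := by
      have h6 : x ∈ ((Q ⊔ C : Subgroup Ω) : Set Ω) := hx.1
      rw [Subgroup.coe_mul_of_left_le_normalizer_right Q C hQC] at h6
      exact h6
    have hcT : c ∈ T := by
      have := T.mul_mem (T.inv_mem (hQT hq)) hx.2
      rwa [inv_mul_cancel_left] at this
    exact Q.mul_mem hq (hQE.2 Q (H96.isConj_refl E hQT) ⟨hcT, hc.2⟩)
  have hfc := H94.receptive_isFullyCentralized hrec
  have hgood : GoodPair F E (Q ⊔ C) := by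
    refine ⟨⟨hP₁S, fun R hR z hz => ?_⟩, by rw [hinf]; exact hQE⟩
    obtain ⟨θ, hθ, hθr⟩ := hR
    obtain ⟨g, hg, -⟩ := exists_mor hθ hθr
    obtain ⟨Q₁, hQ₁R, hgQ⟩ := hg.restrict (le_sup_left : Q ≤ Q ⊔ C)
    obtain ⟨C', hC'R, hgC⟩ := hg.restrict (le_sup_right : C ≤ Q ⊔ C)
    have hle : C' ≤ centralizerIn S Q₁ := by
      intro y hy
      obtain ⟨c, hc, rfl⟩ := hgC.surj hy
      refine hg.map_mem_centralizerIn hgQ le_sup_left (Subgroup.mem_sup_right hc) fun r hr => ?_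
      rw [← Subgroup.mem_centralizer_iff.1 hc.2 r hr, mul_inv_cancel_right]
    have := finite_of_le (S := S) (P := centralizerIn S Q₁) inf_le_left
    have heq' : C' = centralizerIn S Q₁ :=
      Subgroup.eq_of_le_of_card_ge hle ((hfc.2 Q₁ hgQ.isConj).trans hgC.card_eq.le)
    refine hC'R (heq' ▸ ?_)
    exact ⟨hz.1, Subgroup.centralizer_le hQ₁R hz.2⟩
  have hd : Dec χ E ((Q ⊔ C) ⊓ T) e' 1 := by
    rw [hinf]
    exact (h.dec_of_E he).congr fun x hx => (hagree x hx).symm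
  have heF : Mor (charSystem χ E) Q Q e := ((mor_charSystem hgood he' hd).restrict_eq le_sup_left
    (fun x hx => by rw [hagree x hx]; exact he.map_mem hx) fun y hy => by
      obtain ⟨x, hx, rfl⟩ := he.surj hy
      exact ⟨x, hx, hagree x hx⟩).congr hagree
  obtain ⟨β, hβ, hβr, hβv⟩ := (hfi.comp heF).comp hf
  refine H96.mem_congr _ hβ fun x => ?_
  show ((α x : U) : Ω) = β x
  rw [hβv]
  show _ = fi (f (ua (fi (f x))))
  rw [hfif x x.2, hfif _ (hua.map_mem x.2)]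
  exact (huae x).symm

end CharData

end Cfsg.Agent.H93
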