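import Cfsg.Agent.H93.Group
import Cfsg.Agent.H96.CoreCenter
import Cfsg.Agent.H19.Cores
import Cfsg.Agent.H22.PResidual
import Cfsg.Prelude.Def_CaseTheorems
import Mathlib.GroupTheory.SchurZassenhaus

/-!
The centre of the fusion system at the prime `2`, given Glauberman's `Z*`-theorem for involutions as a
hypothesis.
-/

set_option autoImplicit false

namespace Cfsg.Agent.H93

open Cfsg Cfsg.FusionSystem
open scoped commutatorElement

universe u

/-- The statement of Glauberman's `Z*`-theorem in a fixed universe. -/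
def ZStarStatement : Prop :=
  ∀ {G : Type u} [Group G] [Finite G] (P : Sylow 2 G) (x : G), orderOf x = 2 → x ∈ P →
    (∀ g : G, g * x * g⁻¹ ∈ P → g * x * g⁻¹ = x) →
    ∃ N : Subgroup G, N.Normal ∧ Odd (Nat.card N) ∧ ∀ g : G, (x * g * x⁻¹ * g⁻¹) ∈ N

variable {G : Type u} [Group G]

/-- Every conjugation between subgroups of `S` can be realized by an element centralizing `z`. -/
def CentralElt (S : Subgroup G) (z : G) : Prop :=
  z ∈ S ∧ ∀ (A : Subgroup G) (g : G), A ≤ S → (∀ a ∈ A, g * a * g⁻¹ ∈ S) →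
    ∃ g', g' * z * g'⁻¹ = z ∧ ∀ a ∈ A, g' * a * g'⁻¹ = g * a * g⁻¹

variable {S : Subgroup G} {z : G}

theorem CentralElt.isolated (h : CentralElt S z) {m : ℕ} {g : G} (hg : g * z ^ m * g⁻¹ ∈ S) :
    g * z ^ m * g⁻¹ = z ^ m := by
  obtain ⟨g', h1, h2⟩ := h.2 (Subgroup.zpowers (z ^ m)) g
    (Subgroup.zpowers_le.2 (S.pow_mem h.1 m)) (by
      rintro _ ⟨k, rfl⟩
      show g * (z ^ m) ^ k * g⁻¹ ∈ S
      rw [← conj_zpow]
      exact S.zpow_mem hg k)
  rw [← h2 _ (Subgroup.mem_zpowers _), ← conj_pow, h1]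

theorem CentralElt.comm (h : CentralElt S z) {m : ℕ} {s : G} (hs : s ∈ S) :
    s * z ^ m * s⁻¹ = z ^ m :=
  h.isolated (S.mul_mem (S.mul_mem hs (S.pow_mem h.1 m)) (S.inv_mem hs))

theorem odd_card_oddCore [Finite G] : Odd (Nat.card (oddCore G)) :=
  Nat.coprime_two_right.1 (H19.pPrimeCore_coprime 2)

theorem le_oddCore {N : Subgroup G} (hn : N.Normal) (h : Odd (Nat.card N)) : N ≤ oddCore G :=
  H19.le_pPrimeCore hn (Nat.coprime_two_right.2 h)

theorem eq_one_of_two_odd [Finite G] {T N : Subgroup G} (hT : IsPGroup 2 T) (hN : Odd (Nat.card N))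
    {x : G} (hx : x ∈ T) (hx' : x ∈ N) : x = 1 := by
  have : x ∈ T ⊓ N := ⟨hx, hx'⟩
  rwa [H19.inf_eq_bot_of_isPGroup_coprime hT (Nat.coprime_two_right.2 hN), Subgroup.mem_bot] at this

/-- Two congruent conjugate `2`-elements centralizing `A` are conjugate by an element of `N ∩ C(A)`. -/
theorem exists_conj_of_congr [Finite G] {N : Subgroup G} [N.Normal] (hN : Odd (Nat.card N))
    (hz : IsPGroup 2 (Subgroup.zpowers z)) {A : Subgroup G} (hzA : z ∈ Subgroup.centralizer (A : Set G))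
    {g : G} (hcA : g * z * g⁻¹ ∈ Subgroup.centralizer (A : Set G))
    (hmod : g * z * g⁻¹ * z⁻¹ ∈ N) :
    ∃ c ∈ N, c ∈ Subgroup.centralizer (A : Set G) ∧ c * z * c⁻¹ = g * z * g⁻¹ := by
  set z' := g * z * g⁻¹ with hz'
  set C := Subgroup.centralizer (A : Set G) with hC
  set T := Subgroup.zpowers z with hT
  set M := T ⊔ (N ⊓ C) with hM
  have hTn : T ≤ Subgroup.normalizer ((N ⊓ C : Subgroup G) : Set G) := by
    refine Subgroup.zpowers_le.2 (Subgroup.mem_normalizer_iff.2 fun x => ?_)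
    constructor
    · rintro ⟨h1, h2⟩
      exact ⟨‹N.Normal›.conj_mem x h1 z, C.mul_mem (C.mul_mem hzA h2) (C.inv_mem hzA)⟩
    · rintro ⟨h1, h2⟩
      refine ⟨by simpa [mul_assoc] using ‹N.Normal›.conj_mem _ h1 z⁻¹, ?_⟩
      simpa [mul_assoc] using C.mul_mem (C.mul_mem (C.inv_mem hzA) h2) hzA
  have hdec : ∀ x ∈ M, ∃ t ∈ T, ∃ n ∈ N ⊓ C, n * t = x := by
    intro x hx
    rw [← SetLike.mem_coe, hM, Subgroup.coe_mul_of_left_le_normalizer_right T _ hTn] at hx
    obtain ⟨t, ht, n, hn, rfl⟩ := hx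
    exact ⟨t, ht, t * n * t⁻¹, (Subgroup.mem_normalizer_iff.1 (hTn ht) n).1 hn, by simp [mul_assoc]⟩
  have hmax : ∀ U ≤ M, IsPGroup 2 U → Nat.card U ≤ Nat.card T := by
    intro U hU hU2
    let f : U → T := fun x => ⟨(hdec x (hU x.2)).choose, (hdec x (hU x.2)).choose_spec.1⟩
    refine Nat.card_le_card_of_injective f fun x y hxy => ?_
    obtain ⟨n, hn, hne⟩ := (hdec x (hU x.2)).choose_spec.2
    obtain ⟨m, hm, hme⟩ := (hdec y (hU y.2)).choose_spec.2
    have e : (hdec x (hU x.2)).choose = (hdec y (hU y.2)).choose := congrArg Subtype.val hxy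
    have hxy' : (x : G) * (y : G)⁻¹ = n * m⁻¹ := by
      rw [← hne, ← hme, e]; simp [mul_assoc]
    have := eq_one_of_two_odd hU2 hN (U.mul_mem x.2 (U.inv_mem y.2))
      (hxy' ▸ N.mul_mem hn.1 (N.inv_mem hm.1))
    exact Subtype.ext (mul_inv_eq_one.1 this)
  have hz'M : z' ∈ M := by
    have h1 : z' * z⁻¹ ∈ N ⊓ C := ⟨hmod, C.mul_mem hcA (C.inv_mem hzA)⟩
    have := M.mul_mem (Subgroup.mem_sup_right h1) (Subgroup.mem_sup_left (Subgroup.mem_zpowers z))
    simpa using this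
  have hz2 : IsPGroup 2 (Subgroup.zpowers z') := by
    have e : Subgroup.zpowers z' = T.map (MulAut.conj g).toMonoidHom := by
      rw [hT, MonoidHom.map_zpowers]; rfl
    rw [e]
    exact hz.map _
  have : Fact (Nat.Prime 2) := ⟨Nat.prime_two⟩
  obtain ⟨m, hm, hle⟩ := exists_conj_le le_sup_left hz hmax (Subgroup.zpowers_le.2 hz'M) hz2
  obtain ⟨t₀, ht₀, n, hn, hne⟩ := hdec m⁻¹ (M.inv_mem hm)
  have hmz : m * z' * m⁻¹ ∈ T := hle ⟨z', Subgroup.mem_zpowers _, rfl⟩
  set t := t₀ * (m * z' * m⁻¹) * t₀⁻¹ with ht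
  have htT : t ∈ T := T.mul_mem (T.mul_mem ht₀ hmz) (T.inv_mem ht₀)
  have hze : n * t * n⁻¹ = z' := by
    rw [ht]
    calc n * (t₀ * (m * z' * m⁻¹) * t₀⁻¹) * n⁻¹ = (n * t₀) * (m * z' * m⁻¹) * (n * t₀)⁻¹ := by
          simp [mul_assoc]
      _ = z' := by rw [hne]; simp [mul_assoc]
  have htz : t = z := by
    refine mul_inv_eq_one.1 (eq_one_of_two_odd hz hN (T.mul_mem htT (T.inv_mem (Subgroup.mem_zpowers z))) ?_)
    have h1 : t * n⁻¹ * t⁻¹ ∈ N := ‹N.Normal›.conj_mem _ (N.inv_mem hn.1) t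
    have e : t * z⁻¹ = (n * (t * n⁻¹ * t⁻¹))⁻¹ * (z' * z⁻¹) := by
      rw [← hze]; simp [mul_assoc]
    rw [e]
    exact N.mul_mem (N.inv_mem (N.mul_mem hn.1 h1)) hmod
  exact ⟨n, hn.1, hn.2, htz ▸ hze⟩

/-- The main induction: such a `2`-element is central modulo the odd core. -/
theorem commutator_mem_oddCore (hZ : ZStarStatement.{u}) :
    ∀ (n : ℕ) (G : Type u) [Group G] [Finite G] (S : Sylow 2 G) (z : G), Nat.card G = n →
      CentralElt (S : Subgroup G) z → ∀ g, z * g * z⁻¹ * g⁻¹ ∈ oddCore G := by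
  intro n
  induction n using Nat.strong_induction_on with
  | _ n ih =>
  intro G _ _ S z hn hz
  have h2 : Fact (Nat.Prime 2) := ⟨Nat.prime_two⟩
  by_cases hz1 : z = 1
  · intro g; simp [hz1]
  obtain ⟨j, hj⟩ : ∃ j, orderOf z = 2 ^ (j + 1) := by
    obtain ⟨k, hk⟩ := S.isPGroup' ⟨z, hz.1⟩
    obtain ⟨i, -, hi⟩ := (Nat.dvd_prime_pow Nat.prime_two).1
      (orderOf_dvd_of_pow_eq_one (congrArg Subtype.val hk : z ^ 2 ^ k = 1))
    rcases i with _ | i
    · exact absurd (orderOf_eq_one_iff.1 (by simpa using hi)) hz1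
    · exact ⟨i, hi⟩
  set x := z ^ 2 ^ j with hxdef
  have hxo : orderOf x = 2 := by
    rw [hxdef, orderOf_pow, hj, Nat.gcd_eq_right (pow_dvd_pow 2 (Nat.le_succ j)),
      Nat.pow_div (Nat.le_succ j) two_pos]
    simp
  have hxS : x ∈ (S : Subgroup G) := Subgroup.pow_mem _ hz.1 _
  have hx2 : IsPGroup 2 (Subgroup.zpowers x) := S.isPGroup'.to_le (Subgroup.zpowers_le.2 hxS)
  obtain ⟨N, hNn, hNo, hN⟩ := hZ S x hxo hxS fun g hg => hz.isolated hg
  have hNle : N ≤ oddCore G := le_oddCore hNn hNo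
  let C := Subgroup.centralizer ({x} : Set G)
  have hmemC : ∀ {c : G}, c ∈ C ↔ c * x * c⁻¹ = x := by
    intro c
    rw [Subgroup.mem_centralizer_singleton_iff, mul_inv_eq_iff_eq_mul]
  have hSC : (S : Subgroup G) ≤ C := fun s hs => hmemC.2 (hz.comm hs)
  have hzC : z ∈ C := hSC hz.1
  have hfr : ∀ g, ∃ m ∈ N, ∃ c ∈ C, g = m * c := by
    intro g
    have hmod : g * x * g⁻¹ * x⁻¹ ∈ N := by
      have := N.inv_mem (hN g)
      simpa [mul_assoc] using this
    obtain ⟨m, hm, -, hme⟩ := exists_conj_of_congr (N := N) (A := ⊥) hNo hx2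
      (by simp [Subgroup.mem_centralizer_iff]) (by simp [Subgroup.mem_centralizer_iff]) hmod
    refine ⟨m, hm, m⁻¹ * g, hmemC.2 ?_, by simp⟩
    calc m⁻¹ * g * x * (m⁻¹ * g)⁻¹ = m⁻¹ * (g * x * g⁻¹) * m := by simp [mul_assoc]
      _ = x := by rw [← hme]; simp [mul_assoc]
  -- the quotient of `C` by `⟨x⟩`
  let xC : C := ⟨x, hSC hxS⟩
  let U : Subgroup C := Subgroup.zpowers xC
  have hUc : ∀ (v : C), v ∈ U → ∀ c : C, c * v = v * c := by
    rintro _ ⟨k, rfl⟩ c
    exact ((show Commute c xC from Subtype.ext (mul_inv_eq_iff_eq_mul.1 (hmemC.1 c.2))).zpow_right k).eq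
  have hUn : U.Normal := ⟨fun v hv c => by rw [hUc v hv c, mul_inv_cancel_right]; exact hv⟩
  have hUcard : Nat.card U = 2 := by
    rw [Nat.card_zpowers, ← Subgroup.orderOf_coe]; exact hxo
  let zC : C := ⟨z, hzC⟩
  let π := QuotientGroup.mk' U
  have hπ : Function.Surjective π := QuotientGroup.mk'_surjective U
  let SC : Sylow 2 C := S.subtype hSC
  let SQ : Sylow 2 (C ⧸ U) := SC.mapSurjective hπ
  have hπS : ∀ c : C, π c ∈ (SQ : Subgroup (C ⧸ U)) → (c : G) ∈ (S : Subgroup G) := by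
    rintro c ⟨s, hs, he⟩
    have h1 : s⁻¹ * c ∈ U := (QuotientGroup.eq).1 he
    have h2 : ((s⁻¹ * c : C) : G) ∈ (S : Subgroup G) := by
      obtain ⟨k, hk⟩ := h1
      rw [← hk]
      exact Subgroup.zpow_mem _ hxS k
    have h3 : (s : G) ∈ (S : Subgroup G) := hs
    have := Subgroup.mul_mem _ h3 h2
    simpa using this
  have hzQ : CentralElt (SQ : Subgroup (C ⧸ U)) (π zC) := by
    refine ⟨⟨zC, hz.1, rfl⟩, fun A q hA hq => ?_⟩
    obtain ⟨c, rfl⟩ := hπ q
    obtain ⟨g', hg'z, hg'⟩ := hz.2 ((A.comap π).map C.subtype) c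
      (by rintro _ ⟨a, ha, rfl⟩; exact hπS a (hA ha))
      (by
        rintro _ ⟨a, ha, rfl⟩
        refine hπS (c * a * c⁻¹) ?_
        rw [map_mul, map_mul, map_inv]
        exact hq _ ha)
    have hg'C : g' ∈ C := hmemC.2 (by rw [hxdef, ← conj_pow, hg'z])
    refine ⟨π ⟨g', hg'C⟩, ?_, fun a ha => ?_⟩
    · rw [← map_inv, ← map_mul, ← map_mul]
      exact congrArg π (Subtype.ext hg'z)
    · obtain ⟨a, rfl⟩ := hπ a
      rw [← map_inv, ← map_inv, ← map_mul, ← map_mul, ← map_mul, ← map_mul]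
      exact congrArg π (Subtype.ext (hg' a ⟨a, ha, rfl⟩))
  have hlt : Nat.card (C ⧸ U) < n := by
    have h1 := Subgroup.card_eq_card_quotient_mul_card_subgroup U
    rw [hUcard] at h1
    have h3 : Nat.card C ≤ Nat.card G := Subgroup.card_le_card_group C
    have h4 : 0 < Nat.card (C ⧸ U) := Nat.card_pos
    omega
  have hQ := ih _ hlt (C ⧸ U) SQ (π zC) rfl hzQ
  -- the preimage of the odd core
  let M : Subgroup C := (oddCore (C ⧸ U)).comap π
  have hOQn : (oddCore (C ⧸ U)).Normal := H19.pPrimeCore_normal 2 _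
  have hMn : M.Normal := hOQn.comap π
  have hUM : U ≤ M := by
    intro v hv
    show π v ∈ oddCore (C ⧸ U)
    rw [show π v = 1 from (QuotientGroup.eq_one_iff v).2 hv]
    exact Subgroup.one_mem _
  let U' : Subgroup M := U.subgroupOf M
  have hU'card : Nat.card U' = 2 :=
    (Nat.card_congr (Subgroup.subgroupOfEquivOfLe hUM).toEquiv).trans hUcard
  have hU'idx : Odd U'.index := by
    have h1 : U'.index = Nat.card (oddCore (C ⧸ U)) := by
      have : U' = (π.comp M.subtype).ker := by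
        rw [← MonoidHom.comap_ker, QuotientGroup.ker_mk']; rfl
      rw [this, Subgroup.index_ker, MonoidHom.range_comp, Subgroup.range_subtype]
      rw [Subgroup.map_comap_eq_self_of_surjective hπ]
    rw [h1]; exact odd_card_oddCore
  have : U'.Normal := Subgroup.normal_subgroupOf
  obtain ⟨K, hK⟩ := Subgroup.exists_left_complement'_of_coprime (N := U')
    (by rw [hU'card]; exact Nat.coprime_two_left.2 hU'idx)
  have hKn : K.Normal := by
    refine ⟨fun k hk m => ?_⟩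
    obtain ⟨⟨a, b⟩, hab⟩ := hK.2 m
    have hb : (b : M) * k = k * (b : M) := Subtype.ext (hUc _ b.2 _).symm
    rw [← hab]
    dsimp only
    have : (a : M) * b * k * ((a : M) * b)⁻¹ = a * k * (a : M)⁻¹ := by
      rw [mul_assoc (a : M), hb]; simp [mul_assoc]
    rw [this]
    exact K.mul_mem (K.mul_mem a.2 hk) (K.inv_mem a.2)
  have hKidx : K.index = 2 ^ 1 := by
    rw [pow_one, hK.symm.index_eq_card]; exact hU'card
  have hKodd : Odd (Nat.card K) := hK.index_eq_card ▸ hU'idx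
  let R : Subgroup M := pResidual 2 M
  have hRK : R ≤ K := H22.pResidual_le_of_index_eq K hKidx
  let OC := oddCore C
  have hOCn : OC.Normal := H19.pPrimeCore_normal 2 _
  have hRO : R.map M.subtype ≤ OC := by
    refine le_oddCore inferInstance ?_
    rw [Subgroup.card_map_of_injective M.subtype_injective]
    exact hKodd.of_dvd_nat (Subgroup.card_dvd_of_le hRK)
  have hMdec : ∀ m ∈ M, ∃ v ∈ U, m * v ∈ OC := by
    intro m hm
    have h1 : R ⊔ U' = ⊤ := H22.pResidual_sup_eq_top_of_not_dvd_index U'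
      fun h => by obtain ⟨k, hk⟩ := hU'idx; omega
    have hm' : (⟨m, hm⟩ : M) ∈ R ⊔ U' := h1 ▸ Subgroup.mem_top _
    rw [Subgroup.mem_sup_of_normal_right] at hm'
    obtain ⟨r, hr, v, hv, he⟩ := hm'
    refine ⟨(v : C)⁻¹, U.inv_mem hv, ?_⟩
    have e : m = (r : C) * v := (congrArg Subtype.val he).symm
    rw [e, mul_inv_cancel_right]
    exact hRO ⟨r, hr, rfl⟩
  -- commutators with elements of `C`
  let η := QuotientGroup.mk' OC
  let D : Subgroup C := (Subgroup.centralizer ({η zC} : Set (C ⧸ OC))).comap η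
  have hD : D = ⊤ := by
    refine top_le_iff.1 ((H22.pResidual_sup_sylow SC).symm.le.trans (sup_le ?_ ?_))
    · rw [pResidual, Subgroup.closure_le]
      intro c hc
      show η c ∈ Subgroup.centralizer _
      rw [Subgroup.mem_centralizer_singleton_iff]
      have hm : zC * c * zC⁻¹ * c⁻¹ ∈ M := by
        show π _ ∈ oddCore (C ⧸ U)
        rw [map_mul, map_mul, map_mul, map_inv, map_inv]
        exact hQ (π c)
      obtain ⟨v, hv, hvO⟩ := hMdec _ hm
      have e1 : η (zC * c * zC⁻¹ * c⁻¹ * v) = 1 := (QuotientGroup.eq_one_iff _).2 hvO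
      set w := η v with hw
      have hwc : Commute w⁻¹ (η c) := by
        refine Commute.inv_left ?_
        show η v * η c = η c * η v
        rw [← map_mul, ← map_mul, hUc v hv c]
      have hw2 : w ^ 2 = 1 := by
        rw [hw, ← map_pow, orderOf_dvd_iff_pow_eq_one.1 (hUcard ▸ Subgroup.orderOf_dvd_natCard U hv),
          map_one]
      have e2 : η zC * η c * (η zC)⁻¹ = w⁻¹ * η c := by
        rw [map_mul, map_mul, map_mul, map_inv, map_inv] at e1
        have := eq_inv_of_mul_eq_one_left e1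
        rwa [mul_inv_eq_iff_eq_mul] at this
      obtain ⟨k, hk⟩ := (Nat.coprime_two_right.1 hc : Odd (orderOf c))
      have e3 := congrArg (· ^ orderOf c) e2
      simp only [conj_pow, ← map_pow, pow_orderOf_eq_one, map_one, mul_one, mul_inv_cancel,
        hwc.mul_pow] at e3
      have hw1 : w = 1 := by
        rw [hk, pow_succ, pow_mul, inv_pow, hw2, inv_one, one_pow, one_mul] at e3
        exact inv_eq_one.1 e3.symm
      rw [hw1, inv_one, one_mul, mul_inv_eq_iff_eq_mul] at e2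
      exact e2.symm
    · intro c hc
      show η c ∈ Subgroup.centralizer _
      rw [Subgroup.mem_centralizer_singleton_iff, ← map_mul, ← map_mul]
      refine congrArg η (Subtype.ext (mul_inv_eq_iff_eq_mul.1 ?_))
      have := hz.comm (m := 1) (show (c : G) ∈ (S : Subgroup G) from hc)
      simpa using this
  have hC : ∀ c : C, zC * c * zC⁻¹ * c⁻¹ ∈ OC := by
    intro c
    have hc : η c ∈ Subgroup.centralizer ({η zC} : Set (C ⧸ OC)) := (hD ▸ Subgroup.mem_top c : c ∈ D)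
    rw [Subgroup.mem_centralizer_singleton_iff] at hc
    refine (QuotientGroup.eq_one_iff _).1 ?_
    show η (zC * c * zC⁻¹ * c⁻¹) = 1
    rw [map_mul, map_mul, map_mul, ← hc, map_inv, map_inv]
    simp [mul_assoc]
  -- back to `G`
  have hOGn : (oddCore G).Normal := H19.pPrimeCore_normal 2 G
  let J := oddCore G ⊔ OC.map C.subtype
  have hJn : J.Normal := by
    refine ⟨fun a ha g => ?_⟩
    obtain ⟨m, hm, c, hc, rfl⟩ := hfr g
    have hcJ : c * a * c⁻¹ ∈ J := by
      have hle : J.map (MulAut.conj c).toMonoidHom ≤ J := by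
        rw [Subgroup.map_sup]
        refine sup_le_sup ?_ ?_
        · rintro _ ⟨b, hb, rfl⟩; exact hOGn.conj_mem b hb c
        · rintro _ ⟨_, ⟨b, hb, rfl⟩, rfl⟩
          exact ⟨⟨c, hc⟩ * b * ⟨c, hc⟩⁻¹, hOCn.conj_mem b hb _, rfl⟩
      exact hle ⟨a, ha, rfl⟩
    have hmJ : m ∈ J := Subgroup.mem_sup_left (hNle hm)
    have := J.mul_mem (J.mul_mem hmJ hcJ) (J.inv_mem hmJ)
    simpa [mul_assoc] using this
  have hJO : J ≤ oddCore G := by
    refine le_oddCore hJn ((Odd.mul odd_card_oddCore ?_).of_dvd_nat (H19.card_sup_dvd _ _))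
    rw [Subgroup.card_map_of_injective C.subtype_injective]
    exact odd_card_oddCore
  intro g
  obtain ⟨m, hm, c, hc, rfl⟩ := hfr g
  have h1 : z * m * z⁻¹ ∈ oddCore G := hOGn.conj_mem m (hNle hm) z
  have h3 : z * c * z⁻¹ * c⁻¹ ∈ oddCore G :=
    hJO (Subgroup.mem_sup_right ⟨_, hC ⟨c, hc⟩, rfl⟩)
  have e : z * (m * c) * z⁻¹ * (m * c)⁻¹ = (z * m * z⁻¹) * (z * c * z⁻¹ * c⁻¹) * m⁻¹ := by
    simp [mul_assoc]
  rw [e]
  exact Subgroup.mul_mem _ (Subgroup.mul_mem _ h1 h3) (Subgroup.inv_mem _ (hNle hm))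

/-- The centre of the fusion system at `2`, from the `Z*`-theorem. -/
theorem center_groupFusionSystem_two (hZ : ZStarStatement.{u}) [Finite G] (S : Sylow 2 G) :
    (groupFusionSystem (S : Subgroup G)).center
      = (S : Subgroup G) ⊓ (Subgroup.center (G ⧸ oddCore G)).comap (QuotientGroup.mk' (oddCore G)) := by
  have hcen : ∀ z g : G, (z * g * z⁻¹ * g⁻¹ ∈ oddCore G ↔
      (QuotientGroup.mk' (oddCore G) g) * QuotientGroup.mk' (oddCore G) z
        = QuotientGroup.mk' (oddCore G) z * QuotientGroup.mk' (oddCore G) g) := by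
    intro z g
    rw [← (QuotientGroup.eq_one_iff (N := oddCore G) _)]
    show QuotientGroup.mk' (oddCore G) _ = 1 ↔ _
    rw [map_mul, map_mul, map_mul, map_inv, map_inv, mul_inv_eq_one, mul_inv_eq_iff_eq_mul, eq_comm]
  have hOn : (oddCore G).Normal := H19.pPrimeCore_normal 2 G
  apply le_antisymm
  · have hF := H96.isCentral_center (groupFusionSystem (S : Subgroup G))
    intro z hz
    have hce : CentralElt (S : Subgroup G) z := by
      refine ⟨hF.1 hz, fun A g hA hg => ?_⟩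
      obtain ⟨ψ, ⟨-, -, g', hg'⟩, h1, h2⟩ :=
        hF.2 A (conjHom A g) ⟨hA, fun a => hg a a.2, g, fun a => rfl⟩
      exact ⟨g', ((hg' _).symm.trans (h2 ⟨z, hz⟩)), fun a ha => (hg' _).symm.trans (h1 ⟨a, ha⟩)⟩
    refine ⟨hce.1, ?_⟩
    show QuotientGroup.mk' (oddCore G) z ∈ Subgroup.center _
    rw [Subgroup.mem_center_iff]
    intro q
    obtain ⟨g, rfl⟩ := QuotientGroup.mk'_surjective _ q
    exact (hcen z g).1 (commutator_mem_oddCore hZ _ G S z rfl hce g)
  · rintro z ⟨hzS, hzc⟩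
    have hcomm : ∀ g, z * g * z⁻¹ * g⁻¹ ∈ oddCore G := fun g =>
      (hcen z g).2 (Subgroup.mem_center_iff.1 hzc _)
    have hz2 : IsPGroup 2 (Subgroup.zpowers z) := S.isPGroup'.to_le (Subgroup.zpowers_le.2 hzS)
    have hzZ : ∀ s ∈ (S : Subgroup G), z * s * z⁻¹ = s := fun s hs =>
      mul_inv_eq_one.1 (eq_one_of_two_odd S.isPGroup' odd_card_oddCore
        (Subgroup.mul_mem _ (Subgroup.mul_mem _ (Subgroup.mul_mem _ hzS hs) (Subgroup.inv_mem _ hzS))
          (Subgroup.inv_mem _ hs)) (hcomm s))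
    refine (le_sSup (α := Subgroup G) ?_) (Subgroup.mem_zpowers z)
    refine ⟨Subgroup.zpowers_le.2 hzS, fun P φ hφ => ?_⟩
    obtain ⟨hP, hv, g, hg⟩ := hφ
    have hcA : g * z * g⁻¹ ∈ Subgroup.centralizer
        ((P.map (MulAut.conj g).toMonoidHom : Subgroup G) : Set G) :=
      conj_mem_centralizer_map (Subgroup.mem_centralizer_iff.2 fun y hy =>
        (mul_inv_eq_iff_eq_mul.1 (hzZ y (hP hy))).symm)
    have hzA : z ∈ Subgroup.centralizer ((P.map (MulAut.conj g).toMonoidHom : Subgroup G) : Set G) := by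
      rw [Subgroup.mem_centralizer_iff]
      rintro _ ⟨a, ha, rfl⟩
      have h1 : g * a * g⁻¹ ∈ (S : Subgroup G) := by have := hv ⟨a, ha⟩; rwa [hg] at this
      exact (mul_inv_eq_iff_eq_mul.1 (hzZ _ h1)).symm
    have hmod : g * z * g⁻¹ * z⁻¹ ∈ oddCore G := by
      have := Subgroup.inv_mem _ (hcomm g)
      simpa [mul_assoc] using this
    obtain ⟨c, -, hcC, hce⟩ := exists_conj_of_congr odd_card_oddCore hz2 hzA hcA hmod
    set h := c⁻¹ * g with hhdef
    have hhz : h * z * h⁻¹ = z := by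
      calc c⁻¹ * g * z * (c⁻¹ * g)⁻¹ = c⁻¹ * (g * z * g⁻¹) * c := by simp [mul_assoc]
        _ = z := by rw [← hce]; simp [mul_assoc]
    have hhP : ∀ a ∈ P, h * a * h⁻¹ = g * a * g⁻¹ := by
      intro a ha
      have := Subgroup.mem_centralizer_iff.1 hcC (g * a * g⁻¹) ⟨a, ha, rfl⟩
      calc c⁻¹ * g * a * (c⁻¹ * g)⁻¹ = c⁻¹ * ((g * a * g⁻¹) * c) := by simp [mul_assoc]
        _ = g * a * g⁻¹ := by rw [this]; simp [mul_assoc]
    refine ⟨conjHom (P ⊔ Subgroup.zpowers z) h,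
      ⟨sup_le hP (Subgroup.zpowers_le.2 hzS), fun y => ?_, h, fun _ => rfl⟩, fun a => ?_, fun y => ?_⟩
    · have hle : P ⊔ Subgroup.zpowers z ≤ (S : Subgroup G).comap (MulAut.conj h).toMonoidHom := by
        refine sup_le (fun a ha => ?_) (Subgroup.zpowers_le.2 ?_)
        · show h * a * h⁻¹ ∈ (S : Subgroup G)
          rw [hhP a ha]
          have := hv ⟨a, ha⟩
          rwa [hg] at this
        · show h * z * h⁻¹ ∈ (S : Subgroup G)
          rwa [hhz]
      exact hle y.2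
    · rw [hg]; exact hhP a a.2
    · obtain ⟨y, k, rfl⟩ := y
      show h * z ^ k * h⁻¹ = z ^ k
      rw [← conj_zpow, hhz]

end Cfsg.Agent.H93
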