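import Cfsg.Agent.H95.QdGroup
import Mathlib.GroupTheory.Perm.Basic
import Mathlib.Data.Fintype.Perm

/-!
`Qd(2)` is the symmetric group of degree four: its action on the affine plane over `𝔽₂`.
-/

set_option autoImplicit false

namespace Cfsg.Agent.H93

open Matrix

abbrev Pt : Type := Fin 2 → ZMod 2

/-- The affine action of a matrix with last row `(0,0,1)`. -/
def affFun (M : Matrix.SpecialLinearGroup (Fin 3) (ZMod 2)) (v : Pt) : Pt :=
  fun i => M.1 i.castSucc 0 * v 0 + M.1 i.castSucc 1 * v 1 + M.1 i.castSucc 2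

theorem affFun_affMat (A : H95.SL2 2) (w : H95.Plane 2) (v : Pt) :
    affFun (H95.affMat A w) v = (fun i => (A.1 *ᵥ v) i + Multiplicative.toAdd w i) := by
  funext i
  fin_cases i <;> simp [affFun, H95.coe_affMat, Matrix.mulVec, dotProduct, Fin.sum_univ_succ]

theorem affFun_mul {M N : Matrix.SpecialLinearGroup (Fin 3) (ZMod 2)}
    (hM : M ∈ Cfsg.qd 2) (hN : N ∈ Cfsg.qd 2) (v : Pt) : affFun (M * N) v = affFun M (affFun N v) := by
  rw [H95.qd_eq_affRange] at hM hN
  obtain ⟨A, a, rfl⟩ := hM
  obtain ⟨B, b, rfl⟩ := hN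
  rw [H95.affMat_mul, affFun_affMat, affFun_affMat, affFun_affMat]
  have e : (fun i => (B.1 *ᵥ v) i + Multiplicative.toAdd b i) = B.1 *ᵥ v + Multiplicative.toAdd b := rfl
  rw [e, Matrix.mulVec_add, Matrix.mulVec_mulVec]
  funext i
  simp only [H95.act, toAdd_mul, toAdd_ofAdd, Pi.add_apply, Matrix.SpecialLinearGroup.coe_mul]
  ring

theorem affFun_one (v : Pt) : affFun 1 v = v := by
  rw [← H95.affMat_one, affFun_affMat]
  funext i
  simp

/-- The action of `Qd(2)` on the four points. -/
def affPerm : ↥(Cfsg.qd 2) →* Equiv.Perm Pt where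
  toFun M :=
    { toFun := affFun M.1
      invFun := affFun (M⁻¹).1
      left_inv := fun v => by
        rw [← affFun_mul (M⁻¹).2 M.2, ← Subgroup.coe_mul, inv_mul_cancel]
        exact affFun_one v
      right_inv := fun v => by
        rw [← affFun_mul M.2 (M⁻¹).2, ← Subgroup.coe_mul, mul_inv_cancel]
        exact affFun_one v }
  map_one' := Equiv.ext fun v => affFun_one v
  map_mul' M N := Equiv.ext fun v => affFun_mul M.2 N.2 v

theorem affPerm_injective : Function.Injective affPerm := by
  rw [injective_iff_map_eq_one]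
  rintro ⟨M, hM⟩ h
  have hM' := hM
  rw [H95.qd_eq_affRange] at hM'
  obtain ⟨A, a, rfl⟩ := hM'
  have h' : ∀ v, affFun (H95.affMat A a) v = v := fun v => congrArg (fun e : Equiv.Perm Pt => e v) h
  have ha : a = 1 := by
    apply Multiplicative.toAdd.injective
    funext i
    have := congrFun (h' 0) i
    rw [affFun_affMat] at this
    simpa using this
  subst ha
  have hA : A = 1 := by
    refine H95.act_faithful fun w => ?_
    apply Multiplicative.toAdd.injective
    funext i
    have := congrFun (h' (Multiplicative.toAdd w)) i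
    rw [affFun_affMat] at this
    simpa [H95.act] using this
  subst hA
  exact Subtype.ext H95.affMat_one

theorem card_qd_two : Nat.card ↥(Cfsg.qd 2) = 24 := by
  let f : H95.SL2 2 × H95.Plane 2 → ↥(Cfsg.qd 2) := fun x => ⟨H95.affMat x.1 x.2, H95.affMat_mem _ _⟩
  have hf : Function.Bijective f := by
    constructor
    · intro x y h
      obtain ⟨h1, h2⟩ := H95.affMat_inj (congrArg Subtype.val h)
      exact Prod.ext h1 h2
    · rintro ⟨M, hM⟩
      have hM' := hM
      rw [H95.qd_eq_affRange] at hM'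
      obtain ⟨A, a, rfl⟩ := hM'
      exact ⟨(A, a), rfl⟩
  rw [← Nat.card_eq_of_bijective f hf, Nat.card_prod]
  have h1 : Nat.card (H95.SL2 2) = 6 := by rw [Nat.card_eq_fintype_card]; decide
  have h2 : Nat.card (H95.Plane 2) = 4 := by
    show Nat.card (Fin 2 → ZMod 2) = 4
    simp
  rw [h1, h2]

/-- `Qd(2) ≅ S₄`. -/
theorem exists_qd_two_equiv : Nonempty (↥(Cfsg.qd 2) ≃* Equiv.Perm (Fin 4)) := by
  have hb : Function.Bijective affPerm := by
    refine (Nat.bijective_iff_injective_and_card affPerm).2 ⟨affPerm_injective, ?_⟩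
    rw [card_qd_two, Nat.card_eq_fintype_card, Fintype.card_perm]
    simp [Nat.factorial]
  have e : Pt ≃ Fin 4 := Fintype.equivFinOfCardEq (by simp)
  exact ⟨(MulEquiv.ofBijective affPerm hb).trans e.permCongrHom⟩

end Cfsg.Agent.H93
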