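import Cfsg.Agent.H93.CentralProductNormal

/-!
A normal subsystem of a factor of a central product is normal in the central product.
-/

set_option autoImplicit false

namespace Cfsg.Agent.H93.CPN

open Cfsg Cfsg.FusionSystem Cfsg.Agent.H96

variable {Ω : Type*} [Group Ω] {S : Subgroup Ω} [Finite S] {p : ℕ} [Fact p.Prime] {F : FusionSystem S}
  {T₁ T₂ : Subgroup Ω} {E₁ : FusionSystem T₁} {E₂ : FusionSystem T₂} {D : FusionSystem (T₁ ⊔ T₂)}

namespace CPData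

variable (d : CPData F E₁ E₂ p)

include d

omit [Fact p.Prime] in
/-- The second factor is a subsystem of the central product. -/
theorem right_le (hD : IsCentralProductOf E₁ E₂ D) {P : Subgroup Ω} {φ : P →* Ω} (hφ : φ ∈ E₂.Hom P) :
    φ ∈ D.Hom P :=
  (d.hom_iff hD).2 ⟨(E₂.le_of_mem hφ).1.trans le_sup_right, ⊥, P, _, subtype_mem E₁ bot_le, φ, hφ,
    fun u => ⟨1, u, one_mem _, u.2, one_mul _, (one_mul _).symm⟩⟩

omit [Fact p.Prime] in
/-- On subgroups of the second group the maps of the central product are those of the second factor. -/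
theorem right_of_mem (hD : IsCentralProductOf E₁ E₂ D) {P : Subgroup Ω} (hP : P ≤ T₂) {φ : P →* Ω}
    (hφ : φ ∈ D.Hom P) : φ ∈ E₂.Hom P := by
  obtain ⟨e₁, -, e₂, he₂, hval⟩ := d.canonical ((d.hom_iff hD).1 hφ)
  have hle : P ≤ T₂ ⊓ (P ⊔ T₁) := le_inf hP le_sup_left
  refine mem_congr E₂ (res_mem E₂ he₂ hle) fun u => ?_
  rw [hval u 1 u (one_mem _) (hle u.2) (one_mul _)]
  show e₁ 1 * e₂ ⟨u, _⟩ = res e₂ hle u
  rw [map_one, one_mul]
  rfl

/-- A normal subsystem of the second factor is normal in the central product. -/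
theorem isNormalIn_of_right (hD : IsCentralProductOf E₁ E₂ D) {T : Subgroup Ω} {C : FusionSystem T}
    (hC : C.IsNormalIn E₂ p) : C.IsNormalIn D p := by
  obtain ⟨⟨hCs, -, hsub, hTc, hinv, hfr⟩, hext⟩ := hC
  have hTT := hTc.1
  have haut : ∀ {a : MulAut T}, a ∈ D.autGroup T ↔ a ∈ E₂.autGroup T := fun {a} => by
    rw [mem_autGroup D (hTT.trans le_sup_right), mem_autGroup E₂ hTT]
    exact ⟨d.right_of_mem hD hTT, d.right_le hD⟩
  refine ⟨⟨hCs, d.isSaturated hD, fun P φ hφ => d.right_le hD (hsub P hφ),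
    ⟨hTT.trans le_sup_right, fun R hR φ hφ x => hTc.2 R hR φ (d.right_of_mem hD (hR.trans hTT) hφ) x⟩,
    fun P hP φ hφ α hα => hinv P hP φ hφ α (haut.1 hα), fun P hP φ hφ => ?_⟩, fun α hα => ?_⟩
  · obtain ⟨α, hα, φ₀, hφ₀, he⟩ := hfr P hP φ (d.right_of_mem hD (hP.trans hTT) hφ)
    exact ⟨α, haut.2 hα, φ₀, hφ₀, he⟩
  obtain ⟨β, hβ, hβT, hβc⟩ := hext α hα
  have hW₂T : T ⊔ centralizerIn T₂ T ≤ T₂ := sup_le hTT inf_le_left
  have := d.finite₂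
  obtain ⟨a, ha, ha₁, ha₂⟩ := ext_commuting d.hS d.hF d.h₂ d.closed₁ d.symm.hc d.symm.hz₁
    ((mem_autGroup E₂ hW₂T).1 hβ)
  set W := T ⊔ centralizerIn (T₁ ⊔ T₂) T
  have hdec : ∀ c ∈ centralizerIn (T₁ ⊔ T₂) T,
      ∃ x ∈ T₁, ∃ y ∈ centralizerIn T₂ T, x ∈ centralizerIn (T₁ ⊔ T₂) T ∧ x * y = c := by
    intro c hc
    obtain ⟨x, hx, y, hy, hxy⟩ := d.exists_split hc.1
    have hxT : x ∈ Subgroup.centralizer (T : Set Ω) :=
      Subgroup.mem_centralizer_iff.2 fun t ht => (d.hc x hx t (hTT ht)).symm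
    have hyT : y ∈ Subgroup.centralizer (T : Set Ω) := by
      rw [eq_inv_mul_of_mul_eq hxy]
      exact (Subgroup.centralizer _).mul_mem ((Subgroup.centralizer _).inv_mem hxT) hc.2
    exact ⟨x, hx, y, ⟨hy, hyT⟩, ⟨Subgroup.mem_sup_left hx, hxT⟩, hxy⟩
  have hWle : W ≤ (T ⊔ centralizerIn T₂ T) ⊔ T₁ := by
    refine sup_le (le_sup_left.trans le_sup_left) fun c hc => ?_
    obtain ⟨x, hx, y, hy, -, rfl⟩ := hdec c hc
    exact mul_mem (Subgroup.mem_sup_right hx) (Subgroup.mem_sup_left (Subgroup.mem_sup_right hy))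
  have hWR : W ≤ T₁ ⊔ T₂ := sup_le (hTT.trans le_sup_right) inf_le_left
  have hval : ∀ (x y : Ω) (hx : x ∈ T₁) (hy : y ∈ T ⊔ centralizerIn T₂ T) (h : x * y ∈ W),
      res a hWle ⟨x * y, h⟩ = x * ((β ⟨y, hy⟩ : ↥(T ⊔ centralizerIn T₂ T)) : Ω) := fun x y hx hy h => by
    refine Eq.trans ?_ (congrArg₂ (· * ·) (ha₂ ⟨x, hx⟩) (ha₁ ⟨y, hy⟩))
    exact map_mul a ⟨x, Subgroup.mem_sup_right hx⟩ ⟨y, Subgroup.mem_sup_left hy⟩
  have hW₂W : T ⊔ centralizerIn T₂ T ≤ W :=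
    sup_le_sup_left (inf_le_inf_right _ (le_sup_right : T₂ ≤ T₁ ⊔ T₂)) _
  have hsplit : ∀ u : W, ∃ x ∈ T₁, ∃ y ∈ T ⊔ centralizerIn T₂ T, x ∈ W ∧ x * y = u := by
    intro u
    have hn : centralizerIn (T₁ ⊔ T₂) T ≤ Subgroup.normalizer (T : Set Ω) :=
      inf_le_right.trans (Subgroup.centralizer_le_normalizer _)
    obtain ⟨t, ht, c, hc, htc⟩ := Set.mem_mul.1
      ((Subgroup.coe_mul_of_right_le_normalizer_left T (centralizerIn (T₁ ⊔ T₂) T) hn).le u.2)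
    obtain ⟨x, hx, y, hy, hxW, rfl⟩ := hdec c hc
    exact ⟨x, hx, t * y, mul_mem (Subgroup.mem_sup_left ht) (Subgroup.mem_sup_right hy),
      Subgroup.mem_sup_right hxW, by rw [← mul_assoc, d.hc x hx t (hTT ht), mul_assoc]; exact htc⟩
  have hφD : res a hWle ∈ D.Hom W := (d.hom_iff hD).2 ⟨hWR, T₁, _, _, subtype_mem E₁ le_rfl, _,
    (mem_autGroup E₂ hW₂T).1 hβ, fun u => by
      obtain ⟨x, hx, y, hy, -, hxy⟩ := hsplit u
      refine ⟨x, y, hx, hy, hxy, ?_⟩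
      rw [show u = ⟨x * y, hxy ▸ u.2⟩ from Subtype.ext hxy.symm, hval x y hx hy]
      rfl⟩
  have hmem : ∀ u : W, res a hWle u ∈ W := fun u => by
    obtain ⟨x, hx, y, hy, hxW, hxy⟩ := hsplit u
    rw [show u = ⟨x * y, hxy ▸ u.2⟩ from Subtype.ext hxy.symm, hval x y hx hy]
    exact W.mul_mem hxW (hW₂W (β _).2)
  have := d.finite₁
  have : Finite ↥(T₁ ⊔ T₂) := finite_of_le d.sup_le'
  obtain ⟨γ, hγ, hγe⟩ := exists_autGroup_of_mem D hφD hmem
  refine ⟨γ, hγ, fun t => ?_, fun c hc => ?_⟩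
  · refine (hγe _).trans ?_
    rw [show Subgroup.inclusion (le_sup_left : T ≤ W) t =
        ⟨1 * (t : Ω), (one_mul (t : Ω)).symm ▸ Subgroup.mem_sup_left t.2⟩ from Subtype.ext (one_mul _).symm,
      hval 1 t (one_mem _) (Subgroup.mem_sup_left t.2), one_mul]
    exact hβT t
  · obtain ⟨x, hx, y, hy, -, hxy⟩ := hdec c hc
    rw [hγe, show c = ⟨x * y, hxy ▸ c.2⟩ from Subtype.ext hxy.symm,
      hval x y hx (Subgroup.mem_sup_right hy)]
    show (x * y)⁻¹ * (x * _) ∈ _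
    rw [show (x * y)⁻¹ * (x * ((β ⟨y, _⟩ : ↥(T ⊔ centralizerIn T₂ T)) : Ω)) =
      y⁻¹ * ((β ⟨y, Subgroup.mem_sup_right hy⟩ : ↥(T ⊔ centralizerIn T₂ T)) : Ω) by group]
    exact hβc ⟨y, _⟩ hy

end CPData

end Cfsg.Agent.H93.CPN
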