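import Cfsg.Agent.H94.QuasisimpleNonabelian
import Cfsg.Agent.H94.ResidualSeries
import Cfsg.Agent.H94.FactorSaturated
import Cfsg.Agent.H96.MorphismTransport
import Cfsg.Agent.H93.CentralProductSub

/-!
The factors of a central product are normal in it, and a component of a central product is a component of a
factor.
-/

set_option autoImplicit false

universe u

namespace Cfsg.Agent.H93.CPFactor

open Cfsg Cfsg.FusionSystem Cfsg.Agent.H96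

variable {Ω : Type u} [Group Ω] {S S₁ S₂ : Subgroup Ω} [Finite S] {p : ℕ} [Fact p.Prime] {F : FusionSystem S}
  {F₁ : FusionSystem S₁} {F₂ : FusionSystem S₂}

/-- A factor with the restriction and extension properties is normal. -/
theorem isNormalIn_of_factor {T T' : Subgroup Ω} {D : FusionSystem T} (hF : F.IsSaturated p) (hDs : D.IsSaturated p)
    (hDF : D.IsSubsystemOf F) (hS : S = T ⊔ T') (hc : ∀ x ∈ T, ∀ y ∈ T', x * y = y * x)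
    (hres : ∀ (P : Subgroup Ω) (φ : P →* Ω), φ ∈ F.Hom P → P ≤ T → φ ∈ D.Hom P)
    (hext : ∀ α ∈ D.autGroup T, ∃ φ ∈ F.Hom S, (∀ (x : T) (h : (x : Ω) ∈ S), φ ⟨x, h⟩ = ((α x : T) : Ω)) ∧
      ∀ (y : T') (h : (y : Ω) ∈ S), φ ⟨y, h⟩ = y) : D.IsNormalIn F p := by
  have hTS : T ≤ S := hS ▸ le_sup_left
  have hT'S : T' ≤ S := hS ▸ le_sup_right
  have haut : ∀ {a : MulAut T}, a ∈ F.autGroup T → a ∈ D.autGroup T := fun {a} ha =>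
    (mem_autGroup D le_rfl).2 (hres T _ ((mem_autGroup F hTS).1 ha) le_rfl)
  refine ⟨⟨hDs, hF, hDF, ⟨hTS, fun R hR φ hφ x => (D.le_of_mem (hres R φ hφ hR)).2 x⟩,
    fun P hP φ hφ α hα => (H94.weaklyNormal_self hDs).2.2.2.2.1 P hP φ hφ α (haut hα),
    fun P hP φ hφ => ⟨1, one_mem _, φ, hres P φ hφ hP, fun x hx => rfl⟩⟩, fun α hα => ?_⟩
  set W := T ⊔ centralizerIn S T with hW
  have hWS : W ≤ S := sup_le hTS inf_le_left
  obtain ⟨φ, hφ, hφT, hφT'⟩ := hext α hα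
  have hcomm : T ≤ Subgroup.normalizer (T' : Set Ω) := fun x hx => have := finite_of_le hT'S; H94.mem_normalizer_of_forall_conj_mem fun y hy => by
    rw [hc x hx y hy, mul_inv_cancel_right]
    exact hy
  have hsplit : ∀ w ∈ S, ∃ x ∈ T, ∃ y ∈ T', x * y = w := fun w hw =>
    Set.mem_mul.1 ((Subgroup.coe_mul_of_left_le_normalizer_right T T' hcomm).le (hS.le hw))
  have hval : ∀ (x : T) (y : T') (h : (x : Ω) * y ∈ S), φ ⟨x * y, h⟩ = ((α x : T) : Ω) * y := fun x y h => by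
    refine Eq.trans (map_mul φ ⟨x, hTS x.2⟩ ⟨y, hT'S y.2⟩) ?_
    exact congrArg₂ (· * ·) (hφT x _) (hφT' y _)
  have hT'C : T' ≤ centralizerIn S T := fun y hy =>
    ⟨hT'S hy, Subgroup.mem_centralizer_iff.2 fun x hx => hc x hx y hy⟩
  have hmem : ∀ w : W, res φ hWS w ∈ W := fun w => by
    obtain ⟨x, hx, y, hy, hxy⟩ := hsplit _ (hWS w.2)
    rw [show w = ⟨x * y, hxy ▸ w.2⟩ from Subtype.ext hxy.symm]
    rw [show res φ hWS ⟨x * y, hxy ▸ w.2⟩ = ((α ⟨x, hx⟩ : T) : Ω) * y from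
      hval ⟨x, hx⟩ ⟨y, hy⟩ (hxy ▸ hWS w.2)]
    exact mul_mem (Subgroup.mem_sup_left (Subtype.mem _)) (Subgroup.mem_sup_right (hT'C hy))
  obtain ⟨β, hβ, hβe⟩ := exists_autGroup_of_mem F (res_mem F hφ hWS) hmem
  refine ⟨β, hβ, fun x => (hβe _).trans (hφT x (hTS x.2)), fun c hc' => ?_⟩
  obtain ⟨x, hx, y, hy, hxy⟩ := hsplit _ (hWS c.2)
  rw [hβe, show c = ⟨x * y, hxy ▸ c.2⟩ from Subtype.ext hxy.symm]
  rw [show res φ hWS ⟨x * y, hxy ▸ c.2⟩ = ((α ⟨x, hx⟩ : T) : Ω) * y from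
    hval ⟨x, hx⟩ ⟨y, hy⟩ (hxy ▸ hWS c.2)]
  have hxc : ∀ t ∈ T, t * x = x * t := fun t ht => by
    have h1 := Subgroup.mem_centralizer_iff.1 hc'.2 t ht
    rw [← hxy] at h1
    refine mul_right_cancel (b := y) ?_
    rw [mul_assoc, h1, mul_assoc, mul_assoc, hc t ht y hy]
  have haxc : ∀ t ∈ T, t * ((α ⟨x, hx⟩ : T) : Ω) = ((α ⟨x, hx⟩ : T) : Ω) * t := fun t ht => by
    obtain ⟨s, hs⟩ := α.surjective ⟨t, ht⟩
    have h2 : s * ⟨x, hx⟩ = ⟨x, hx⟩ * s := Subtype.ext (hxc s s.2)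
    have h3 := congrArg (fun w : T => ((α w : T) : Ω)) h2
    simpa [hs] using h3
  have hd : x⁻¹ * ((α ⟨x, hx⟩ : T) : Ω) ∈ T := T.mul_mem (T.inv_mem hx) (α _).2
  have he : (x * y)⁻¹ * (((α ⟨x, hx⟩ : T) : Ω) * y) = x⁻¹ * ((α ⟨x, hx⟩ : T) : Ω) := by
    have hcy := hc _ hd y hy
    calc (x * y)⁻¹ * (((α ⟨x, hx⟩ : T) : Ω) * y) = y⁻¹ * ((x⁻¹ * ((α ⟨x, hx⟩ : T) : Ω)) * y) := by group
      _ = _ := by rw [hcy, inv_mul_cancel_left]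
  rw [he]
  refine ⟨hd, Subgroup.mem_centralizer_iff.2 fun t ht => ?_⟩
  exact ((Commute.inv_right (hxc t ht : Commute t x)).mul_right (haxc t ht)).eq

/-- Both factors of a central product are normal in it. -/
theorem factors_isNormalIn (hF : F.IsSaturated p) (h₁ : F₁.IsSaturated p) (h₂ : F₂.IsSaturated p)
    (h₁F : F₁.IsSubsystemOf F) (h₂F : F₂.IsSubsystemOf F) (hcp : IsCentralProductOf F₁ F₂ F) :
    F₁.IsNormalIn F p ∧ F₂.IsNormalIn F p := by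
  obtain ⟨D₀, hD₀, Z, θ, hZc, -, -, hθ₁, hθ₂, hfac⟩ := hcp
  obtain ⟨hZ, hker, hrange, hiff⟩ := hfac
  have hS₁S : S₁ ≤ S := (F.le_of_mem (h₁F S₁ (subtype_mem F₁ le_rfl))).1
  have hS₂S : S₂ ≤ S := (F.le_of_mem (h₂F S₂ (subtype_mem F₂ le_rfl))).1
  have := finite_of_le hS₁S
  have := finite_of_le hS₂S
  have : Finite ↥(S₁.prod S₂) := Finite.of_equiv _ (Subgroup.prodEquiv S₁ S₂).toEquiv.symm
  let ι₁ : ∀ x ∈ S₁, ↥(S₁.prod S₂) := fun x hx => ⟨(x, 1), Subgroup.mem_prod.2 ⟨hx, one_mem _⟩⟩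
  let ι₂ : ∀ y ∈ S₂, ↥(S₁.prod S₂) := fun y hy => ⟨(1, y), Subgroup.mem_prod.2 ⟨one_mem _, hy⟩⟩
  have hmul : ∀ x (hx : x ∈ S₁) y (hy : y ∈ S₂), ι₁ x hx * ι₂ y hy = ι₂ y hy * ι₁ x hx := fun x hx y hy =>
    Subtype.ext (Prod.ext (by simp [ι₁, ι₂]) (by simp [ι₁, ι₂]))
  have hc : ∀ x ∈ S₁, ∀ y ∈ S₂, x * y = y * x := fun x hx y hy => by
    have h := congrArg θ (hmul x hx y hy)
    rwa [map_mul, map_mul, hθ₁, hθ₂] at h
  have hS : S = S₁ ⊔ S₂ := by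
    refine le_antisymm (fun s hs => ?_) (sup_le hS₁S hS₂S)
    obtain ⟨w, rfl⟩ := hrange.ge hs
    have hw := Subgroup.mem_prod.1 w.2
    have : w = ι₁ _ hw.1 * ι₂ _ hw.2 := Subtype.ext (Prod.ext (by simp [ι₁, ι₂]) (by simp [ι₁, ι₂]))
    rw [this, map_mul, hθ₁, hθ₂]
    exact mul_mem (Subgroup.mem_sup_left hw.1) (Subgroup.mem_sup_right hw.2)
  have hres₁ : ∀ (P : Subgroup Ω) (φ : P →* Ω), φ ∈ F.Hom P → P ≤ S₁ → φ ∈ F₁.Hom P := by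
    intro P φ hφ hPS
    obtain ⟨-, ψ, hψ, hP, hv, hm, hind⟩ := (hiff P φ).1 hφ
    obtain ⟨-, φ₁, hφ₁, φ₂, -, hpair⟩ := (hD₀ _ ψ).1 hψ
    have hpre : ∀ x : P, ((x : Ω), (1 : Ω)) ∈ preimageAlong θ P := fun x =>
      H94.mem_preimageAlong.2 ⟨(ι₁ x (hPS x.2)).2, by rw [hθ₁]; exact x.2⟩
    have hle : P ≤ (preimageAlong θ P).map (MonoidHom.fst Ω Ω) := fun x hx => ⟨_, hpre ⟨x, hx⟩, rfl⟩
    refine mem_congr F₁ (res_mem F₁ hφ₁ hle) fun x => ?_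
    have hψ1 := hpair ⟨_, hpre x⟩ (hle x.2) ⟨_, hpre x, rfl⟩
    have hval := hind ⟨_, hpre x⟩
    have e : (⟨θ ⟨((x : Ω), 1), hP (hpre x)⟩, hm ⟨_, hpre x⟩⟩ : P) = x := Subtype.ext (hθ₁ _ _)
    rw [e] at hval
    have hone : φ₂ ⟨1, one_mem _⟩ = 1 := map_one φ₂
    have e2 : ψ ⟨((x : Ω), 1), hpre x⟩ = (res φ₁ hle x, 1) := hψ1.trans (Prod.ext rfl hone)
    have hx₁ : ((res φ₁ hle x, (1 : Ω)) : Ω × Ω) ∈ S₁.prod S₂ := e2 ▸ hv _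
    refine hval.trans ?_
    rw [show (⟨ψ ⟨((x : Ω), 1), hpre x⟩, hv _⟩ : ↥(S₁.prod S₂)) = ⟨(res φ₁ hle x, 1), hx₁⟩ from Subtype.ext e2]
    exact hθ₁ _ _
  have hres₂ : ∀ (P : Subgroup Ω) (φ : P →* Ω), φ ∈ F.Hom P → P ≤ S₂ → φ ∈ F₂.Hom P := by
    intro P φ hφ hPS
    obtain ⟨-, ψ, hψ, hP, hv, hm, hind⟩ := (hiff P φ).1 hφ
    obtain ⟨-, φ₁, -, φ₂, hφ₂, hpair⟩ := (hD₀ _ ψ).1 hψ
    have hpre : ∀ x : P, ((1 : Ω), (x : Ω)) ∈ preimageAlong θ P := fun x =>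
      H94.mem_preimageAlong.2 ⟨(ι₂ x (hPS x.2)).2, by rw [hθ₂]; exact x.2⟩
    have hle : P ≤ (preimageAlong θ P).map (MonoidHom.snd Ω Ω) := fun x hx => ⟨_, hpre ⟨x, hx⟩, rfl⟩
    refine mem_congr F₂ (res_mem F₂ hφ₂ hle) fun x => ?_
    have hψ1 := hpair ⟨_, hpre x⟩ ⟨_, hpre x, rfl⟩ (hle x.2)
    have hval := hind ⟨_, hpre x⟩
    have e : (⟨θ ⟨(1, (x : Ω)), hP (hpre x)⟩, hm ⟨_, hpre x⟩⟩ : P) = x := Subtype.ext (hθ₂ _ _)
    rw [e] at hval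
    have hone : φ₁ ⟨1, one_mem _⟩ = 1 := map_one φ₁
    have e2 : ψ ⟨(1, (x : Ω)), hpre x⟩ = (1, res φ₂ hle x) := hψ1.trans (Prod.ext hone rfl)
    have hx₂ : (((1 : Ω), res φ₂ hle x) : Ω × Ω) ∈ S₁.prod S₂ := e2 ▸ hv _
    refine hval.trans ?_
    rw [show (⟨ψ ⟨(1, (x : Ω)), hpre x⟩, hv _⟩ : ↥(S₁.prod S₂)) = ⟨(1, res φ₂ hle x), hx₂⟩ from Subtype.ext e2]
    exact hθ₂ _ _
  have hZcl : D₀.StronglyClosed Z :=
    ⟨hZ, fun R hR φ hφ x => by rw [apply_center D₀ hφ (hZc (hR x.2))]; exact hR x.2⟩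
  -- products of automorphisms of the factors induce maps
  have hprod : ∀ a₁ ∈ F₁.autGroup S₁, ∀ a₂ ∈ F₂.autGroup S₂, ∃ φ ∈ F.Hom S,
      (∀ (x : S₁) (h : (x : Ω) ∈ S), φ ⟨x, h⟩ = ((a₁ x : S₁) : Ω)) ∧
      ∀ (y : S₂) (h : (y : Ω) ∈ S), φ ⟨y, h⟩ = ((a₂ y : S₂) : Ω) := by
    intro a₁ ha₁ a₂ ha₂
    have hle : preimageAlong θ S ≤ S₁.prod S₂ := H94.preimageAlong_le
    have hfst : (preimageAlong θ S).map (MonoidHom.fst Ω Ω) ≤ S₁ := by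
      rintro _ ⟨w, hw, rfl⟩; exact (Subgroup.mem_prod.1 (hle hw)).1
    have hsnd : (preimageAlong θ S).map (MonoidHom.snd Ω Ω) ≤ S₂ := by
      rintro _ ⟨w, hw, rfl⟩; exact (Subgroup.mem_prod.1 (hle hw)).2
    let ψ₀ : ↥(S₁.prod S₂) →* Ω × Ω :=
      ((S₁.subtype.comp a₁.toMonoidHom).prodMap (S₂.subtype.comp a₂.toMonoidHom)).comp
        (Subgroup.prodEquiv S₁ S₂).toMonoidHom
    have hψD : res ψ₀ hle ∈ D₀.Hom (preimageAlong θ S) :=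
      (hD₀ _ _).2 ⟨hle, _, res_mem F₁ ((mem_autGroup F₁ le_rfl).1 ha₁) hfst,
        _, res_mem F₂ ((mem_autGroup F₂ le_rfl).1 ha₂) hsnd, fun w h h' => rfl⟩
    obtain ⟨φ, hφi⟩ := H94.exists_induced hZcl hker hrange le_rfl hψD
    refine ⟨φ, (hiff _ _).2 ⟨le_rfl, _, hψD, hφi⟩, fun x h => ?_, fun y h => ?_⟩
    · obtain ⟨hP, hv, hm, hind⟩ := hφi
      have hpre : ((x : Ω), (1 : Ω)) ∈ preimageAlong θ S :=
        H94.mem_preimageAlong.2 ⟨(ι₁ x x.2).2, by rw [hθ₁]; exact h⟩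
      refine (congrArg φ (Subtype.ext (hθ₁ x (hP hpre)).symm)).trans ((hind ⟨_, hpre⟩).trans ?_)
      refine (congrArg θ (Subtype.ext ?_)).trans (hθ₁ _ (ι₁ _ (a₁ x).2).2)
      exact Prod.ext rfl (congrArg Subtype.val (map_one a₂))
    · obtain ⟨hP, hv, hm, hind⟩ := hφi
      have hpre : ((1 : Ω), (y : Ω)) ∈ preimageAlong θ S :=
        H94.mem_preimageAlong.2 ⟨(ι₂ y y.2).2, by rw [hθ₂]; exact h⟩
      refine (congrArg φ (Subtype.ext (hθ₂ y (hP hpre)).symm)).trans ((hind ⟨_, hpre⟩).trans ?_)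
      refine (congrArg θ (Subtype.ext ?_)).trans (hθ₂ _ (ι₂ _ (a₂ y).2).2)
      exact Prod.ext (congrArg Subtype.val (map_one a₁)) rfl
  refine ⟨isNormalIn_of_factor hF h₁ h₁F hS hc hres₁ fun α hα => ?_,
    isNormalIn_of_factor hF h₂ h₂F (hS.trans (sup_comm _ _)) (fun y hy x hx => (hc x hx y hy).symm) hres₂
      fun α hα => ?_⟩
  · obtain ⟨φ, hφ, h, h'⟩ := hprod α hα 1 (one_mem _)
    exact ⟨φ, hφ, h, h'⟩
  · obtain ⟨φ, hφ, h, h'⟩ := hprod 1 (one_mem _) α hα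
    exact ⟨φ, hφ, h', h⟩

/-- A component of a central product is a component of a factor. -/
theorem component_of_factor (hS : IsPGroup p S) (hF : F.IsSaturated p) (h₁ : F₁.IsSaturated p)
    (h₂ : F₂.IsSaturated p) (h₁F : F₁.IsSubsystemOf F) (h₂F : F₂.IsSubsystemOf F)
    (hcp : IsCentralProductOf F₁ F₂ F) {T : Subgroup Ω} {C : FusionSystem T} (hC : C.IsComponentIn F p)
    (dich : ∀ {V : Subgroup Ω} (D : FusionSystem V), D.IsNormalIn F p →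
      (C.IsSubsystemOf D ∧ C.IsComponentIn D p) ∨ T ≤ centralizerIn S V) :
    C.IsComponentIn F₁ p ∨ C.IsComponentIn F₂ p := by
  obtain ⟨hn₁, hn₂⟩ := factors_isNormalIn hF h₁ h₂ h₁F h₂F hcp
  rcases dich F₁ hn₁ with ⟨-, h⟩ | hT₁
  · exact Or.inl h
  rcases dich F₂ hn₂ with ⟨-, h⟩ | hT₂
  · exact Or.inr h
  exfalso
  have hTS := le_of_isSubnormalIn hC.1
  have := finite_of_le hTS
  refine H94.not_isMulCommutative_of_quasisimple p (hS.to_le hTS) C hC.2 ⟨⟨fun x y => Subtype.ext ?_⟩⟩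
  have hsup : T ≤ Subgroup.centralizer ((S₁ ⊔ S₂ : Subgroup Ω) : Set Ω) := fun t ht => by
    rw [Subgroup.mem_centralizer_iff]
    intro s hs
    have : S₁ ⊔ S₂ ≤ Subgroup.centralizer {t} := sup_le
      (fun a ha => Subgroup.mem_centralizer_singleton_iff.2 (Subgroup.mem_centralizer_iff.1 (hT₁ ht).2 a ha))
      fun a ha => Subgroup.mem_centralizer_singleton_iff.2 (Subgroup.mem_centralizer_iff.1 (hT₂ ht).2 a ha)
    exact Subgroup.mem_centralizer_singleton_iff.1 (this hs)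
  have hS' : S ≤ S₁ ⊔ S₂ := by
    obtain ⟨D₀, -, Z, θ, -, -, -, hθ₁, hθ₂, -, -, hrange, -⟩ := hcp
    intro s hs
    obtain ⟨w, rfl⟩ := hrange.ge hs
    have hw := Subgroup.mem_prod.1 w.2
    have : w = (⟨((w : Ω × Ω).1, 1), Subgroup.mem_prod.2 ⟨hw.1, one_mem _⟩⟩ : ↥(S₁.prod S₂)) *
        ⟨(1, (w : Ω × Ω).2), Subgroup.mem_prod.2 ⟨one_mem _, hw.2⟩⟩ :=
      Subtype.ext (Prod.ext (by simp) (by simp))
    rw [this, map_mul, hθ₁, hθ₂]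
    exact mul_mem (Subgroup.mem_sup_left hw.1) (Subgroup.mem_sup_right hw.2)
  exact Subgroup.mem_centralizer_iff.1 (hsup y.2) x (hS' (hTS x.2))

end Cfsg.Agent.H93.CPFactor
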