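import Cfsg.Agent.H93.CommutingExt
import Cfsg.Agent.H94.ProductSaturated
import Cfsg.Agent.H94.FactorSaturated

/-!
The maps of a central product of two commuting normal subsystems: existence, saturation, the maps are maps of the
ambient system, and invariance under the automizer of the product of the underlying groups.
-/

set_option autoImplicit false

namespace Cfsg.Agent.H93.CPN

open Cfsg Cfsg.FusionSystem Cfsg.Agent.H96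

variable {Ω : Type*} [Group Ω] {S : Subgroup Ω} {p : ℕ} {F : FusionSystem S} {T₁ T₂ : Subgroup Ω}
  {E₁ : FusionSystem T₁} {E₂ : FusionSystem T₂}

/-- Two commuting normal subsystems meeting in a subgroup central in both. -/
structure CPData (F : FusionSystem S) (E₁ : FusionSystem T₁) (E₂ : FusionSystem T₂) (p : ℕ) : Prop where
  hS : IsPGroup p S
  hF : F.IsSaturated p
  h₁ : E₁.IsNormalIn F p
  h₂ : E₂.IsNormalIn F p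
  hc : ∀ x ∈ T₁, ∀ y ∈ T₂, x * y = y * x
  hz₁ : T₁ ⊓ T₂ ≤ E₁.center
  hz₂ : T₁ ⊓ T₂ ≤ E₂.center

/-- The map is a product of a map of `E₁` and a map of `E₂`. -/
def CPHom (E₁ : FusionSystem T₁) (E₂ : FusionSystem T₂) (P : Subgroup Ω) (φ : P →* Ω) : Prop :=
  P ≤ T₁ ⊔ T₂ ∧ ∃ (P₁ P₂ : Subgroup Ω), ∃ e₁ ∈ E₁.Hom P₁, ∃ e₂ ∈ E₂.Hom P₂,
    ∀ u : P, ∃ (x y : Ω) (hx : x ∈ P₁) (hy : y ∈ P₂), x * y = u ∧ φ u = e₁ ⟨x, hx⟩ * e₂ ⟨y, hy⟩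

namespace CPData

variable (d : CPData F E₁ E₂ p)

include d

theorem symm : CPData F E₂ E₁ p :=
  ⟨d.hS, d.hF, d.h₂, d.h₁, fun x hx y hy => (d.hc y hy x hx).symm, inf_comm T₁ T₂ ▸ d.hz₂,
    inf_comm T₁ T₂ ▸ d.hz₁⟩

theorem closed₁ : F.StronglyClosed T₁ := d.h₁.1.2.2.2.1

theorem closed₂ : F.StronglyClosed T₂ := d.h₂.1.2.2.2.1

theorem sup_le' : T₁ ⊔ T₂ ≤ S := sup_le d.closed₁.1 d.closed₂.1

theorem exists_split {u : Ω} (hu : u ∈ T₁ ⊔ T₂) : ∃ x ∈ T₁, ∃ y ∈ T₂, x * y = u :=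
  Set.mem_mul.1 ((Subgroup.coe_mul_of_right_le_normalizer_left T₁ T₂ fun y hy =>
    Subgroup.centralizer_le_normalizer _ (Subgroup.mem_centralizer_iff.2 fun x hx => d.hc x hx y hy)).le hu)

omit d in
/-- The factors of an element. -/
theorem mem_parts {P : Subgroup Ω} {x y u : Ω} (hx : x ∈ T₁) (hy : y ∈ T₂) (hu : u ∈ P) (h : x * y = u) :
    x ∈ T₁ ⊓ (P ⊔ T₂) ∧ y ∈ T₂ ⊓ (P ⊔ T₁) := by
  refine ⟨⟨hx, ?_⟩, hy, ?_⟩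
  · rw [eq_mul_inv_of_mul_eq h]
    exact mul_mem (Subgroup.mem_sup_left hu) (Subgroup.mem_sup_right (inv_mem hy))
  · rw [eq_inv_mul_of_mul_eq h]
    exact mul_mem (Subgroup.mem_sup_right (inv_mem hx)) (Subgroup.mem_sup_left hu)

variable [Finite S]

theorem finite₁ : Finite T₁ := finite_of_le d.closed₁.1

theorem finite₂ : Finite T₂ := finite_of_le d.closed₂.1

/-- A map of `E₁` extends over the intersection of the underlying groups, fixing it. -/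
theorem exists_extZ {P₁ : Subgroup Ω} {e : P₁ →* Ω} (he : e ∈ E₁.Hom P₁) :
    ∃ e' ∈ E₁.Hom (P₁ ⊔ (T₁ ⊓ T₂)), ∀ (x : Ω) (hx : x ∈ P₁), e' ⟨x, Subgroup.mem_sup_left hx⟩ = e ⟨x, hx⟩ := by
  have := d.finite₁
  obtain ⟨ψ, hψ, h1, -⟩ := (isCentral_center E₁).2 P₁ e he
  exact ⟨_, res_mem E₁ hψ (sup_le_sup_left d.hz₁ _), fun x hx => h1 ⟨x, hx⟩⟩

theorem apply_fix {P₁ : Subgroup Ω} {e : P₁ →* Ω} (he : e ∈ E₁.Hom P₁) {x : P₁} (hx : (x : Ω) ∈ T₂) :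
    e x = x := by
  have := d.finite₁
  exact apply_eq_of_mem d.hz₁ he hx

/-- The canonical form of a product map. -/
theorem canonical {P : Subgroup Ω} {φ : P →* Ω} (h : CPHom E₁ E₂ P φ) :
    ∃ e₁ ∈ E₁.Hom (T₁ ⊓ (P ⊔ T₂)), ∃ e₂ ∈ E₂.Hom (T₂ ⊓ (P ⊔ T₁)),
      ∀ (u : P) (x y : Ω) (hx : x ∈ T₁ ⊓ (P ⊔ T₂)) (hy : y ∈ T₂ ⊓ (P ⊔ T₁)),
        x * y = u → φ u = e₁ ⟨x, hx⟩ * e₂ ⟨y, hy⟩ := by
  obtain ⟨hP, P₁, P₂, e₁, he₁, e₂, he₂, h⟩ := h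
  have hP₁ := (E₁.le_of_mem he₁).1
  have hP₂ := (E₂.le_of_mem he₂).1
  obtain ⟨f₁, hf₁, hf₁e⟩ := d.exists_extZ he₁
  obtain ⟨f₂, hf₂, hf₂e⟩ := d.symm.exists_extZ he₂
  have hPS : P ≤ S := hP.trans d.sup_le'
  have hle₁ : T₁ ⊓ (P ⊔ T₂) ≤ P₁ ⊔ (T₁ ⊓ T₂) := by
    rintro x ⟨hx, hxP⟩
    obtain ⟨u, hu, t, ht, rfl⟩ := H94.exists_mul_of_mem_sup hPS d.closed₂ hxP
    obtain ⟨x', y', hx', hy', huxy, -⟩ := h ⟨u, hu⟩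
    have hz : y' * t ∈ T₁ := by
      have hm : x'⁻¹ * (u * t) ∈ T₁ := mul_mem (inv_mem (hP₁ hx')) hx
      rwa [← show x' * y' = u from huxy, mul_assoc, inv_mul_cancel_left] at hm
    rw [← show x' * y' = u from huxy, mul_assoc]
    exact mul_mem (Subgroup.mem_sup_left hx') (Subgroup.mem_sup_right ⟨hz, mul_mem (hP₂ hy') ht⟩)
  have hle₂ : T₂ ⊓ (P ⊔ T₁) ≤ P₂ ⊔ (T₂ ⊓ T₁) := by
    rintro y ⟨hy, hyP⟩
    obtain ⟨u, hu, t, ht, rfl⟩ := H94.exists_mul_of_mem_sup hPS d.closed₁ hyP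
    obtain ⟨x', y', hx', hy', huxy, -⟩ := h ⟨u, hu⟩
    have huyx : y' * x' = u := (d.hc _ (hP₁ hx') _ (hP₂ hy')).symm.trans huxy
    have hz : x' * t ∈ T₂ := by
      have hm : y'⁻¹ * (u * t) ∈ T₂ := mul_mem (inv_mem (hP₂ hy')) hy
      rwa [← huyx, mul_assoc, inv_mul_cancel_left] at hm
    rw [← huyx, mul_assoc]
    exact mul_mem (Subgroup.mem_sup_left hy') (Subgroup.mem_sup_right ⟨hz, mul_mem (hP₁ hx') ht⟩)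
  refine ⟨_, res_mem E₁ hf₁ hle₁, _, res_mem E₂ hf₂ hle₂, fun u x y hx hy hxy => ?_⟩
  obtain ⟨x', y', hx', hy', huxy, hval⟩ := h u
  rw [hval, ← hf₁e x' hx', ← hf₂e y' hy']
  set z := x'⁻¹ * x
  have hz₁ : z ∈ T₁ := mul_mem (inv_mem (hP₁ hx')) hx.1
  have hze : z = y' * y⁻¹ := by
    rw [eq_mul_inv_iff_mul_eq, mul_assoc, hxy, ← huxy, inv_mul_cancel_left]
  have hz₂ : z ∈ T₂ := hze ▸ mul_mem (hP₂ hy') (inv_mem hy.1)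
  have hx1 : (⟨x, hle₁ hx⟩ : ↥(P₁ ⊔ (T₁ ⊓ T₂))) =
      ⟨x', Subgroup.mem_sup_left hx'⟩ * ⟨z, Subgroup.mem_sup_right ⟨hz₁, hz₂⟩⟩ :=
    Subtype.ext (mul_inv_cancel_left x' x).symm
  have hy1 : (⟨y', Subgroup.mem_sup_left hy'⟩ : ↥(P₂ ⊔ (T₂ ⊓ T₁))) =
      ⟨z, Subgroup.mem_sup_right ⟨hz₂, hz₁⟩⟩ * ⟨y, hle₂ hy⟩ :=
    Subtype.ext (by show y' = z * y; rw [hze, inv_mul_cancel_right])
  show f₁ _ * f₂ _ = f₁ ⟨x, hle₁ hx⟩ * f₂ ⟨y, hle₂ hy⟩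
  rw [hx1, hy1, map_mul, map_mul, d.apply_fix hf₁ (x := ⟨z, _⟩) hz₂,
    d.symm.apply_fix hf₂ (x := ⟨z, _⟩) hz₁]
  simp only [z, mul_assoc]

/-- The two factors may be exchanged. -/
theorem cpHom_symm {P : Subgroup Ω} {φ : P →* Ω} (h : CPHom E₁ E₂ P φ) : CPHom E₂ E₁ P φ := by
  obtain ⟨hP, P₁, P₂, e₁, he₁, e₂, he₂, h⟩ := h
  refine ⟨sup_comm T₁ T₂ ▸ hP, P₂, P₁, e₂, he₂, e₁, he₁, fun u => ?_⟩
  obtain ⟨x, y, hx, hy, hxy, hval⟩ := h u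
  exact ⟨y, x, hy, hx, (d.hc _ ((E₁.le_of_mem he₁).1 hx) _ ((E₂.le_of_mem he₂).1 hy)).symm.trans hxy,
    hval.trans (d.hc _ ((E₁.le_of_mem he₁).2 _) _ ((E₂.le_of_mem he₂).2 _))⟩

/-- The maps of a central product. -/
theorem hom_iff {D : FusionSystem (T₁ ⊔ T₂)} (hD : IsCentralProductOf E₁ E₂ D) {P : Subgroup Ω}
    {φ : P →* Ω} : φ ∈ D.Hom P ↔ CPHom E₁ E₂ P φ := by
  obtain ⟨D₀, hD₀, Z, θ, -, -, -, hθ₁, hθ₂, -, -, -, hiff⟩ := hD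
  have hθ : ∀ w : ↥(T₁.prod T₂), θ w = (w : Ω × Ω).1 * (w : Ω × Ω).2 := fun w => by
    have hw := Subgroup.mem_prod.1 w.2
    have : w = (⟨((w : Ω × Ω).1, 1), Subgroup.mem_prod.2 ⟨hw.1, one_mem _⟩⟩ : ↥(T₁.prod T₂)) *
        ⟨(1, (w : Ω × Ω).2), Subgroup.mem_prod.2 ⟨one_mem _, hw.2⟩⟩ :=
      Subtype.ext (Prod.ext (by simp) (by simp))
    exact (congrArg θ this).trans ((map_mul θ _ _).trans (congrArg₂ (· * ·) (hθ₁ _ _) (hθ₂ _ _)))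
  constructor
  · intro h
    obtain ⟨hP, ψ, hψ, hpre, hψm, hm, hind⟩ := (hiff P φ).1 h
    obtain ⟨-, φ₁, hφ₁, φ₂, hφ₂, hψe⟩ := (hD₀ _ ψ).1 hψ
    refine ⟨hP, _, _, φ₁, hφ₁, φ₂, hφ₂, fun u => ?_⟩
    obtain ⟨x, hx, y, hy, hxy⟩ := d.exists_split (hP u.2)
    have hw : ((x, y) : Ω × Ω) ∈ preimageAlong θ P :=
      H94.mem_preimageAlong.mpr ⟨Subgroup.mem_prod.2 ⟨hx, hy⟩, by rw [hθ]; exact hxy ▸ u.2⟩
    let w : ↥(preimageAlong θ P) := ⟨(x, y), hw⟩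
    refine ⟨x, y, H94.mem_proj₁ w, H94.mem_proj₂ w, hxy, ?_⟩
    refine (congrArg φ (Subtype.ext ((hθ ⟨w, hpre w.2⟩).trans hxy).symm :
      u = ⟨θ ⟨w, hpre w.2⟩, hm w⟩)).trans ((hind w).trans ((hθ _).trans ?_))
    exact congrArg (fun z : Ω × Ω => z.1 * z.2) (hψe w (H94.mem_proj₁ w) (H94.mem_proj₂ w))
  · intro h
    obtain ⟨e₁, he₁, e₂, he₂, hval⟩ := d.canonical h
    have hP := h.1
    have hmem : ∀ w : ↥(preimageAlong θ P), (w : Ω × Ω) ∈ T₁.prod T₂ ∧ (w : Ω × Ω).1 * (w : Ω × Ω).2 ∈ P :=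
      fun w => by
        obtain ⟨h1, h2⟩ := H94.mem_preimageAlong.mp w.2
        exact ⟨h1, hθ ⟨_, h1⟩ ▸ h2⟩
    have h₁ : H94.proj₁ (preimageAlong θ P) ≤ T₁ ⊓ (P ⊔ T₂) := by
      rintro _ ⟨w, hw, rfl⟩
      exact (mem_parts (hmem ⟨w, hw⟩).1.1 (hmem ⟨w, hw⟩).1.2 (hmem ⟨w, hw⟩).2 rfl).1
    have h₂ : H94.proj₂ (preimageAlong θ P) ≤ T₂ ⊓ (P ⊔ T₁) := by
      rintro _ ⟨w, hw, rfl⟩
      exact (mem_parts (hmem ⟨w, hw⟩).1.1 (hmem ⟨w, hw⟩).1.2 (hmem ⟨w, hw⟩).2 rfl).2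
    obtain ⟨ψ, hψ, hψe⟩ := H94.exists_product_map hD₀ (fun w hw => (hmem ⟨w, hw⟩).1)
      (res_mem E₁ he₁ h₁) (res_mem E₂ he₂ h₂)
    refine (hiff P φ).2 ⟨hP, ψ, hψ, fun w hw => (hmem ⟨w, hw⟩).1, (D₀.le_of_mem hψ).2,
      fun w => by rw [hθ]; exact (hmem w).2, fun w => ?_⟩
    refine (hval _ _ _ (h₁ (H94.mem_proj₁ w)) (h₂ (H94.mem_proj₂ w))
      (hθ ⟨w, (hmem w).1⟩).symm).trans ?_
    rw [hθ]
    exact congrArg₂ (· * ·) (congrArg Prod.fst (hψe w)).symm (congrArg Prod.snd (hψe w)).symm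

/-- A product map is a map of the ambient system. -/
theorem mem_hom [Fact p.Prime] {P : Subgroup Ω} {φ : P →* Ω} (h : CPHom E₁ E₂ P φ) : φ ∈ F.Hom P := by
  obtain ⟨hP, P₁, P₂, e₁, he₁, e₂, he₂, h⟩ := h
  obtain ⟨a, ha, ha₁, ha₂⟩ := ext_commuting d.hS d.hF d.h₁ d.closed₂ d.hc d.hz₁ he₁
  obtain ⟨b, hb, hb₁, hb₂⟩ := ext_commuting d.symm.hS d.hF d.h₂ d.closed₁ d.symm.hc d.symm.hz₁ he₂
  have hP₂ := (E₂.le_of_mem he₂).1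
  have hle : P ≤ P₁ ⊔ T₂ := fun u hu => by
    obtain ⟨x, y, hx, hy, hxy, -⟩ := h ⟨u, hu⟩
    rw [← show x * y = u from hxy]
    exact mul_mem (Subgroup.mem_sup_left hx) (Subgroup.mem_sup_right (hP₂ hy))
  have hmid : ∀ u : P, ∀ (x y : Ω) (hx : x ∈ P₁) (hy : y ∈ P₂), x * y = u →
      res a hle u = e₁ ⟨x, hx⟩ * y := fun u x y hx hy hxy => by
    rw [← ha₁, ← show a (Subgroup.inclusion le_sup_right ⟨y, hP₂ hy⟩) = y from ha₂ ⟨y, hP₂ hy⟩, ← map_mul]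
    exact congrArg a (Subtype.ext hxy.symm)
  have hval : ∀ u : P, res a hle u ∈ P₂ ⊔ T₁ := fun u => by
    obtain ⟨x, y, hx, hy, hxy, -⟩ := h u
    rw [hmid u x y hx hy hxy]
    exact mul_mem (Subgroup.mem_sup_right ((E₁.le_of_mem he₁).2 _)) (Subgroup.mem_sup_left hy)
  obtain ⟨c, hc, hce⟩ := exists_comp F (res_mem F ha hle) hb hval
  refine mem_congr F hc fun u => ?_
  obtain ⟨x, y, hx, hy, hxy, hφ⟩ := h u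
  rw [hce, hφ, ← hb₁ ⟨y, hy⟩, ← show b (Subgroup.inclusion le_sup_right ⟨_, (E₁.le_of_mem he₁).2 ⟨x, hx⟩⟩) =
    e₁ ⟨x, hx⟩ from hb₂ ⟨_, (E₁.le_of_mem he₁).2 ⟨x, hx⟩⟩, ← map_mul]
  exact congrArg b (Subtype.ext (hmid u x y hx hy hxy)).symm

omit [Finite S] in
theorem finite_prod [Finite T₁] [Finite T₂] : Finite ↥(T₁.prod T₂) :=
  Finite.of_equiv _ (Subgroup.prodEquiv T₁ T₂).toEquiv.symm

/-- A central product of the two subsystems is saturated. -/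
theorem isSaturated [Fact p.Prime] {D : FusionSystem (T₁ ⊔ T₂)} (hD : IsCentralProductOf E₁ E₂ D) :
    D.IsSaturated p := by
  obtain ⟨D₀, hD₀, Z, θ, hZ, -, -, -, -, hfac⟩ := hD
  have := d.finite₁
  have := d.finite₂
  have := d.finite_prod
  have hp : IsPGroup p ↥(T₁.prod T₂) := by
    obtain ⟨m, hm⟩ := IsPGroup.iff_card.1 (d.hS.to_le d.closed₁.1)
    obtain ⟨n, hn⟩ := IsPGroup.iff_card.1 (d.hS.to_le d.closed₂.1)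
    exact IsPGroup.iff_card.2 ⟨m + n, by
      rw [Nat.card_congr (Subgroup.prodEquiv T₁ T₂).toEquiv, Nat.card_prod, hm, hn, pow_add]⟩
  refine H94.factor_isSaturated hp (H94.product_isSaturated (d.hS.to_le d.closed₁.1)
    (d.hS.to_le d.closed₂.1) d.h₁.1.1 d.h₂.1.1 hD₀) ⟨hfac.1, fun R hR φ hφ x => ?_⟩ hfac
  rw [apply_center D₀ hφ (hZ (hR x.2))]
  exact hR x.2

/-- The central product exists. -/
theorem exists_centralProduct : ∃ D : FusionSystem (T₁ ⊔ T₂), IsCentralProductOf E₁ E₂ D := by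
  obtain ⟨D₀, hD₀⟩ := H94.exists_productSystem E₁ E₂
  have := d.finite₁
  have := d.finite₂
  have := d.finite_prod
  let μ : ↥(T₁.prod T₂) →* Ω := MonoidHom.mk' (fun w => (w : Ω × Ω).1 * (w : Ω × Ω).2) fun u v => by
    show (u : Ω × Ω).1 * (v : Ω × Ω).1 * ((u : Ω × Ω).2 * (v : Ω × Ω).2) = _
    rw [mul_assoc, ← mul_assoc (v : Ω × Ω).1, d.hc _ v.2.1 _ u.2.2, mul_assoc, ← mul_assoc]
  set Z := μ.ker.map (T₁.prod T₂).subtype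
  have hker : ∀ s : ↥(T₁.prod T₂), μ s = 1 ↔ (s : Ω × Ω) ∈ Z := fun s => by
    simp [Z, Subgroup.mem_map]
  have hZmem : ∀ z : Ω × Ω, z ∈ Z → z.1 ∈ T₁ ⊓ T₂ ∧ z.2 ∈ T₂ ⊓ T₁ ∧ z ∈ T₁.prod T₂ ∧ z.1 * z.2 = 1 := by
    rintro _ ⟨w, hw, rfl⟩
    have h1 : (w : Ω × Ω).1 * (w : Ω × Ω).2 = 1 := hw
    refine ⟨⟨w.2.1, ?_⟩, ⟨w.2.2, ?_⟩, w.2, h1⟩
    · show (w : Ω × Ω).1 ∈ T₂
      rw [eq_inv_of_mul_eq_one_left h1]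
      exact inv_mem w.2.2
    · show (w : Ω × Ω).2 ∈ T₁
      rw [eq_inv_of_mul_eq_one_right h1]
      exact inv_mem w.2.1
  have hcen : D₀.IsCentral Z := by
    refine ⟨fun z hz => (hZmem z hz).2.2.1, fun P φ hφ => ?_⟩
    obtain ⟨hP, φ₁, hφ₁, φ₂, hφ₂, he⟩ := (hD₀ P φ).1 hφ
    obtain ⟨f₁, hf₁, hf₁e⟩ := d.exists_extZ hφ₁
    obtain ⟨f₂, hf₂, hf₂e⟩ := d.symm.exists_extZ hφ₂
    have h₁ : H94.proj₁ (P ⊔ Z) ≤ H94.proj₁ P ⊔ (T₁ ⊓ T₂) := by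
      rw [H94.proj₁, Subgroup.map_sup]
      exact sup_le_sup_left (by rintro _ ⟨z, hz, rfl⟩; exact (hZmem z hz).1) _
    have h₂ : H94.proj₂ (P ⊔ Z) ≤ H94.proj₂ P ⊔ (T₂ ⊓ T₁) := by
      rw [H94.proj₂, Subgroup.map_sup]
      exact sup_le_sup_left (by rintro _ ⟨z, hz, rfl⟩; exact (hZmem z hz).2.1) _
    obtain ⟨ψ, hψ, hψe⟩ := H94.exists_product_map hD₀ (sup_le hP fun z hz => (hZmem z hz).2.2.1)
      (res_mem E₁ hf₁ h₁) (res_mem E₂ hf₂ h₂)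
    refine ⟨ψ, hψ, fun x => ?_, fun z => ?_⟩
    · rw [hψe, he x (H94.mem_proj₁ x) (H94.mem_proj₂ x)]
      exact Prod.ext (hf₁e _ (H94.mem_proj₁ x)) (hf₂e _ (H94.mem_proj₂ x))
    · rw [hψe]
      exact Prod.ext (d.apply_fix hf₁ (x := ⟨_, _⟩) (hZmem z z.2).1.2)
        (d.symm.apply_fix hf₂ (x := ⟨_, _⟩) (hZmem z z.2).2.1.2)
  have hZc : Z ≤ D₀.center := le_sSup hcen
  have hrange : μ.range = T₁ ⊔ T₂ := by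
    refine le_antisymm ?_ fun u hu => ?_
    · rintro _ ⟨w, rfl⟩
      exact mul_mem (Subgroup.mem_sup_left w.2.1) (Subgroup.mem_sup_right w.2.2)
    · obtain ⟨x, hx, y, hy, hxy⟩ := d.exists_split hu
      exact ⟨⟨(x, y), hx, hy⟩, hxy⟩
  obtain ⟨D, hD⟩ := H94.exists_factorSystem (S' := T₁ ⊔ T₂) D₀ Z
    ⟨hcen.1, fun R hR φ hφ x => by rw [apply_center D₀ hφ (hZc (hR x.2))]; exact hR x.2⟩ μ hker hrange
  refine ⟨D, D₀, hD₀, Z, μ, hZc, ?_, ?_, fun x hx => mul_one x, fun y hy => one_mul y, hD⟩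
  · refine (Subgroup.eq_bot_iff_forall _).2 fun z hz => Prod.ext ?_ (Subgroup.mem_bot.1 hz.2.2)
    have h := (hZmem z hz.1).2.2.2
    rwa [Subgroup.mem_bot.1 hz.2.2, mul_one] at h
  · refine (Subgroup.eq_bot_iff_forall _).2 fun z hz => Prod.ext (Subgroup.mem_bot.1 hz.2.1) ?_
    have h := (hZmem z hz.1).2.2.2
    rwa [Subgroup.mem_bot.1 hz.2.1, one_mul] at h

/-- Restriction of an automorphism of the ambient system to the first factor. -/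
theorem exists_factor_aut {α : MulAut ↥(T₁ ⊔ T₂)} (hα : α ∈ F.autGroup (T₁ ⊔ T₂)) :
    ∃ a ∈ F.autGroup T₁, ∀ (x : Ω) (hx : x ∈ T₁),
      ((a ⟨x, hx⟩ : T₁) : Ω) = ((α ⟨x, Subgroup.mem_sup_left hx⟩ : ↥(T₁ ⊔ T₂)) : Ω) := by
  have hαF := res_mem F ((mem_autGroup F d.sup_le').1 hα) (le_sup_left : T₁ ≤ T₁ ⊔ T₂)
  obtain ⟨a, ha, hae⟩ := exists_autGroup_of_mem F hαF
    fun x => H94.apply_mem_of_stronglyClosed d.closed₁ hαF x.2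
  exact ⟨a, ha, fun x hx => hae ⟨x, hx⟩⟩

/-- Product maps are carried to product maps by automorphisms of the product of the underlying groups. -/
theorem cpHom_conj {P : Subgroup Ω} (hP : P ≤ T₁ ⊔ T₂) {φ : P →* Ω} (h : CPHom E₁ E₂ P φ)
    {α : MulAut ↥(T₁ ⊔ T₂)} (hα : α ∈ F.autGroup (T₁ ⊔ T₂)) :
    ∃ χ, CPHom E₁ E₂ ((P.subgroupOf (T₁ ⊔ T₂)).map ((T₁ ⊔ T₂).subtype.comp α.toMonoidHom)) χ ∧
      ∀ (x : P) (hφx : φ x ∈ T₁ ⊔ T₂) (hαx : ((α ⟨x, hP x.2⟩ : ↥(T₁ ⊔ T₂)) : Ω) ∈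
        (P.subgroupOf (T₁ ⊔ T₂)).map ((T₁ ⊔ T₂).subtype.comp α.toMonoidHom)),
          χ ⟨_, hαx⟩ = ((α ⟨φ x, hφx⟩ : ↥(T₁ ⊔ T₂)) : Ω) := by
  set Q := (P.subgroupOf (T₁ ⊔ T₂)).map ((T₁ ⊔ T₂).subtype.comp α.toMonoidHom)
  obtain ⟨hP', P₁, P₂, e₁, he₁, e₂, he₂, h⟩ := h
  obtain ⟨a₁, ha₁, ha₁e⟩ := d.exists_factor_aut hα
  obtain ⟨a₂, ha₂, ha₂e⟩ : ∃ a ∈ F.autGroup T₂, ∀ (x : Ω) (hx : x ∈ T₂),
      ((a ⟨x, hx⟩ : T₂) : Ω) = ((α ⟨x, Subgroup.mem_sup_right hx⟩ : ↥(T₁ ⊔ T₂)) : Ω) := by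
    have hαF := res_mem F ((mem_autGroup F d.sup_le').1 hα) (le_sup_right : T₂ ≤ T₁ ⊔ T₂)
    obtain ⟨a, ha, hae⟩ := exists_autGroup_of_mem F hαF
      fun x => H94.apply_mem_of_stronglyClosed d.closed₂ hαF x.2
    exact ⟨a, ha, fun x hx => hae ⟨x, hx⟩⟩
  obtain ⟨c₁, hc₁, hc₁e⟩ := d.h₁.1.2.2.2.2.1 P₁ (E₁.le_of_mem he₁).1 e₁ he₁ a₁ ha₁
  obtain ⟨c₂, hc₂, hc₂e⟩ := d.h₂.1.2.2.2.2.1 P₂ (E₂.le_of_mem he₂).1 e₂ he₂ a₂ ha₂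
  have hφR : ∀ u : P, φ u ∈ T₁ ⊔ T₂ := fun u => by
    obtain ⟨x, y, hx, hy, -, hv⟩ := h u
    rw [hv]
    exact mul_mem (Subgroup.mem_sup_left ((E₁.le_of_mem he₁).2 _))
      (Subgroup.mem_sup_right ((E₂.le_of_mem he₂).2 _))
  have hQR : Q ≤ T₁ ⊔ T₂ := by rintro _ ⟨w, -, rfl⟩; exact (α w).2
  have hback : ∀ v : Q, ((α⁻¹ ⟨v, hQR v.2⟩ : ↥(T₁ ⊔ T₂)) : Ω) ∈ P := by
    rintro ⟨v, w, hw, rfl⟩
    show ((α⁻¹ (α w) : ↥(T₁ ⊔ T₂)) : Ω) ∈ P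
    rw [MulAut.inv_apply_self]
    exact hw
  let χ : Q →* Ω := ((T₁ ⊔ T₂).subtype.comp α.toMonoidHom).comp ((φ.codRestrict _ hφR).comp
    ((((T₁ ⊔ T₂).subtype.comp (α⁻¹).toMonoidHom).comp (Subgroup.inclusion hQR)).codRestrict P hback))
  have hχ : ∀ (u : P) (hv : ((α ⟨u, hP u.2⟩ : ↥(T₁ ⊔ T₂)) : Ω) ∈ Q),
      χ ⟨_, hv⟩ = ((α ⟨φ u, hφR u⟩ : ↥(T₁ ⊔ T₂)) : Ω) := fun u hv => by
    refine congrArg (fun w : ↥(T₁ ⊔ T₂) => ((α w : ↥(T₁ ⊔ T₂)) : Ω))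
      (Subtype.ext (congrArg φ (Subtype.ext ?_)))
    show ((α⁻¹ (α ⟨u, hP u.2⟩) : ↥(T₁ ⊔ T₂)) : Ω) = u
    rw [MulAut.inv_apply_self]
  refine ⟨χ, ⟨hQR, _, _, c₁, hc₁, c₂, hc₂, ?_⟩, fun x hφx hαx => hχ x hαx⟩
  rintro ⟨v, hv⟩
  obtain ⟨w, hw, hwv⟩ := id hv
  subst hwv
  obtain ⟨x, y, hx, hy, hxy, hval⟩ := h ⟨w, hw⟩
  have hx₁ := (E₁.le_of_mem he₁).1 hx
  have hy₂ := (E₂.le_of_mem he₂).1 hy
  have hex := (E₁.le_of_mem he₁).2 ⟨x, hx⟩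
  have hey := (E₂.le_of_mem he₂).2 ⟨y, hy⟩
  refine ⟨_, _, ⟨⟨x, hx₁⟩, hx, rfl⟩, ⟨⟨y, hy₂⟩, hy, rfl⟩, ?_, ?_⟩
  · show ((a₁ ⟨x, hx₁⟩ : T₁) : Ω) * ((a₂ ⟨y, hy₂⟩ : T₂) : Ω) = ((α w : ↥(T₁ ⊔ T₂)) : Ω)
    rw [ha₁e, ha₂e, ← Subgroup.coe_mul, ← map_mul]
    exact congrArg (fun z : ↥(T₁ ⊔ T₂) => ((α z : ↥(T₁ ⊔ T₂)) : Ω)) (Subtype.ext hxy)
  · refine (hχ ⟨w, hw⟩ _).trans ?_
    refine Eq.trans ?_ (congrArg₂ (· * ·) (hc₁e ⟨x, hx⟩ hex ⟨⟨x, hx₁⟩, hx, rfl⟩)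
      (hc₂e ⟨y, hy⟩ hey ⟨⟨y, hy₂⟩, hy, rfl⟩)).symm
    rw [ha₁e _ hex, ha₂e _ hey, ← Subgroup.coe_mul, ← map_mul]
    exact congrArg (fun z : ↥(T₁ ⊔ T₂) => ((α z : ↥(T₁ ⊔ T₂)) : Ω)) (Subtype.ext hval)

end CPData

end Cfsg.Agent.H93.CPN
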