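import Cfsg.Agent.H93.CentralProductMap
import Cfsg.Agent.H93.NormalRadical
import Cfsg.Agent.H94.Invariance
import Cfsg.Agent.H19.Cores

/-!
A central product of two commuting normal subsystems is normal.
-/

set_option autoImplicit false

namespace Cfsg.Agent.H93.CPN

open Cfsg Cfsg.FusionSystem Cfsg.Agent.H96

variable {Ω : Type*} [Group Ω] {S : Subgroup Ω} [Finite S] {p : ℕ} [Fact p.Prime] {F : FusionSystem S}
  {T₁ T₂ R : Subgroup Ω} {E₁ : FusionSystem T₁} {E₂ : FusionSystem T₂} {D : FusionSystem R}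

namespace CPData

variable (d : CPData F E₁ E₂ p)

include d

/-- A centric radical subgroup contains the factors of its elements. -/
theorem mem_left_of_mul_mem {U : Subgroup Ω} (hUc : F.IsCentric U) (hUr : F.IsRadical p U) {x y : Ω}
    (hx : x ∈ T₁) (hy : y ∈ T₂) (hxy : x * y ∈ U) : x ∈ U := by
  have hT₁ := d.closed₁
  have hT₂ := d.closed₂
  have hUS := hUc.1
  have := finite_of_le hUS
  set V := T₁ ⊓ ((U ⊓ (T₁ ⊔ T₂)) ⊔ T₂) with hV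
  have hxV : x ∈ V := ⟨hx, by
    rw [eq_mul_inv_of_mul_eq (rfl : x * y = x * y)]
    exact mul_mem (Subgroup.mem_sup_left
      ⟨hxy, mul_mem (Subgroup.mem_sup_left hx) (Subgroup.mem_sup_right hy)⟩)
      (Subgroup.mem_sup_right (inv_mem hy))⟩
  have hn₁ := H94.le_normalizer_of_stronglyClosed hT₁
  have hn₂ := H94.le_normalizer_of_stronglyClosed hT₂
  have hUV : U ≤ Subgroup.normalizer (V : Set Ω) := by
    have key : ∀ g ∈ U, ∀ t ∈ V, g * t * g⁻¹ ∈ V := by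
      intro g hg t ht
      refine ⟨(Subgroup.mem_normalizer_iff.1 (hn₁ (hUS hg)) t).1 ht.1, ?_⟩
      obtain ⟨v, hv, s, hs, rfl⟩ := H94.exists_mul_of_mem_sup (inf_le_left.trans hUS) hT₂ ht.2
      rw [show g * (v * s) * g⁻¹ = g * v * g⁻¹ * (g * s * g⁻¹) by group]
      refine mul_mem (Subgroup.mem_sup_left ⟨U.mul_mem (U.mul_mem hg hv.1) (U.inv_mem hg), ?_⟩)
        (Subgroup.mem_sup_right ((Subgroup.mem_normalizer_iff.1 (hn₂ (hUS hg)) s).1 hs))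
      obtain ⟨a, ha, b, hb, hab⟩ := d.exists_split hv.2
      rw [← hab, show g * (a * b) * g⁻¹ = g * a * g⁻¹ * (g * b * g⁻¹) by group]
      exact mul_mem (Subgroup.mem_sup_left ((Subgroup.mem_normalizer_iff.1 (hn₁ (hUS hg)) a).1 ha))
        (Subgroup.mem_sup_right ((Subgroup.mem_normalizer_iff.1 (hn₂ (hUS hg)) b).1 hb))
    exact fun g hg => mem_normalizer_of_forall_conj_mem' U V key hg
  by_contra hxU
  have hUVS : U ⊔ V ≤ S := sup_le hUS (inf_le_left.trans hT₁.1)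
  have := finite_of_le hUVS
  obtain ⟨g, ⟨hgW, hgN⟩, hgU⟩ := SetLike.exists_of_lt (H94.lt_normalizerIn (d.hS.to_le hUVS)
    (lt_of_le_of_ne (le_sup_left : U ≤ U ⊔ V) fun h => hxU (h.ge (Subgroup.mem_sup_right hxV))))
  obtain ⟨u₀, hu₀, t, htV, rfl⟩ := Set.mem_mul.1 ((Subgroup.coe_mul_of_left_le_normalizer_right U V hUV).le hgW)
  have htU : t ∉ U := fun h => hgU (mul_mem hu₀ h)
  have htN : t ∈ Subgroup.normalizer (U : Set Ω) := by
    have := mul_mem (inv_mem (Subgroup.le_normalizer hu₀)) hgN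
    simpa using this
  obtain ⟨v, hv, y₀, hy₀, hvy⟩ := H94.exists_mul_of_mem_sup (inf_le_left.trans hUS) hT₂ htV.2
  have hclosed : ∀ {b : MulAut U}, b ∈ F.autGroup U → ∀ z : U, (z : Ω) ∈ T₁ → ((b z : U) : Ω) ∈ T₁ :=
    fun hb z hz => H94.apply_mem_of_stronglyClosed hT₁ ((mem_autGroup F hUS).1 hb) hz
  let B : Subgroup (MulAut U) :=
    { carrier := {b | b ∈ F.autGroup U ∧ ModTrivial (U ⊓ T₁) b ∧
        ∃ w ∈ U, ∀ z : U, (z : Ω) ∈ T₁ → ((b z : U) : Ω) = w * z * w⁻¹}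
      one_mem' := ⟨one_mem _, modTrivial_one, 1, one_mem _, fun z _ => by simp⟩
      mul_mem' := by
        rintro b c ⟨hb, hbm, w, hw, hwe⟩ ⟨hc, hcm, w', hw', hwe'⟩
        refine ⟨mul_mem hb hc, modTrivial_mul hbm hcm, w * w', mul_mem hw hw', fun z hz => ?_⟩
        rw [MulAut.mul_apply, hwe _ (hclosed hc z hz), hwe' z hz]
        group
      inv_mem' := by
        rintro b ⟨hb, hbm, w, hw, hwe⟩
        refine ⟨inv_mem hb, modTrivial_inv hbm, w⁻¹, inv_mem hw, fun z hz => ?_⟩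
        have h := hwe _ (hclosed (inv_mem hb) z hz)
        rw [MulAut.apply_inv_self] at h
        rw [h]
        group }
  have hBn : (B.subgroupOf (F.autGroup U)).Normal := ⟨fun b hb a => by
    obtain ⟨hbF, hbm, w, hw, hwe⟩ := Subgroup.mem_subgroupOf.1 hb
    refine Subgroup.mem_subgroupOf.2 ⟨mul_mem (mul_mem a.2 hbF) (inv_mem a.2), fun z => ?_,
      (((a : MulAut U) ⟨w, hw⟩ : U) : Ω), ((a : MulAut U) _).2, fun z hz => ?_⟩
    · set z' := (a : MulAut U)⁻¹ z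
      have h1 : ((z'⁻¹ * (b : MulAut U) z' : U) : Ω) ∈ T₁ := (hbm z').2
      have h2 := hclosed a.2 _ h1
      rw [map_mul, map_inv, MulAut.apply_inv_self] at h2
      exact ⟨U.mul_mem (U.inv_mem z.2) (Subtype.property _), h2⟩
    · set z' := (a : MulAut U)⁻¹ z
      have h1 : (b : MulAut U) z' = ⟨w, hw⟩ * z' * ⟨w, hw⟩⁻¹ :=
        Subtype.ext (hwe z' (hclosed (inv_mem a.2) z hz))
      have h2 := congrArg (fun q : U => (((a : MulAut U) q : U) : Ω)) h1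
      simp only [map_mul, map_inv, Subgroup.coe_mul, Subgroup.coe_inv] at h2
      rw [MulAut.apply_inv_self] at h2
      exact h2⟩
  have hBp : IsPGroup p (B.subgroupOf (F.autGroup U)) := by
    rintro ⟨⟨b, hbF⟩, hb⟩
    obtain ⟨-, hbm, w, hw, hwe⟩ := Subgroup.mem_subgroupOf.1 hb
    obtain ⟨n, hn⟩ := d.hS.to_le hUS ⟨w, hw⟩
    have hpow : ∀ (m : ℕ) (z : U), (z : Ω) ∈ T₁ → (((b ^ m) z : U) : Ω) = w ^ m * z * (w ^ m)⁻¹ := by
      intro m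
      induction m with
      | zero => simp
      | succ m ih =>
        intro z hz
        rw [pow_succ', MulAut.mul_apply, hwe _ (hclosed (pow_mem hbF m) z hz), ih z hz, pow_succ']
        group
    obtain ⟨k, hk⟩ := H93.pow_eq_one_of_stabilizes d.hS hUS (δ := b ^ p ^ n) (R := U ⊓ T₁)
      (fun z hz => Subtype.ext (by
        rw [hpow _ z hz.2, show w ^ p ^ n = 1 from congrArg (fun q : U => (q : Ω)) hn]
        simp))
      (fun z => modTrivial_pow hbm _ z)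
    refine ⟨n + k, Subtype.ext (Subtype.ext ?_)⟩
    show b ^ p ^ (n + k) = 1
    rw [pow_add, pow_mul, hk]
  obtain ⟨β, hβ, hβe⟩ := H94.exists_autInducedBy (hT₁.1 htV.1) htN
  have hβF := autInducedBy_le_autGroup F hUS hβ
  have hβB : β ∈ B := by
    refine ⟨hβF, fun z => ⟨U.mul_mem (U.inv_mem z.2) (β z).2, ?_⟩, v, hv.1, fun z hz => ?_⟩
    · rw [hβe, show (z : Ω)⁻¹ * (t * z * t⁻¹) = (z : Ω)⁻¹ * t * z * t⁻¹ by group]
      refine T₁.mul_mem ?_ (T₁.inv_mem htV.1)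
      have := (Subgroup.mem_normalizer_iff.1 (hn₁ (hUS (inv_mem z.2))) t).1 htV.1
      rwa [inv_inv] at this
    · rw [hβe, ← hvy, show v * y₀ * (z : Ω) * (v * y₀)⁻¹ = v * (y₀ * z * y₀⁻¹) * v⁻¹ by group,
        ← d.hc z hz y₀ hy₀, mul_inv_cancel_right]
  have hmem : β ∈ (pCore p (F.autGroup U)).map (F.autGroup U).subtype :=
    ⟨⟨β, hβF⟩, H19.le_pCore hBn hBp (Subgroup.mem_subgroupOf.2 hβB), rfl⟩
  rw [hUr.2, mem_inn_iff] at hmem
  obtain ⟨u, hu, hue⟩ := hmem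
  have hcent : u⁻¹ * t ∈ U := by
    refine hUc.2 U ⟨U.subtype, subtype_mem F hUS, Subgroup.range_subtype U⟩
      ⟨S.mul_mem (S.inv_mem (hUS hu)) (hT₁.1 htV.1), Subgroup.mem_centralizer_iff.2 fun z hz => ?_⟩
    have h := (hue ⟨z, hz⟩).symm.trans (hβe ⟨z, hz⟩)
    change u * z * u⁻¹ = t * z * t⁻¹ at h
    calc z * (u⁻¹ * t) = u⁻¹ * (u * z * u⁻¹) * t := by group
      _ = u⁻¹ * (t * z * t⁻¹) * t := by rw [h]
      _ = u⁻¹ * t * z := by group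
  exact htU (by simpa using mul_mem hu hcent)
where
  /-- Closure under conjugation gives normalization. -/
  mem_normalizer_of_forall_conj_mem' (U V : Subgroup Ω) (key : ∀ g ∈ U, ∀ t ∈ V, g * t * g⁻¹ ∈ V) {g : Ω}
      (hg : g ∈ U) : g ∈ Subgroup.normalizer (V : Set Ω) :=
    Subgroup.mem_normalizer_iff.2 fun t => ⟨key g hg t, fun h => by
      have := key g⁻¹ (U.inv_mem hg) _ h
      simpa [mul_assoc] using this⟩

theorem mem_right_of_mul_mem {U : Subgroup Ω} (hUc : F.IsCentric U) (hUr : F.IsRadical p U) {x y : Ω}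
    (hx : x ∈ T₁) (hy : y ∈ T₂) (hxy : x * y ∈ U) : y ∈ U :=
  d.symm.mem_left_of_mul_mem hUc hUr hy hx (d.hc x hx y hy ▸ hxy)

end CPData

/-- The decomposition of a map into an automorphism of `R` and a map of `D`. -/
def Dec (F : FusionSystem S) (D : FusionSystem R) (P : Subgroup Ω) (φ : P →* Ω) : Prop :=
  ∃ α ∈ F.autGroup R, ∃ φ₀ ∈ D.Hom (P ⊓ R), ∀ (x : ↥(P ⊓ R)) (hx : φ₀ x ∈ R),
    φ ⟨x, x.2.1⟩ = ((α ⟨φ₀ x, hx⟩ : R) : Ω)

omit [Finite S] [Fact p.Prime] in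
theorem dec_res {P P' : Subgroup Ω} (h : P' ≤ P) {φ : P →* Ω} (hφ : Dec F D P φ) : Dec F D P' (res φ h) := by
  obtain ⟨α, hα, φ₀, hφ₀, he⟩ := hφ
  exact ⟨α, hα, res φ₀ (inf_le_inf_right R h), res_mem D hφ₀ _, fun x hx => he _ hx⟩

/-- Invariance under the automizer of `R`. -/
def AutInvariant (F : FusionSystem S) (D : FusionSystem R) : Prop :=
  ∀ (P : Subgroup Ω) (hP : P ≤ R) (φ : P →* Ω), φ ∈ D.Hom P → ∀ α ∈ F.autGroup R,
    ∃ χ ∈ D.Hom ((P.subgroupOf R).map (R.subtype.comp α.toMonoidHom)),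
      ∀ (x : P) (hφx : φ x ∈ R)
        (hαx : ((α ⟨x, hP x.2⟩ : R) : Ω) ∈ (P.subgroupOf R).map (R.subtype.comp α.toMonoidHom)),
        χ ⟨(α ⟨x, hP x.2⟩ : R), hαx⟩ = ((α ⟨φ x, hφx⟩ : R) : Ω)

omit [Fact p.Prime] in
/-- Decomposable maps compose. -/
theorem dec_comp (hR : F.StronglyClosed R) (hinv : AutInvariant F D) {P Q : Subgroup Ω} {φ : P →* Ω}
    {ψ : Q →* Ω} (hφ : φ ∈ F.Hom P) (h₁ : Dec F D P φ) (h₂ : Dec F D Q ψ) (hPQ : ∀ x : P, φ x ∈ Q) :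
    Dec F D P (ψ.comp (φ.codRestrict Q hPQ)) := by
  obtain ⟨α, hα, φ₀, hφ₀, he⟩ := h₁
  obtain ⟨β, hβ, ψ₀, hψ₀, he'⟩ := h₂
  have hφ₀R := (D.le_of_mem hφ₀).2
  have hψ₀R := (D.le_of_mem hψ₀).2
  obtain ⟨χ, hχ, hχe⟩ := hinv (Q ⊓ R) inf_le_right ψ₀ hψ₀ _ (inv_mem hα)
  have hval : ∀ x : ↥(P ⊓ R),
      φ₀ x ∈ ((Q ⊓ R).subgroupOf R).map (R.subtype.comp (α⁻¹).toMonoidHom) := fun x => by
    refine ⟨α ⟨φ₀ x, hφ₀R x⟩, ⟨?_, (α _).2⟩, congrArg Subtype.val (α.symm_apply_apply ⟨φ₀ x, hφ₀R x⟩)⟩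
    show ((α ⟨φ₀ x, hφ₀R x⟩ : R) : Ω) ∈ Q
    rw [← he x (hφ₀R x)]
    exact hPQ _
  obtain ⟨η, hη, hηe⟩ := H96.exists_comp D hφ₀ hχ hval
  refine ⟨β * α, mul_mem hβ hα, η, hη, fun x hx => ?_⟩
  have hy : φ ⟨x, x.2.1⟩ ∈ Q ⊓ R := ⟨hPQ _, H94.apply_mem_of_stronglyClosed hR hφ x.2.2⟩
  show ψ ⟨φ ⟨x, x.2.1⟩, hPQ _⟩ = _
  rw [show (⟨φ ⟨x, x.2.1⟩, hPQ _⟩ : Q) = ⟨((⟨_, hy⟩ : ↥(Q ⊓ R)) : Ω), hy.1⟩ from rfl,
    he' ⟨_, hy⟩ (hψ₀R _)]
  have h1 : ((α⁻¹ ⟨φ ⟨x, x.2.1⟩, hy.2⟩ : R) : Ω) = φ₀ x := by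
    rw [show (⟨φ ⟨x, x.2.1⟩, hy.2⟩ : R) = α ⟨φ₀ x, hφ₀R x⟩ from Subtype.ext (he x (hφ₀R x))]
    exact congrArg Subtype.val (α.symm_apply_apply ⟨φ₀ x, hφ₀R x⟩)
  have h2 := hχe ⟨_, hy⟩ (hψ₀R _) (h1 ▸ hval x)
  have h3 : η x = ((α⁻¹ ⟨ψ₀ ⟨_, hy⟩, hψ₀R _⟩ : R) : Ω) := by
    rw [hηe]
    exact (congrArg χ (Subtype.ext h1.symm)).trans h2
  refine congrArg (fun w : R => ((β w : R) : Ω)) ?_
  rw [show (⟨η x, hx⟩ : R) = α⁻¹ ⟨ψ₀ ⟨_, hy⟩, hψ₀R _⟩ from Subtype.ext h3]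
  exact (α.apply_symm_apply ⟨ψ₀ ⟨_, hy⟩, hψ₀R _⟩).symm

namespace CPData

variable (d : CPData F E₁ E₂ p)

include d

/-- The decomposition of an automorphism of a centric radical subgroup not containing `T₁`. -/
theorem dec_of_not_le (hR : R = T₁ ⊔ T₂) (hD : ∀ P φ, CPHom E₁ E₂ P φ → φ ∈ D.Hom P)
    (hinv : AutInvariant F D) {U : Subgroup Ω} (hU : F.IsFullyNormalized U) (hUc : F.IsCentric U)
    (hUr : F.IsRadical p U)
    (IH : ∀ (P : Subgroup Ω) (χ : P →* Ω), χ ∈ F.Hom P → Nat.card U < Nat.card P → Dec F D P χ)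
    (hTU : ¬ T₁ ≤ U) {a : MulAut U} (ha : a ∈ F.autGroup U) :
    Dec F D U (U.subtype.comp a.toMonoidHom) := by
  have hT := d.closed₁
  have hUS := hU.1
  have := finite_of_le hUS
  have hRc : F.StronglyClosed R := hR ▸ H94.stronglyClosed_sup d.hS d.hF d.closed₁ d.closed₂
  have hsi : H94.StronglyInvariant E₁ F := H94.stronglyInvariant_of_invariant d.h₁.1.2.2
  have hXT : U ⊓ T₁ ≤ T₁ := inf_le_right
  have hrest : ∀ {b : MulAut U}, b ∈ F.autGroup U → ∃ k ∈ F.autGroup (U ⊓ T₁), ∀ z : ↥(U ⊓ T₁),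
      ((k z : ↥(U ⊓ T₁)) : Ω) = ((b ⟨z, z.2.1⟩ : U) : Ω) := fun {b} hb => by
    have hbF := res_mem F ((mem_autGroup F hUS).1 hb) (inf_le_left : U ⊓ T₁ ≤ U)
    exact exists_autGroup_of_mem F hbF fun z => ⟨(b _).2, H94.apply_mem_of_stronglyClosed hT hbF z.2.2⟩
  let K : Subgroup (MulAut U) :=
    { carrier := {b | b ∈ F.autGroup U ∧ ModTrivial (U ⊓ T₁) b ∧
        ∃ k ∈ E₁.autGroup (U ⊓ T₁), ∀ z : ↥(U ⊓ T₁), ((k z : ↥(U ⊓ T₁)) : Ω) = ((b ⟨z, z.2.1⟩ : U) : Ω)}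
      one_mem' := ⟨one_mem _, modTrivial_one, 1, one_mem _, fun z => rfl⟩
      mul_mem' := by
        rintro b c ⟨hb, hbm, k, hk, hke⟩ ⟨hc, hcm, l, hl, hle⟩
        refine ⟨mul_mem hb hc, modTrivial_mul hbm hcm, k * l, mul_mem hk hl, fun z => ?_⟩
        rw [MulAut.mul_apply, hke]
        exact congrArg (fun q : U => ((b q : U) : Ω)) (Subtype.ext (hle z))
      inv_mem' := by
        rintro b ⟨hb, hbm, k, hk, hke⟩
        refine ⟨inv_mem hb, modTrivial_inv hbm, k⁻¹, inv_mem hk, fun z => ?_⟩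
        have h := hke (k⁻¹ z)
        rw [MulAut.apply_inv_self] at h
        have h2 : (⟨(z : Ω), z.2.1⟩ : U) = b ⟨((k⁻¹ z : ↥(U ⊓ T₁)) : Ω), (k⁻¹ z).2.1⟩ := Subtype.ext h
        rw [h2, MulAut.inv_apply_self] }
  have hKn : ∀ c ∈ F.autGroup U, ∀ b ∈ K, c * b * c⁻¹ ∈ K := by
    rintro c hc b ⟨hb, hbm, k, hk, hke⟩
    obtain ⟨c', hc', hc'e⟩ := hrest hc
    refine ⟨mul_mem (mul_mem hc hb) (inv_mem hc), fun z => ?_, c' * k * c'⁻¹,
      H94.autGroup_conj_mem hsi hT.1 hXT hc' hk, fun z => ?_⟩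
    · set z' := c⁻¹ z
      have h1 : ((z'⁻¹ * b z' : U) : Ω) ∈ T₁ := (hbm z').2
      have h2 : ((c (z'⁻¹ * b z') : U) : Ω) ∈ T₁ :=
        H94.apply_mem_of_stronglyClosed hT ((mem_autGroup F hUS).1 hc) h1
      rw [map_mul, map_inv, MulAut.apply_inv_self] at h2
      exact ⟨U.mul_mem (U.inv_mem z.2) (Subtype.property _), h2⟩
    · set z' := c'⁻¹ z
      have hz : c⁻¹ (⟨(z : Ω), z.2.1⟩ : U) = ⟨(z' : Ω), z'.2.1⟩ := by
        apply c.injective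
        rw [MulAut.apply_inv_self]
        apply Subtype.ext
        rw [← hc'e z', MulAut.apply_inv_self]
      show ((c' (k z') : ↥(U ⊓ T₁)) : Ω) = ((c (b (c⁻¹ ⟨z, z.2.1⟩)) : U) : Ω)
      rw [hz, hc'e]
      exact congrArg (fun q : U => ((c q : U) : Ω)) (Subtype.ext (hke z'))
  obtain ⟨hA, hRec⟩ := H94.fullyNormalized_spec d.hS d.hF hU
  obtain ⟨a₁, ha₁, κ, hκ, rfl, ha₁n⟩ := H94.autGroup_frattini hA K (fun _ h => h.1) hKn ha
  -- an element of `T₁` normalizing `U` outside it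
  obtain ⟨t, htT, htN, htU⟩ : ∃ t ∈ T₁, t ∈ Subgroup.normalizer (U : Set Ω) ∧ t ∉ U := by
    have := finite_of_le (S := S) (P := U ⊔ T₁) (sup_le hUS hT.1)
    obtain ⟨g, ⟨hgUT, hgN⟩, hgU⟩ := SetLike.exists_of_lt (H94.lt_normalizerIn
      (d.hS.to_le (sup_le hUS hT.1)) (lt_of_le_of_ne le_sup_left fun h => hTU (h ▸ le_sup_right)))
    obtain ⟨u, hu, t, ht, rfl⟩ := H94.exists_mul_of_mem_sup hUS hT hgUT
    refine ⟨t, ht, ?_, fun htU => hgU (U.mul_mem hu htU)⟩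
    have := mul_mem (inv_mem (Subgroup.le_normalizer hu)) hgN
    simpa using this
  obtain ⟨β, hβ, hβe⟩ := H94.exists_autInducedBy (hT.1 htT) htN
  have hβK : β ∈ K := by
    refine ⟨autInducedBy_le_autGroup F hUS hβ, fun z => ⟨U.mul_mem (U.inv_mem z.2) (β z).2, ?_⟩, ?_⟩
    · rw [hβe, show (z : Ω)⁻¹ * (t * z * t⁻¹) = (z : Ω)⁻¹ * t * z * t⁻¹ by group]
      refine T₁.mul_mem ?_ (T₁.inv_mem htT)
      have := (Subgroup.mem_normalizer_iff.1 (H94.le_normalizer_of_stronglyClosed hT (hUS (inv_mem z.2))) t).1 htT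
      rwa [inv_inv] at this
    · have hfin : Finite T₁ := d.finite₁
      obtain ⟨k, hk, hke⟩ := exists_autGroup_of_mem E₁ (E₁.conj_mem hXT htT) fun z =>
        ⟨(Subgroup.mem_normalizer_iff.1 htN (z : Ω)).1 z.2.1, T₁.mul_mem (T₁.mul_mem htT z.2.2) (T₁.inv_mem htT)⟩
      exact ⟨k, hk, fun z => (hke z).trans (hβe ⟨z, z.2.1⟩).symm⟩
  -- the first factor extends
  have h₁ : Dec F D U (U.subtype.comp a₁.toMonoidHom) := by
    have htE := H94.mem_extender_of_conj (hT.1 htT) htN hβe (ha₁n β hβK hβ)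
    have hlt : U < extender S U (U.subtype.comp a₁.toMonoidHom) :=
      lt_of_le_of_ne (H94.le_extender_aut hUS a₁) fun h => htU (h ▸ htE)
    have ha₁F := (mem_autGroup F hUS).1 ha₁
    obtain ⟨ψ, hψ, hψe⟩ := hRec.2 U _ ha₁F (range_eq_of_forall_mem F ha₁F fun x => (a₁ x).2)
    have := finite_of_le (F.le_of_mem hψ).1
    have h := dec_res hlt.le (IH _ ψ hψ (lt_of_le_of_ne (Subgroup.card_le_of_le hlt.le)
      fun h => hlt.ne (Subgroup.eq_of_le_of_card_ge hlt.le h.ge)))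
    rwa [show res ψ hlt.le = U.subtype.comp a₁.toMonoidHom from MonoidHom.ext fun x => hψe x x.2 _] at h
  -- the second factor
  have hmul : ∀ {b c : MulAut U}, c ∈ F.autGroup U → Dec F D U (U.subtype.comp b.toMonoidHom) →
      Dec F D U (U.subtype.comp c.toMonoidHom) → Dec F D U (U.subtype.comp (b * c).toMonoidHom) := by
    intro b c hc hbd hcd
    have h := dec_comp hRc hinv ((mem_autGroup F hUS).1 hc) hcd hbd fun x => (c x).2
    exact h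
  have hone : Dec F D U (U.subtype.comp (1 : MulAut U).toMonoidHom) :=
    ⟨1, one_mem _, (U ⊓ R).subtype, subtype_mem D inf_le_right, fun x hx => rfl⟩
  let Good : Subgroup (MulAut U) :=
    { carrier := {b | b ∈ F.autGroup U ∧ Dec F D U (U.subtype.comp b.toMonoidHom) ∧
        Dec F D U (U.subtype.comp b⁻¹.toMonoidHom)}
      one_mem' := ⟨one_mem _, hone, by rw [inv_one]; exact hone⟩
      mul_mem' := fun {b c} hb hc => ⟨mul_mem hb.1 hc.1, hmul hc.1 hb.2.1 hc.2.1, by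
        rw [mul_inv_rev]; exact hmul (inv_mem hb.1) hc.2.2 hb.2.2⟩
      inv_mem' := fun {b} hb => ⟨inv_mem hb.1, hb.2.2, by rw [inv_inv]; exact hb.2.1⟩ }
  have hind : ∀ b ∈ autInducedBy S U, Dec F D U (U.subtype.comp b.toMonoidHom) := by
    intro b hb
    obtain ⟨s, hs, hse⟩ := mem_autInducedBy.1 hb
    obtain ⟨α, hα, hαe⟩ := H94.exists_autInducedBy hs (H94.le_normalizer_of_stronglyClosed hRc hs)
    exact ⟨α, autInducedBy_le_autGroup F hRc.1 hα, (U ⊓ R).subtype, subtype_mem D inf_le_right,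
      fun x hx => (hse _).trans (hαe ⟨x, x.2.2⟩).symm⟩
  have hcop : ∀ q : ℕ, q.Prime → q ≠ p → ∀ e : ℕ, ∀ b ∈ K, b ^ q ^ e = 1 →
      Dec F D U (U.subtype.comp b.toMonoidHom) := by
    intro q hq hqp e b hbK hbq
    have := Fact.mk hq
    obtain ⟨hb, hbm, k, hk, hke⟩ := hbK
    have hkE := (mem_autGroup E₁ hXT).1 hk
    have hfix : ∀ z : U, (z : Ω) ∈ T₂ → b z = z := fun z hz => by
      refine eq_of_fix_displacement (d.hS.to_le hUS) hqp hbq ?_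
      have h₁ : ((z⁻¹ * b z : U) : Ω) ∈ T₁ := (hbm z).2
      have h₂ : ((z⁻¹ * b z : U) : Ω) ∈ T₂ :=
        T₂.mul_mem (T₂.inv_mem hz)
          (H94.apply_mem_of_stronglyClosed d.closed₂ ((mem_autGroup F hUS).1 hb) hz)
      exact Subtype.ext ((hke ⟨_, (z⁻¹ * b z).2, h₁⟩).symm.trans (d.apply_fix hkE h₂))
    have hle : U ⊓ R ≤ U := inf_le_left
    refine ⟨1, one_mem _, res (U.subtype.comp b.toMonoidHom) hle, hD _ _ ⟨hR ▸ inf_le_right, U ⊓ T₁, U ⊓ T₂,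
      _, hkE, _, subtype_mem E₂ inf_le_right, fun u => ?_⟩, fun x hx => rfl⟩
    obtain ⟨x, hx, y, hy, hxy⟩ := d.exists_split (hR.le u.2.2)
    have hxyU : x * y ∈ U := hxy ▸ u.2.1
    have hxU := d.mem_left_of_mul_mem hUc hUr hx hy hxyU
    have hyU := d.mem_right_of_mul_mem hUc hUr hx hy hxyU
    refine ⟨x, y, ⟨hxU, hx⟩, ⟨hyU, hy⟩, hxy, ?_⟩
    show ((b ⟨u, _⟩ : U) : Ω) = ((k ⟨x, hxU, hx⟩ : ↥(U ⊓ T₁)) : Ω) * y
    rw [show (⟨u, hle u.2⟩ : U) = ⟨x, hxU⟩ * ⟨y, hyU⟩ from Subtype.ext hxy.symm, map_mul, Subgroup.coe_mul,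
      hfix ⟨y, hyU⟩ hy, hke]
  have hKG : ∀ b ∈ K, b ∈ Good := by
    intro b hb
    obtain ⟨Sy, hSy⟩ := hA.2
    haveI : (K.subgroupOf (F.autGroup U)).Normal := ⟨fun k hk c =>
      Subgroup.mem_subgroupOf.2 (hKn c c.2 k (Subgroup.mem_subgroupOf.1 hk))⟩
    obtain ⟨Sy', hSy'⟩ := H94.exists_sylow_inf_normal Sy (K.subgroupOf (F.autGroup U))
    refine mem_of_parts Sy' (Good.comap ((F.autGroup U).subtype.comp (K.subgroupOf (F.autGroup U)).subtype))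
      (fun c hc => ?_) (fun q hq hqp e c hc => ?_) ⟨⟨b, hb.1⟩, Subgroup.mem_subgroupOf.2 hb⟩
    · have h := Subgroup.mem_subgroupOf.1 (hSy.le (Subgroup.mem_subgroupOf.1 (hSy'.le hc)).1)
      exact ⟨(c : F.autGroup U).2, hind _ h, hind _ (inv_mem h)⟩
    · have hc' : ((c : F.autGroup U) : MulAut U) ^ q ^ e = 1 :=
        congrArg (fun z : ↥(K.subgroupOf (F.autGroup U)) => ((z : F.autGroup U) : MulAut U)) hc
      have hcK : ((c : F.autGroup U) : MulAut U) ∈ K := Subgroup.mem_subgroupOf.1 c.2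
      exact ⟨hcK.1, hcop q hq hqp e _ hcK hc',
        hcop q hq hqp e _ (inv_mem hcK) ((inv_pow _ _).trans (inv_eq_one.2 hc'))⟩
  exact hmul hκ.1 h₁ (hKG κ hκ).2.1

/-- Every map between subgroups of the product decomposes. -/
theorem frattini {D : FusionSystem (T₁ ⊔ T₂)} (hD : IsCentralProductOf E₁ E₂ D) (hinv : AutInvariant F D)
    {P : Subgroup Ω} {φ : P →* Ω} (hφ : φ ∈ F.Hom P) : Dec F D P φ := by
  have hRc := H94.stronglyClosed_sup d.hS d.hF d.closed₁ d.closed₂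
  refine H94.alperin_induction_step d.hS d.hF (fun P φ => Dec F D P φ)
    (fun P P' h φ _ hC => dec_res h hC) (fun P Q φ ψ hφ _ h₁ h₂ h => dec_comp hRc hinv hφ h₁ h₂ h) ?_ hφ
  intro U hU hUc hUr IH a ha
  by_cases h₁ : T₁ ≤ U
  · by_cases h₂ : T₂ ≤ U
    · have hUS := hU.1
      have haF := (mem_autGroup F hUS).1 ha
      have hRU : T₁ ⊔ T₂ ≤ U := sup_le h₁ h₂
      obtain ⟨α, hα, hαe⟩ := exists_autGroup_of_mem F (res_mem F haF hRU)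
        fun x => H94.apply_mem_of_stronglyClosed hRc haF x.2
      exact ⟨α, hα, (U ⊓ (T₁ ⊔ T₂)).subtype, subtype_mem D inf_le_right, fun x hx => (hαe ⟨x, hx⟩).symm⟩
    · exact d.symm.dec_of_not_le (sup_comm T₁ T₂)
        (fun P φ h => (d.hom_iff hD).2 (d.symm.cpHom_symm h)) hinv hU hUc hUr IH h₂ ha
  · exact d.dec_of_not_le rfl (fun P φ h => (d.hom_iff hD).2 h) hinv hU hUc hUr IH h₁ ha

/-- The extension of an automorphism of the first factor to the product and its centralizer. -/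
theorem exists_factor_ext (hR : R = T₁ ⊔ T₂) {a : MulAut T₁} (ha : a ∈ E₁.autGroup T₁) :
    ∃ β ∈ F.autGroup (R ⊔ centralizerIn S R),
      (∀ x : ↥(R ⊔ centralizerIn S R), ∀ hx : (x : Ω) ∈ T₁,
        ((β x : ↥(R ⊔ centralizerIn S R)) : Ω) = ((a ⟨x, hx⟩ : T₁) : Ω)) ∧
      (∀ x : ↥(R ⊔ centralizerIn S R), (x : Ω) ∈ T₂ → β x = x) ∧
      ∀ c : ↥(R ⊔ centralizerIn S R), (c : Ω) ∈ centralizerIn S R →
        (c : Ω)⁻¹ * ((β c : ↥(R ⊔ centralizerIn S R)) : Ω) ∈ T₁ ⊓ Subgroup.centralizer (T₁ : Set Ω) := by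
  subst hR
  obtain ⟨β, hβ, hβ₁, hβc, hβ₂⟩ := exists_top_ext d.hS d.h₁ d.closed₂ d.hc d.hz₁ ha
  have hCC : centralizerIn S (T₁ ⊔ T₂) ≤ centralizerIn S T₁ := fun c hc =>
    ⟨hc.1, Subgroup.centralizer_le (le_sup_left : T₁ ≤ T₁ ⊔ T₂) hc.2⟩
  have hle : T₁ ⊔ T₂ ⊔ centralizerIn S (T₁ ⊔ T₂) ≤ T₁ ⊔ centralizerIn S T₁ := by
    refine sup_le (sup_le le_sup_left fun y hy => Subgroup.mem_sup_right
      ⟨d.closed₂.1 hy, fun x hx => d.hc x hx y hy⟩) (hCC.trans le_sup_right)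
  have hWS : T₁ ⊔ centralizerIn S T₁ ≤ S := sup_le d.closed₁.1 inf_le_left
  set W := T₁ ⊔ T₂ ⊔ centralizerIn S (T₁ ⊔ T₂)
  have hβF := res_mem F ((mem_autGroup F hWS).1 hβ) hle
  have hgen : ∀ x : W, res ((T₁ ⊔ centralizerIn S T₁).subtype.comp β.toMonoidHom) hle x ∈ W := by
    have h1 : W ≤ (W.comap (res ((T₁ ⊔ centralizerIn S T₁).subtype.comp β.toMonoidHom) hle)).map W.subtype := by
      refine sup_le (sup_le (fun g hg => ?_) fun g hg => ?_) fun g hg => ?_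
      · refine ⟨⟨g, Subgroup.mem_sup_left (Subgroup.mem_sup_left hg)⟩, ?_, rfl⟩
        show ((β (Subgroup.inclusion le_sup_left ⟨g, hg⟩) : ↥(T₁ ⊔ centralizerIn S T₁)) : Ω) ∈ W
        rw [hβ₁]
        exact Subgroup.mem_sup_left (Subgroup.mem_sup_left (Subtype.property _))
      · refine ⟨⟨g, Subgroup.mem_sup_left (Subgroup.mem_sup_right hg)⟩, ?_, rfl⟩
        show ((β ⟨g, _⟩ : ↥(T₁ ⊔ centralizerIn S T₁)) : Ω) ∈ W
        rw [hβ₂ _ hg]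
        exact Subgroup.mem_sup_left (Subgroup.mem_sup_right hg)
      · refine ⟨⟨g, Subgroup.mem_sup_right hg⟩, ?_, rfl⟩
        show ((β ⟨g, _⟩ : ↥(T₁ ⊔ centralizerIn S T₁)) : Ω) ∈ W
        have h := W.mul_mem (Subgroup.mem_sup_right hg : g ∈ W)
          (Subgroup.mem_sup_left (Subgroup.mem_sup_left (hβc ⟨g, Subgroup.mem_sup_right (hCC hg)⟩ (hCC hg)).1))
        rwa [mul_inv_cancel_left] at h
    intro x
    obtain ⟨x', hx, e⟩ := h1 x.2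
    rw [show x = x' from Subtype.ext e.symm]
    exact hx
  obtain ⟨β', hβ', hβe⟩ := exists_autGroup_of_mem F hβF hgen
  refine ⟨β', hβ', fun x hx => (hβe x).trans (hβ₁ ⟨x, hx⟩),
    fun x hx => Subtype.ext ((hβe x).trans (congrArg Subtype.val (hβ₂ (Subgroup.inclusion hle x) hx))),
    fun c hc => ?_⟩
  rw [hβe]
  exact hβc (Subgroup.inclusion hle c) (hCC hc)

/-- A central product of two commuting normal subsystems is normal. -/
theorem isNormalIn {D : FusionSystem (T₁ ⊔ T₂)} (hD : IsCentralProductOf E₁ E₂ D) : D.IsNormalIn F p := by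
  have hRc := H94.stronglyClosed_sup d.hS d.hF d.closed₁ d.closed₂
  have hinv : AutInvariant F D := fun P hP φ hφ α hα => by
    obtain ⟨χ, hχ, hχe⟩ := d.cpHom_conj hP ((d.hom_iff hD).1 hφ) hα
    exact ⟨χ, (d.hom_iff hD).2 hχ, hχe⟩
  refine ⟨⟨d.isSaturated hD, d.hF, fun P φ hφ => d.mem_hom ((d.hom_iff hD).1 hφ), hRc, hinv,
    fun P hP φ hφ => ?_⟩, fun γ hγ => ?_⟩
  · obtain ⟨α, hα, φ₀, hφ₀, he⟩ := d.frattini hD hinv hφ
    exact ⟨α, hα, res φ₀ (le_inf le_rfl hP), res_mem D hφ₀ _, fun x hx => he _ hx⟩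
  obtain ⟨e₁, he₁, e₂, he₂, hval⟩ := d.canonical ((d.hom_iff hD).1 ((mem_autGroup D le_rfl).1 hγ))
  have := d.finite₁
  have := d.finite₂
  have hle₁ : T₁ ≤ T₁ ⊓ ((T₁ ⊔ T₂) ⊔ T₂) := le_inf le_rfl (le_sup_left.trans le_sup_left)
  have hle₂ : T₂ ≤ T₂ ⊓ ((T₁ ⊔ T₂) ⊔ T₁) := le_inf le_rfl (le_sup_right.trans le_sup_left)
  obtain ⟨a₁, ha₁, ha₁e⟩ := exists_autGroup_of_mem E₁ (res_mem E₁ he₁ hle₁) fun x => (E₁.le_of_mem he₁).2 _
  obtain ⟨a₂, ha₂, ha₂e⟩ := exists_autGroup_of_mem E₂ (res_mem E₂ he₂ hle₂) fun x => (E₂.le_of_mem he₂).2 _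
  set W := T₁ ⊔ T₂ ⊔ centralizerIn S (T₁ ⊔ T₂) with hW
  obtain ⟨β₁, hβ₁, h11, h12, h1c⟩ : ∃ β : MulAut W, _ := d.exists_factor_ext rfl ha₁
  obtain ⟨β₂, hβ₂, h22, h21, h2c⟩ : ∃ β : MulAut W, _ := d.symm.exists_factor_ext (sup_comm T₁ T₂) ha₂
  refine ⟨β₁ * β₂, mul_mem hβ₁ hβ₂, fun u => ?_, fun c hc => ?_⟩
  · obtain ⟨x, hx, y, hy, hxy⟩ := d.exists_split u.2
    have hxW : x ∈ W := Subgroup.mem_sup_left (Subgroup.mem_sup_left hx)
    have hyW : y ∈ W := Subgroup.mem_sup_left (Subgroup.mem_sup_right hy)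
    rw [show ((γ u : ↥(T₁ ⊔ T₂)) : Ω) = e₁ ⟨x, hle₁ hx⟩ * e₂ ⟨y, hle₂ hy⟩ from
      hval u x y (hle₁ hx) (hle₂ hy) hxy]
    rw [show Subgroup.inclusion (le_sup_left : T₁ ⊔ T₂ ≤ W) u = ⟨x, hxW⟩ * ⟨y, hyW⟩ from
      Subtype.ext hxy.symm, MulAut.mul_apply, map_mul, h21 ⟨x, hxW⟩ hx, map_mul, Subgroup.coe_mul,
      h11 ⟨x, hxW⟩ hx, ha₁e]
    have hy2 : ((β₂ ⟨y, hyW⟩ : W) : Ω) ∈ T₂ := by rw [h22 _ hy]; exact Subtype.property _
    rw [h12 _ hy2, h22 ⟨y, hyW⟩ hy, ha₂e]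
    rfl
  · rw [MulAut.mul_apply]
    obtain ⟨hz₂, hz₂'⟩ := h2c c hc
    set z : W := c⁻¹ * β₂ c
    have hzfix : β₁ z = z := h12 z hz₂
    obtain ⟨hz₁, hz₁'⟩ := h1c c hc
    have key : (c : Ω)⁻¹ * ((β₁ (β₂ c) : W) : Ω) = ((c : Ω)⁻¹ * ((β₁ c : W) : Ω)) * (z : Ω) := by
      rw [show β₂ c = c * z from (mul_inv_cancel_left c _).symm, map_mul, hzfix, Subgroup.coe_mul, mul_assoc]
    rw [key]
    refine ⟨mul_mem (Subgroup.mem_sup_left hz₁) (Subgroup.mem_sup_right hz₂),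
      Subgroup.mem_centralizer_iff.2 fun w hw => ?_⟩
    obtain ⟨x, hx, y, hy, rfl⟩ := d.exists_split hw
    have c1 : Commute ((c : Ω)⁻¹ * ((β₁ c : W) : Ω)) (x * y) :=
      Commute.mul_right (Subgroup.mem_centralizer_iff.1 hz₁' x hx).symm (d.hc _ hz₁ y hy)
    have c2 : Commute (z : Ω) (x * y) :=
      Commute.mul_right (d.hc x hx _ hz₂).symm (Subgroup.mem_centralizer_iff.1 hz₂' y hy).symm
    exact (c1.mul_left c2).symm.eq

end CPData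

/-- A central product of commuting normal subsystems exists and is normal. -/
theorem centralProduct_exists_isNormalIn (hS : IsPGroup p S) (hF : F.IsSaturated p) (h₁ : E₁.IsNormalIn F p)
    (h₂ : E₂.IsNormalIn F p) (hc : ⁅T₁, T₂⁆ = ⊥) (hz₁ : T₁ ⊓ T₂ ≤ E₁.center) (hz₂ : T₁ ⊓ T₂ ≤ E₂.center) :
    ∃ D : FusionSystem (T₁ ⊔ T₂), D.IsNormalIn F p ∧ IsCentralProductOf E₁ E₂ D := by
  have d : CPData F E₁ E₂ p := ⟨hS, hF, h₁, h₂, fun x hx y hy =>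
    (Subgroup.mem_centralizer_iff.1 (Subgroup.commutator_eq_bot_iff_le_centralizer.1 hc hx) y hy).symm, hz₁, hz₂⟩
  obtain ⟨D, hD⟩ := d.exists_centralProduct
  exact ⟨D, d.isNormalIn hD, hD⟩

/-- Any central product of commuting normal subsystems is normal. -/
theorem centralProduct_isNormalIn (hS : IsPGroup p S) (hF : F.IsSaturated p) (h₁ : E₁.IsNormalIn F p)
    (h₂ : E₂.IsNormalIn F p) (hc : ⁅T₁, T₂⁆ = ⊥) (hz₁ : T₁ ⊓ T₂ ≤ E₁.center) (hz₂ : T₁ ⊓ T₂ ≤ E₂.center)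
    {D : FusionSystem (T₁ ⊔ T₂)} (hD : IsCentralProductOf E₁ E₂ D) : D.IsNormalIn F p :=
  have d : CPData F E₁ E₂ p := ⟨hS, hF, h₁, h₂, fun x hx y hy =>
    (Subgroup.mem_centralizer_iff.1 (Subgroup.commutator_eq_bot_iff_le_centralizer.1 hc hx) y hy).symm, hz₁, hz₂⟩
  d.isNormalIn hD

end Cfsg.Agent.H93.CPN
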