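import Cfsg.Agent.H93.NormalCongruence

/-!
A strongly closed subgroup meeting the underlying group of a normal subsystem centrally is centralized by every
perfect subsystem of that normal subsystem.
-/

set_option autoImplicit false

namespace Cfsg.Agent.H93.CentralizeClosed

open Cfsg Cfsg.FusionSystem Cfsg.Agent.H96
open Cfsg.Agent.H93 (Mor)
open Cfsg.Agent.H94.Meet

variable {Ω : Type*} [Group Ω] {S T U : Subgroup Ω} {F : FusionSystem S} {D : FusionSystem T} {p : ℕ}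
  [Finite S] [Fact p.Prime]

/-- The hypotheses: `U` is strongly closed and meets `T` in a subgroup central in the normal subsystem `D`. -/
structure CCData (p : ℕ) (F : FusionSystem S) (D : FusionSystem T) (U : Subgroup Ω) : Prop where
  hS : IsPGroup p S
  hD : D.IsNormalIn F p
  hU : F.StronglyClosed U
  hA : T ⊓ U ≤ D.center

/-- The map extends to `P ⊔ U` fixing `T ⊓ U` and congruent to the identity modulo it. -/
def CExt (F : FusionSystem S) (T U P : Subgroup Ω) (φ : P →* Ω) : Prop :=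
  ∃ ψ ∈ F.Hom (P ⊔ U), (∀ x : P, ψ (Subgroup.inclusion le_sup_left x) = φ x) ∧
    (∀ x : U, (x : Ω) ∈ T → ψ (Subgroup.inclusion le_sup_right x) = x) ∧
    ∀ x : U, (x : Ω)⁻¹ * ψ (Subgroup.inclusion le_sup_right x) ∈ T ⊓ U

namespace CCData

variable (c : CCData p F D U)

include c

omit [Finite S] [Fact p.Prime] in
theorem hT : F.StronglyClosed T := c.hD.1.2.2.2.1

omit [Finite S] [Fact p.Prime] in
theorem hI : D.IsInvariantIn F := c.hD.1.2.2

omit [Finite S] [Fact p.Prime] in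
theorem hF : F.IsSaturated p := c.hD.1.2.1

omit [Finite S] [Fact p.Prime] in
theorem hTS : T ≤ S := c.hT.1

omit [Fact p.Prime] in
theorem conj_mem_inf {s x : Ω} (hs : s ∈ S) (hx : x ∈ T ⊓ U) : s * x * s⁻¹ ∈ T ⊓ U :=
  ⟨(Subgroup.mem_normalizer_iff.1 (H94.le_normalizer_of_stronglyClosed c.hT hs) x).1 hx.1,
    (Subgroup.mem_normalizer_iff.1 (H94.le_normalizer_of_stronglyClosed c.hU hs) x).1 hx.2⟩

omit [Fact p.Prime] in
theorem commutator_mem {x e : Ω} (hx : x ∈ T) (he : e ∈ U) : x⁻¹ * (e * x * e⁻¹) ∈ T ⊓ U := by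
  refine ⟨T.mul_mem (T.inv_mem hx)
    ((Subgroup.mem_normalizer_iff.1 (H94.le_normalizer_of_stronglyClosed c.hT (c.hU.1 he)) x).1 hx), ?_⟩
  have h := (Subgroup.mem_normalizer_iff.1 (H94.le_normalizer_of_stronglyClosed c.hU
    (S.inv_mem (c.hTS hx))) e).1 he
  rw [inv_inv] at h
  rw [show x⁻¹ * (e * x * e⁻¹) = x⁻¹ * e * x * e⁻¹ by group]
  exact U.mul_mem h (U.inv_mem he)

omit [Fact p.Prime] in
theorem apply_inf {P : Subgroup Ω} {φ : P →* Ω} (hφ : φ ∈ D.Hom P) {x : P} (hx : (x : Ω) ∈ T ⊓ U) : φ x = x := by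
  have := finite_of_le c.hTS
  exact apply_center D hφ (c.hA hx)

omit [Fact p.Prime] in
theorem inf_commute {z t : Ω} (hz : z ∈ T ⊓ U) (ht : t ∈ T) : t * z = z * t :=
  Subgroup.mem_centralizer_iff.1 (D.center_le_centralizer (c.hA hz)) t ht

omit [Fact p.Prime] in
theorem inf_le_centric {P : Subgroup Ω} (hP : D.IsCentric P) : T ⊓ U ≤ P := fun z hz =>
  hP.2 P ⟨P.subtype, subtype_mem D hP.1, Subgroup.range_subtype P⟩
    ⟨hz.1, Subgroup.mem_centralizer_iff.2 fun x hx => c.inf_commute hz (hP.1 hx)⟩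

omit [Fact p.Prime] in
theorem le_normalizerIn {P : Subgroup Ω} (hP : D.IsCentric P) : U ≤ normalizerIn S P := by
  intro e he
  have key : ∀ e ∈ U, ∀ x ∈ P, e * x * e⁻¹ ∈ P := fun e he x hx => by
    have h := P.mul_mem hx (c.inf_le_centric hP (c.commutator_mem (hP.1 hx) he))
    rwa [mul_inv_cancel_left] at h
  refine ⟨c.hU.1 he, Subgroup.mem_normalizer_iff.2 fun x => ⟨key e he x, fun h => ?_⟩⟩
  have := key e⁻¹ (U.inv_mem he) _ h
  simpa [mul_assoc] using this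

/-- The extension of a congruent automorphism of the hull over `U`. -/
theorem exists_ext_hull {Q : Subgroup Ω} (hQ : D.IsCentric Q) {α : MulAut (hull S Q)}
    (hα : α ∈ F.autGroup (hull S Q)) (hαA : ∀ y : hull S Q, (y : Ω) ∈ T ⊓ U → α y = y)
    (hαT : ∀ y : hull S Q, (y : Ω)⁻¹ * ((α y : hull S Q) : Ω) ∈ T) :
    ∃ β ∈ F.autGroup (hull S Q ⊔ U), ∀ y : hull S Q,
      β (Subgroup.inclusion le_sup_left y) = Subgroup.inclusion le_sup_left (α y) := by
  have hS := c.hS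
  have hQT := hQ.1
  have hQS := hQT.trans c.hTS
  have hHS : hull S Q ≤ S := hull_le hQS
  have hQc := NormalCongruence.tCentric_of_centric c.hI hQ
  rw [inf_idem] at hQc
  have hUn : U ≤ normalizerIn S (hull S Q) := fun e he =>
    H24.Meet.mem_normalizerIn_hull hQS (c.le_normalizerIn hQ he)
  -- a fully normalized conjugate of the hull
  obtain ⟨H', hconj, hH'⟩ := H93.exists_isFullyNormalized F hHS
  obtain ⟨π, hπ, -, himg⟩ := H93.exists_map_to_fullyNormalized hS c.hF hH' hconj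
  obtain ⟨f, hf, hfe⟩ := H93.exists_mor hπ rfl
  have hHN : hull S Q ≤ normalizerIn S (hull S Q) := H93.le_normalizerIn hHS
  have hfH : Mor F (hull S Q) H' f := by
    refine hf.restrict_eq hHN (fun x hx => ?_) fun y hy => ?_
    · rw [show f x = _ from hfe ⟨x, hHN hx⟩, ← himg]
      exact H93.apply_mem_imgIn hx
    · rw [← himg] at hy
      obtain ⟨x, hx, rfl⟩ := H93.mem_imgIn.1 hy
      exact ⟨x, hx, hfe x⟩
  have hclosed : ∀ {W : Subgroup Ω}, F.StronglyClosed W → ∀ x ∈ normalizerIn S (hull S Q),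
      (f x ∈ W ↔ x ∈ W) := by
    intro W hW x hx
    obtain ⟨fi, hfi, hfi1, -⟩ := hf.exists_inv
    refine ⟨fun h => ?_, fun h => ?_⟩
    · obtain ⟨ψ, hψ, -, hv⟩ := id hfi
      have h2 := H93.StronglyClosed.apply_mem hW hψ ⟨f x, hf.map_mem hx⟩ h
      rwa [hv, hfi1 x hx] at h2
    · obtain ⟨ψ, hψ, -, hv⟩ := id hf
      have h2 := H93.StronglyClosed.apply_mem hW hψ ⟨x, hx⟩ h
      rwa [hv] at h2
  have hH'S : H' ≤ S := hH'.1
  have := finite_of_le hH'S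
  obtain ⟨α', hα'⟩ := exists_conjAut hfH α
  have hα'F : α' ∈ F.autGroup H' := by
    obtain ⟨fi, hfi, hfi1, -⟩ := hfH.exists_inv
    obtain ⟨fa, hfa, hfae⟩ := H93.exists_mor_of_aut hHS hα
    obtain ⟨b, hb, hbe⟩ := (hfH.comp (hfa.comp hfi)).exists_aut
    rwa [show α' = b from MulEquiv.ext fun y => Subtype.ext ((by
      obtain ⟨x, hx, hxy⟩ := hfH.surj y.2
      rw [hbe, show y = ⟨f x, hfH.map_mem hx⟩ from Subtype.ext hxy.symm, ← hα' ⟨x, hx⟩]
      show f ((α ⟨x, hx⟩ : hull S Q) : Ω) = f (fa (fi (f x)))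
      rw [hfi1 x hx, show fa x = _ from hfae ⟨x, hx⟩]))]
  -- the stabilizer of the series `T ⊓ U ≤ H' ⊓ T ≤ H'`
  have hinv : ∀ {W : Subgroup Ω}, F.StronglyClosed W → ∀ h ∈ F.autGroup H', ∀ y : H',
      (y : Ω) ∈ W → ((h y : H') : Ω) ∈ W := fun hW h hh y hy =>
    H94.apply_mem_of_stronglyClosed hW ((mem_autGroup F hH'S).1 hh) hy
  let L : Subgroup (MulAut H') :=
    { carrier := {h | h ∈ F.autGroup H' ∧ (∀ y : H', (y : Ω) ∈ T ⊓ U → h y = y) ∧
        (∀ y : H', (y : Ω) ∈ T → (y : Ω)⁻¹ * ((h y : H') : Ω) ∈ T ⊓ U) ∧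
        ∀ y : H', (y : Ω)⁻¹ * ((h y : H') : Ω) ∈ T}
      one_mem' := ⟨one_mem _, fun y _ => rfl, fun y _ => by simp, fun y => by simp⟩
      mul_mem' := by
        rintro g h ⟨hg, gA, gQ, gT⟩ ⟨hh, hA, hQ, hT⟩
        refine ⟨mul_mem hg hh, fun y hy => by rw [MulAut.mul_apply, hA y hy, gA y hy], fun y hy => ?_, fun y => ?_⟩
        · have h1 := (T ⊓ U).mul_mem (hQ y hy) (gQ (h y) (hinv c.hT h hh y hy))
          rwa [mul_assoc, mul_inv_cancel_left] at h1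
        · have h1 := T.mul_mem (hT y) (gT (h y))
          rwa [mul_assoc, mul_inv_cancel_left] at h1
      inv_mem' := by
        rintro g ⟨hg, gA, gQ, gT⟩
        refine ⟨inv_mem hg, fun y hy => ?_, fun y hy => ?_, fun y => ?_⟩
        · conv_lhs => rw [← gA y hy]
          rw [MulAut.inv_apply_self]
        · have h1 := (T ⊓ U).inv_mem (gQ (g⁻¹ y) (hinv c.hT _ (inv_mem hg) y hy))
          rwa [MulAut.apply_inv_self, mul_inv_rev, inv_inv] at h1
        · have h1 := T.inv_mem (gT (g⁻¹ y))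
          rwa [MulAut.apply_inv_self, mul_inv_rev, inv_inv] at h1 }
  have hLn : (L.subgroupOf (F.autGroup H')).Normal := ⟨fun h hh g => by
    obtain ⟨hhF, hA, hQ, hT⟩ := Subgroup.mem_subgroupOf.1 hh
    have hcalc : ∀ y : H', ((g : MulAut H') * (h : MulAut H') * (g : MulAut H')⁻¹) y =
        y * (g : MulAut H') (((g : MulAut H')⁻¹ y)⁻¹ * (h : MulAut H') ((g : MulAut H')⁻¹ y)) := fun y => by
      rw [map_mul, map_inv, MulAut.apply_inv_self, mul_inv_cancel_left]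
      rfl
    refine Subgroup.mem_subgroupOf.2 ⟨mul_mem (mul_mem g.2 hhF) (inv_mem g.2), fun y hy => ?_, fun y hy => ?_,
      fun y => ?_⟩
    · show (g : MulAut H') ((h : MulAut H') ((g : MulAut H')⁻¹ y)) = y
      rw [hA _ ⟨hinv c.hT _ (inv_mem g.2) y hy.1, hinv c.hU _ (inv_mem g.2) y hy.2⟩, MulAut.apply_inv_self]
    · have h1 := hQ _ (hinv c.hT _ (inv_mem g.2) y hy)
      show (y : Ω)⁻¹ * ((((g : MulAut H') * (h : MulAut H') * (g : MulAut H')⁻¹) y : H') : Ω) ∈ _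
      rw [hcalc, Subgroup.coe_mul, inv_mul_cancel_left]
      exact ⟨hinv c.hT _ g.2 _ h1.1, hinv c.hU _ g.2 _ h1.2⟩
    · show (y : Ω)⁻¹ * ((((g : MulAut H') * (h : MulAut H') * (g : MulAut H')⁻¹) y : H') : Ω) ∈ _
      rw [hcalc, Subgroup.coe_mul, inv_mul_cancel_left]
      exact hinv c.hT _ g.2 _ (hT _)⟩
  have hLp : IsPGroup p (L.subgroupOf (F.autGroup H')) := by
    rintro ⟨⟨h, hhF⟩, hh⟩
    obtain ⟨-, hA, hQ, hT⟩ := Subgroup.mem_subgroupOf.1 hh
    have hQ'S : H' ⊓ T ≤ S := inf_le_left.trans hH'S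
    have hhF' := (mem_autGroup F hH'S).1 hhF
    obtain ⟨δ, -, hδe⟩ := exists_autGroup_of_mem F (res_mem F hhF' (inf_le_left : H' ⊓ T ≤ H'))
      fun x => ⟨Subtype.mem _, hinv c.hT h hhF _ x.2.2⟩
    obtain ⟨n, hn⟩ := H93.pow_eq_one_of_stabilizes hS hQ'S (δ := δ) (R := T ⊓ U)
      (fun y hy => Subtype.ext ((hδe y).trans (congrArg Subtype.val (hA ⟨y, y.2.1⟩ hy))))
      (fun y => by
        rw [Subgroup.coe_mul, Subgroup.coe_inv, hδe]
        exact hQ ⟨y, y.2.1⟩ y.2.2)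
    have hfix : ∀ y : H', (y : Ω) ∈ H' ⊓ T → (h ^ p ^ n) y = y := fun y hy => by
      have := pow_intertwine (Subgroup.inclusion (inf_le_left : H' ⊓ T ≤ H'))
        (a := δ) (b := h) (fun x => Subtype.ext (hδe x).symm) (p ^ n) ⟨y, hy⟩
      rw [hn] at this
      exact this
    obtain ⟨k, hk⟩ := H93.pow_eq_one_of_stabilizes hS hH'S (δ := h ^ p ^ n) (R := H' ⊓ T) hfix
      (fun y => ⟨Subtype.mem _, by
        rw [Subgroup.coe_mul, Subgroup.coe_inv]
        exact H24.Meet.cong_pow (fun z => hT z) _ y⟩)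
    refine ⟨n + k, Subtype.ext (Subtype.ext ?_)⟩
    show h ^ p ^ (n + k) = 1
    rw [pow_add, pow_mul, hk]
  obtain ⟨R, hR⟩ := (H94.fullyNormalized_spec hS c.hF hH').1.2
  have hLS : ∀ h ∈ L, h ∈ autInducedBy S H' := fun h hh =>
    Subgroup.mem_subgroupOf.1 (hR.le (hLp.le_sylow_of_normal R
      (x := (⟨h, hh.1⟩ : F.autGroup H')) (Subgroup.mem_subgroupOf.2 hh)))
  -- the elements of `U` lie in the extender
  have hfQ : ∀ (x : Ω) (hx : x ∈ hull S Q), x ∈ T → f x ∈ T ∧ x ∈ Q := fun x hx hxT =>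
    ⟨(hclosed c.hT x (hHN hx)).2 hxT, hQc.mem_of_hull c.hTS hx hxT⟩
  have hext : ∀ e ∈ U, f e ∈ extender S H' (H'.subtype.comp α'.toMonoidHom) := by
    intro e he
    have heN := hUn he
    have hfe' : f e ∈ normalizerIn S H' := hf.map_mem_normalizerIn hfH hHN heN heN.2
    have hfeU : f e ∈ U := (hclosed c.hU e heN).2 he
    obtain ⟨γ, hγ, hγe⟩ := H94.exists_autInducedBy (P := H') hfe'.1 hfe'.2
    refine H94.mem_extender_of_conj hfe'.1 hfe'.2 hγe ?_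
    have hγF := autInducedBy_le_autGroup F hH'S hγ
    have hα'A : ∀ y : H', (y : Ω) ∈ T ⊓ U → α' y = y := fun y hy => by
      obtain ⟨x, hx, hxy⟩ := hfH.surj y.2
      have hxA : x ∈ T ⊓ U := ⟨(hclosed c.hT x (hHN hx)).1 (hxy ▸ hy.1),
        (hclosed c.hU x (hHN hx)).1 (hxy ▸ hy.2)⟩
      apply Subtype.ext
      rw [show y = ⟨f x, hfH.map_mem hx⟩ from Subtype.ext hxy.symm, ← hα' ⟨x, hx⟩, hαA ⟨x, hx⟩ hxA]
    have hα'T : ∀ y : H', (y : Ω)⁻¹ * ((α' y : H') : Ω) ∈ T := fun y => by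
      obtain ⟨x, hx, hxy⟩ := hfH.surj y.2
      rw [show y = ⟨f x, hfH.map_mem hx⟩ from Subtype.ext hxy.symm, ← hα' ⟨x, hx⟩]
      show (f x)⁻¹ * f ((α ⟨x, hx⟩ : hull S Q) : Ω) ∈ T
      rw [← hfH.map_inv hx, ← hfH.map_mul ((hull S Q).inv_mem hx) (α ⟨x, hx⟩).2]
      exact (hclosed c.hT _ (hHN ((hull S Q).mul_mem ((hull S Q).inv_mem hx) (α ⟨x, hx⟩).2))).2 (hαT ⟨x, hx⟩)
    have hl : α' * γ * α'⁻¹ * γ⁻¹ ∈ L := by
      refine ⟨mul_mem (mul_mem (mul_mem hα'F hγF) (inv_mem hα'F)) (inv_mem hγF), fun y hy => ?_, fun y hy => ?_,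
        fun y => ?_⟩
      · have h1 : ((γ⁻¹ y : H') : Ω) ∈ T ⊓ U :=
          ⟨hinv c.hT _ (inv_mem hγF) y hy.1, hinv c.hU _ (inv_mem hγF) y hy.2⟩
        have h2 : α'⁻¹ (γ⁻¹ y) = γ⁻¹ y := by
          conv_lhs => rw [← hα'A _ h1]
          rw [MulAut.inv_apply_self]
        rw [MulAut.mul_apply, MulAut.mul_apply, MulAut.mul_apply, h2, MulAut.apply_inv_self, hα'A y hy]
      · set y₁ := γ⁻¹ y
        have hy₁ : (y₁ : Ω) ∈ T := hinv c.hT _ (inv_mem hγF) y hy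
        set y₂ := α'⁻¹ y₁
        have hy₂ : (y₂ : Ω) ∈ T := hinv c.hT _ (inv_mem hα'F) y₁ hy₁
        have d₂ : ((y₂⁻¹ * γ y₂ : H') : Ω) ∈ T ⊓ U := by
          rw [Subgroup.coe_mul, Subgroup.coe_inv, hγe]
          exact c.commutator_mem hy₂ hfeU
        have d₁ : ((y₁⁻¹ * γ y₁ : H') : Ω) ∈ T ⊓ U := by
          rw [Subgroup.coe_mul, Subgroup.coe_inv, hγe]
          exact c.commutator_mem hy₁ hfeU
        have e2 : α' (γ y₂) = y₁ * (y₂⁻¹ * γ y₂) := by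
          rw [← show α' y₂ = y₁ from α'.apply_symm_apply y₁]
          conv_rhs => arg 2; rw [← hα'A _ d₂]
          rw [← map_mul, mul_inv_cancel_left]
        have e1 : y = y₁ * (y₁⁻¹ * γ y₁) := by
          rw [mul_inv_cancel_left]
          exact (γ.apply_symm_apply y).symm
        show (y : Ω)⁻¹ * ((α' (γ y₂) : H') : Ω) ∈ T ⊓ U
        rw [e2, ← Subgroup.coe_inv, ← Subgroup.coe_mul]
        conv in y⁻¹ => rw [e1]
        rw [mul_inv_rev, mul_assoc, inv_mul_cancel_left, Subgroup.coe_mul, Subgroup.coe_inv]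
        exact (T ⊓ U).mul_mem ((T ⊓ U).inv_mem d₁) d₂
      · set y₁ := γ⁻¹ y
        set y₂ := α'⁻¹ y₁
        have h1 : (y₂ : Ω)⁻¹ * ((α' y₂ : H') : Ω) ∈ T := hα'T y₂
        have h2 := hinv c.hT _ hγF _ (show ((y₂⁻¹ * α' y₂ : H') : Ω) ∈ T by simpa using h1)
        rw [map_mul, map_inv, MulAut.apply_inv_self, MulAut.apply_inv_self, Subgroup.coe_mul, Subgroup.coe_inv] at h2
        have h3 := T.mul_mem (T.inv_mem h2) (hα'T (γ y₂))
        show (y : Ω)⁻¹ * ((α' (γ y₂) : H') : Ω) ∈ T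
        rw [mul_inv_rev, inv_inv, mul_assoc, mul_inv_cancel_left] at h3
        exact h3
    have h := mul_mem (hLS _ hl) hγ
    rwa [inv_mul_cancel_right] at h
  -- extend and transport back
  have hα'F' := (mem_autGroup F hH'S).1 hα'F
  obtain ⟨ψ, hψ, hψe⟩ :=
    (H94.fullyNormalized_spec hS c.hF hH').2.2 H' _ hα'F' (range_eq_of_forall_mem F hα'F' fun x => (α' x).2)
  obtain ⟨g, hg, hge⟩ := H93.exists_mor hψ rfl
  have hWN : hull S Q ⊔ U ≤ normalizerIn S (hull S Q) := sup_le hHN hUn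
  obtain ⟨W', hW'M, hfW⟩ := hf.restrict hWN
  obtain ⟨fi, hfi, hfi1, hfi2⟩ := hfW.exists_inv
  have hW' : W' ≤ H' ⊔ U := by
    intro y hy
    obtain ⟨x, hx, rfl⟩ := hfW.surj hy
    have hn : hull S Q ≤ Subgroup.normalizer (U : Set Ω) := hHS.trans (H94.le_normalizer_of_stronglyClosed c.hU)
    obtain ⟨h, hh, u, hu, rfl⟩ := Set.mem_mul.1
      ((Subgroup.coe_mul_of_left_le_normalizer_right (hull S Q) U hn).le hx)
    rw [hf.map_mul (hHN hh) (hUn hu)]
    exact mul_mem (Subgroup.mem_sup_left (hfH.map_mem hh))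
      (Subgroup.mem_sup_right ((hclosed c.hU u (hUn hu)).2 hu))
  have hHW' : H' ≤ W' := fun y hy => by
    obtain ⟨x, hx, rfl⟩ := hfH.surj hy
    exact hfW.map_mem (Subgroup.mem_sup_left hx)
  have hUW' : U ≤ W' := by
    have := finite_of_le (S := S) (hfW.le_right)
    have := finite_of_le c.hU.1
    intro u hu
    let m : U → U := fun x => ⟨f x, (hclosed c.hU x (hUn x.2)).2 x.2⟩
    have hm : Function.Injective m := fun x y e =>
      Subtype.ext (hf.injOn (hUn x.2) (hUn y.2) (congrArg Subtype.val e :))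
    obtain ⟨x, hx⟩ := Finite.surjective_of_injective hm ⟨u, hu⟩
    rw [show u = f x from (congrArg Subtype.val hx).symm]
    exact hfW.map_mem (Subgroup.mem_sup_right x.2)
  obtain rfl : W' = H' ⊔ U := le_antisymm hW' (sup_le hHW' hUW')
  have hWE : H' ⊔ U ≤ extender S H' (H'.subtype.comp α'.toMonoidHom) := by
    refine sup_le (H94.le_extender_self hH'S hα'F') fun u hu => ?_
    obtain ⟨x, hx, rfl⟩ := hfW.surj (Subgroup.mem_sup_right hu)
    exact hext x ((hclosed c.hU x (hWN hx)).1 hu)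
  obtain ⟨W'', -, hgW⟩ := hg.restrict hWE
  have hgH : ∀ y : H', g y = ((α' y : H') : Ω) := fun y =>
    (hge ⟨y, hWE (Subgroup.mem_sup_left y.2)⟩).trans (hψe y y.2 _)
  have hgU : ∀ u ∈ U, g u ∈ U := fun u hu => by
    obtain ⟨χ, hχ, -, hv⟩ := id hgW
    rw [← hv ⟨u, Subgroup.mem_sup_right hu⟩]
    exact H93.StronglyClosed.apply_mem c.hU hχ _ hu
  obtain rfl : W'' = H' ⊔ U := by
    have := finite_of_le (sup_le hH'S c.hU.1)
    refine Subgroup.eq_of_le_of_card_ge (fun y hy => ?_) hgW.card_eq.le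
    obtain ⟨x, hx, rfl⟩ := hgW.surj hy
    have hn : H' ≤ Subgroup.normalizer (U : Set Ω) := hH'S.trans (H94.le_normalizer_of_stronglyClosed c.hU)
    obtain ⟨h, hh, u, hu, rfl⟩ := Set.mem_mul.1 ((Subgroup.coe_mul_of_left_le_normalizer_right H' U hn).le hx)
    rw [hgW.map_mul (Subgroup.mem_sup_left hh) (Subgroup.mem_sup_right hu), show g h = _ from hgH ⟨h, hh⟩]
    exact mul_mem (Subgroup.mem_sup_left (α' ⟨h, hh⟩).2) (Subgroup.mem_sup_right (hgU u hu))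
  obtain ⟨β, hβ, hβe⟩ := (hfi.comp (hgW.comp hfW)).exists_aut
  refine ⟨β, hβ, fun y => Subtype.ext ?_⟩
  rw [hβe]
  show fi (g (f y)) = ((α y : hull S Q) : Ω)
  rw [show g (f y) = _ from hgH ⟨f y, hfH.map_mem y.2⟩, ← hα' y]
  exact hfi1 _ (Subgroup.mem_sup_left (α y).2)

/-- At a fully normalized centric subgroup automorphisms of prime power order prime to `p` extend fixing `U`. -/
theorem ext_of_fullyNormalized {Q : Subgroup Ω} (hQ : D.IsCentric Q) (hQn : F.IsFullyNormalized Q)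
    {a : MulAut Q} (ha : a ∈ D.autGroup Q) {q : ℕ} [Fact q.Prime] (hqp : q ≠ p) {e : ℕ} (hae : a ^ q ^ e = 1) :
    S5127.Ext F U Q (Q.subtype.comp a.toMonoidHom) := by
  have hS := c.hS
  have hQT := hQ.1
  have hQS := hQT.trans c.hTS
  have := finite_of_le c.hTS
  have := finite_of_le hQS
  have haD := (mem_autGroup D hQT).1 ha
  have hQc := NormalCongruence.tCentric_of_centric c.hI hQ
  rw [inf_idem] at hQc
  obtain ⟨g, hg, hga, hgc⟩ := NormalCongruence.congAt_of_autGroup hS c.hD hQ (Mor.id F hQS)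
    (H93.IsFullyNormalized.isFullyCentralized hS c.hF hQn) ha
  obtain ⟨α₁, hα₁, hα₁e⟩ := hg.exists_aut
  have hHS : hull S Q ≤ S := hull_le hQS
  have := finite_of_le hHS
  have : Finite (MulAut ↥(hull S Q)) :=
    Finite.of_injective (fun e : MulAut ↥(hull S Q) => (e : _ → _)) DFunLike.coe_injective
  obtain ⟨s, ⟨e₁, hαq⟩, hαQ⟩ := exists_qLift (Subgroup.inclusion (le_hull S Q))
    (a := a) (b := α₁) (fun x => Subtype.ext ((hα₁e _).trans (hga x))) ⟨e, hae⟩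
  have hαT : ∀ y : hull S Q, (y : Ω)⁻¹ * (((α₁ ^ s) y : hull S Q) : Ω) ∈ T :=
    H24.Meet.cong_pow (fun y => by rw [hα₁e]; exact hgc y y.2) s
  have hαA : ∀ y : hull S Q, (y : Ω) ∈ T ⊓ U → (α₁ ^ s) y = y := fun y hy => by
    have hyQ := c.inf_le_centric hQ hy
    refine (hαQ ⟨y, hyQ⟩).trans (Subtype.ext ?_)
    exact c.apply_inf haD (x := ⟨y, hyQ⟩) hy
  obtain ⟨β₁, hβ₁, hβ₁e⟩ := c.exists_ext_hull hQ (pow_mem hα₁ s) hαA hαT
  have hWS : hull S Q ⊔ U ≤ S := sup_le hHS c.hU.1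
  have := finite_of_le hWS
  have : Finite (MulAut ↥(hull S Q ⊔ U)) :=
    Finite.of_injective (fun e : MulAut ↥(hull S Q ⊔ U) => (e : _ → _)) DFunLike.coe_injective
  obtain ⟨s', ⟨e₂, hβq⟩, hβH⟩ :=
    exists_qLift (Subgroup.inclusion (le_sup_left : hull S Q ≤ hull S Q ⊔ U)) hβ₁e ⟨e₁, hαq⟩
  obtain ⟨β, hβdef⟩ : ∃ β, β = β₁ ^ s' := ⟨_, rfl⟩
  rw [← hβdef] at hβq hβH
  have hβ : β ∈ F.autGroup (hull S Q ⊔ U) := hβdef ▸ pow_mem hβ₁ s'
  have hβF := (mem_autGroup F hWS).1 hβ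
  have hβQ : ∀ x : Q, ((β (Subgroup.inclusion ((le_hull S Q).trans le_sup_left : Q ≤ hull S Q ⊔ U) x) : ↥(hull S Q ⊔ U)) : Ω) = ((a x : Q) : Ω) :=
    fun x => (congrArg Subtype.val (hβH (Subgroup.inclusion (le_hull S Q) x))).trans
      (congrArg Subtype.val (hαQ x))
  have hβA : ∀ w : ↥(hull S Q ⊔ U), (w : Ω) ∈ T ⊓ U → β w = w := fun w hw => by
    have hwH : (w : Ω) ∈ hull S Q := le_hull S Q (c.inf_le_centric hQ hw)
    rw [show w = Subgroup.inclusion le_sup_left ⟨(w : Ω), hwH⟩ from rfl, hβH, hαA ⟨(w : Ω), hwH⟩ hw]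
  have hTmem : ∀ w : ↥(hull S Q ⊔ U), (w : Ω) ∈ T → ((β w : ↥(hull S Q ⊔ U)) : Ω) ∈ T := fun w hw =>
    H94.apply_mem_of_stronglyClosed c.hT hβF hw
  have hUmem : ∀ w : ↥(hull S Q ⊔ U), (w : Ω) ∈ U → ((β w : ↥(hull S Q ⊔ U)) : Ω) ∈ U := fun w hw =>
    H94.apply_mem_of_stronglyClosed c.hU hβF hw
  -- the automorphisms of `Q` in `D` stabilizing the series form a normal `p`-subgroup
  let K : Subgroup (MulAut Q) :=
    { carrier := {k | k ∈ D.autGroup Q ∧ ModTrivial (T ⊓ U) k}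
      one_mem' := ⟨one_mem _, modTrivial_one⟩
      mul_mem' := fun h h' => ⟨mul_mem h.1 h'.1, modTrivial_mul h.2 h'.2⟩
      inv_mem' := fun h => ⟨inv_mem h.1, modTrivial_inv h.2⟩ }
  have hKn : (K.subgroupOf (D.autGroup Q)).Normal := ⟨fun k hk g => Subgroup.mem_subgroupOf.2
    ⟨mul_mem (mul_mem g.2 (Subgroup.mem_subgroupOf.1 hk).1) (inv_mem g.2), fun w => by
      set z : Q := ((g : MulAut Q)⁻¹ w)⁻¹ * (k : MulAut Q) ((g : MulAut Q)⁻¹ w) with hz
      have h1 : (z : Ω) ∈ T ⊓ U := (Subgroup.mem_subgroupOf.1 hk).2 _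
      have h2 : (g : MulAut Q) z = z := Subtype.ext (c.apply_inf ((mem_autGroup D hQT).1 g.2) h1)
      have h3 : (((g : D.autGroup Q) * k * (g : D.autGroup Q)⁻¹ : D.autGroup Q) : MulAut Q) w = w * z := by
        rw [← h2, hz, map_mul, map_inv, MulAut.apply_inv_self, mul_inv_cancel_left]
        rfl
      rw [h3, Subgroup.coe_mul, inv_mul_cancel_left]
      exact h1⟩⟩
  have hKp : IsPGroup p (K.subgroupOf (D.autGroup Q)) := by
    rintro ⟨⟨k, hkD⟩, hk⟩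
    obtain ⟨-, hkm⟩ := Subgroup.mem_subgroupOf.1 hk
    obtain ⟨n, hn⟩ := H93.pow_eq_one_of_stabilizes hS hQS (δ := k) (R := T ⊓ U)
      (fun y hy => Subtype.ext (c.apply_inf ((mem_autGroup D hQT).1 hkD) hy)) (fun y => hkm y)
    exact ⟨n, Subtype.ext (Subtype.ext hn)⟩
  obtain ⟨R, hR⟩ := (H94.fullyNormalized_spec (hS.to_le c.hTS) c.hD.1.1
    (NormalCongruence.isFullyNormalized_sub hS c.hF c.hI hQT hQn)).1.2
  -- the displacement of an element of `U`
  have hdisp : ∀ w : ↥(hull S Q ⊔ U), (w : Ω) ∈ U → ((w⁻¹ * β w : ↥(hull S Q ⊔ U)) : Ω) ∈ T ⊓ U := by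
    intro w hw
    set f : ↥(hull S Q ⊔ U) := w⁻¹ * β w with hfdef
    have hfU : (f : Ω) ∈ U := by
      rw [hfdef, Subgroup.coe_mul, Subgroup.coe_inv]
      exact U.mul_mem (U.inv_mem hw) (hUmem w hw)
    obtain ⟨γ, hγ, hγe⟩ := H94.exists_autInducedBy (P := Q) (c.hU.1 hw) (c.le_normalizerIn hQ hw).2
    have hγF : γ ∈ F.autGroup Q := autInducedBy_le_autGroup F hQS hγ
    set k := γ⁻¹ * a * γ * a⁻¹
    have hkD : k ∈ D.autGroup Q := by
      have h := H94.autGroup_conj_mem (H94.stronglyInvariant_of_invariant c.hI) c.hTS hQT (inv_mem hγF) ha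
      rw [inv_inv] at h
      exact mul_mem h (inv_mem ha)
    have hke : ∀ x : Q, ((k x : Q) : Ω) = f * x * (f : Ω)⁻¹ := by
      intro x
      set x₀ := a⁻¹ x with hx₀
      let i : Q → ↥(hull S Q ⊔ U) := Subgroup.inclusion ((le_hull S Q).trans le_sup_left)
      have h1 : i (γ x₀) = w * i x₀ * w⁻¹ := Subtype.ext (hγe x₀)
      have h2 := hβQ (γ x₀)
      rw [show Subgroup.inclusion ((le_hull S Q).trans le_sup_left) (γ x₀) = _ from h1, map_mul, map_mul, map_inv,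
        Subgroup.coe_mul, Subgroup.coe_mul, Subgroup.coe_inv, hβQ x₀,
        show ((a x₀ : Q) : Ω) = x by rw [hx₀, MulAut.apply_inv_self]] at h2
      show ((γ⁻¹ (a (γ x₀)) : Q) : Ω) = _
      have h3 := hγe (γ⁻¹ (a (γ x₀)))
      rw [MulAut.apply_inv_self, ← h2] at h3
      rw [hfdef, Subgroup.coe_mul, Subgroup.coe_inv]
      calc ((γ⁻¹ (a (γ x₀)) : Q) : Ω) = (w : Ω)⁻¹ * ((w : Ω) * ((γ⁻¹ (a (γ x₀)) : Q) : Ω) * (w : Ω)⁻¹) * w := by group
        _ = _ := by rw [← h3]; group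
    have hkK : k ∈ K := ⟨hkD, fun x => by rw [hke]; exact c.commutator_mem (hQT x.2) hfU⟩
    obtain ⟨t, ht, hte⟩ := mem_autInducedBy.1 (Subgroup.mem_subgroupOf.1 (hR.le (hKp.le_sylow_of_normal R
      (x := (⟨k, hkD⟩ : D.autGroup Q)) (Subgroup.mem_subgroupOf.2 hkK))))
    have hcC : t⁻¹ * (f : Ω) ∈ centralizerIn S Q := by
      refine ⟨S.mul_mem (S.inv_mem (c.hTS ht)) (hWS f.2), Subgroup.mem_centralizer_iff.2 fun x hx => ?_⟩
      have h := (hte ⟨x, hx⟩).symm.trans (hke ⟨x, hx⟩)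
      calc x * (t⁻¹ * (f : Ω)) = t⁻¹ * (t * x * t⁻¹) * (f : Ω) := by group
        _ = t⁻¹ * ((f : Ω) * x * (f : Ω)⁻¹) * f := by rw [h]
        _ = _ := by group
    have hcH : t⁻¹ * (f : Ω) ∈ hull S Q := centralizerIn_le_hull S Q hcC
    set d : ↥(hull S Q ⊔ U) := Subgroup.inclusion le_sup_left ⟨_, hcH⟩
    have hd : (d : Ω)⁻¹ * ((β d : ↥(hull S Q ⊔ U)) : Ω) ∈ T := by
      rw [hβH]
      exact hαT ⟨_, hcH⟩
    have htW : ((f * d⁻¹ : ↥(hull S Q ⊔ U)) : Ω) ∈ T := by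
      rw [Subgroup.coe_mul, Subgroup.coe_inv, Subgroup.coe_inclusion]
      show (f : Ω) * (t⁻¹ * f)⁻¹ ∈ T
      rw [mul_inv_rev, inv_inv, mul_inv_cancel_left]
      exact ht
    have hf₀ : ((f⁻¹ * β f : ↥(hull S Q ⊔ U)) : Ω) ∈ T ⊓ U := by
      refine ⟨?_, ?_⟩
      · obtain ⟨t', ht'⟩ : ∃ t' : ↥(hull S Q ⊔ U), t' = f * d⁻¹ := ⟨_, rfl⟩
        have e : f⁻¹ * β f = d⁻¹ * (t'⁻¹ * β t') * d * (d⁻¹ * β d) := by
          conv_lhs => rw [show f = t' * d by rw [ht', inv_mul_cancel_right], map_mul]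
          group
        rw [e, Subgroup.coe_mul]
        refine T.mul_mem ?_ (by rw [Subgroup.coe_mul, Subgroup.coe_inv]; exact hd)
        rw [Subgroup.coe_mul, Subgroup.coe_mul, Subgroup.coe_inv]
        have h := (Subgroup.mem_normalizer_iff.1 (H94.le_normalizer_of_stronglyClosed c.hT
          (S.inv_mem (hWS d.2))) _).1 (show ((t'⁻¹ * β t' : ↥(hull S Q ⊔ U)) : Ω) ∈ T by
            rw [Subgroup.coe_mul, Subgroup.coe_inv]
            exact T.mul_mem (T.inv_mem (ht' ▸ htW)) (hTmem t' (ht' ▸ htW)))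
        rwa [inv_inv] at h
      · rw [Subgroup.coe_mul, Subgroup.coe_inv]
        exact U.mul_mem (U.inv_mem hfU) (hUmem f hfU)
    have hpow : ∀ n : ℕ, ∃ z : ↥(hull S Q ⊔ U), (z : Ω) ∈ T ⊓ U ∧ β (f ^ n) = f ^ n * z := by
      intro n
      induction n with
      | zero => exact ⟨1, one_mem _, by simp⟩
      | succ n ih =>
        obtain ⟨z, hz, hze⟩ := ih
        refine ⟨(f ^ n)⁻¹ * (f⁻¹ * β f) * f ^ n * z, (T ⊓ U).mul_mem ?_ hz, ?_⟩
        · have h := c.conj_mem_inf (hWS (f ^ n)⁻¹.2) hf₀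
          simpa using h
        · rw [pow_succ', map_mul, hze]
          group
    have hit : ∀ n : ℕ, ∃ z : ↥(hull S Q ⊔ U), (z : Ω) ∈ T ⊓ U ∧ (β ^ n) w = w * f ^ n * z := by
      intro n
      induction n with
      | zero => exact ⟨1, one_mem _, by simp⟩
      | succ n ih =>
        obtain ⟨z, hz, hze⟩ := ih
        obtain ⟨z', hz', hze'⟩ := hpow n
        refine ⟨z' * z, mul_mem hz' hz, ?_⟩
        rw [pow_succ' β, MulAut.mul_apply, hze, map_mul, map_mul, hze', hβA z hz,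
          show β w = w * f from (mul_inv_cancel_left w _).symm, pow_succ']
        group
    obtain ⟨z, hz, hze⟩ := hit (q ^ e₂)
    rw [hβq] at hze
    have h1 : (f : Ω) ^ q ^ e₂ ∈ T ⊓ U := by
      have h2 : f ^ q ^ e₂ = z⁻¹ := eq_inv_of_mul_eq_one_left (mul_eq_left.1 ((mul_assoc _ _ _).symm.trans hze.symm))
      rw [← Subgroup.coe_pow, h2]
      exact (T ⊓ U).inv_mem hz
    obtain ⟨k', hk'⟩ := hS ⟨f, hWS f.2⟩
    obtain ⟨s'', hs''⟩ : ∃ n : ℕ, ((f : Ω) ^ q ^ e₂) ^ n = f := exists_pow_eq_self_of_coprime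
      (Nat.Coprime.coprime_dvd_right
        (orderOf_dvd_of_pow_eq_one (show (f : Ω) ^ p ^ k' = 1 from congrArg Subtype.val hk'))
        (Nat.Coprime.pow _ _ ((Nat.coprime_primes (Fact.out : q.Prime) (Fact.out : p.Prime)).2 hqp)))
    exact hs'' ▸ Subgroup.pow_mem _ h1 _
  refine ⟨res ((hull S Q ⊔ U).subtype.comp β.toMonoidHom) (sup_le_sup_right (le_hull S Q) U),
    res_mem F hβF _, fun x => hβQ x, fun x => ?_⟩
  exact congrArg Subtype.val (CPN.eq_of_fix_displacement (hS.to_le hWS) hqp hβq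
    (hβA _ (hdisp (Subgroup.inclusion le_sup_right x) x.2)))

omit [Fact p.Prime] in
theorem cExt_of_ext {P : Subgroup Ω} {φ : P →* Ω} (h : S5127.Ext F U P φ) : CExt F T U P φ := by
  obtain ⟨ψ, hψ, h1, h2⟩ := h
  exact ⟨ψ, hψ, h1, fun x _ => h2 x, fun x => by rw [h2, inv_mul_cancel]; exact one_mem _⟩

/-- At any centric subgroup automorphisms of prime power order prime to `p` extend fixing `U`. -/
theorem ext_of_centric {P : Subgroup Ω} (hP : D.IsCentric P) {a : MulAut P} (ha : a ∈ D.autGroup P) {q : ℕ}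
    [Fact q.Prime] (hqp : q ≠ p) {e : ℕ} (hae : a ^ q ^ e = 1) :
    S5127.Ext F U P (P.subtype.comp a.toMonoidHom) := by
  have hS := c.hS
  have hPT := hP.1
  have hPS := hPT.trans c.hTS
  obtain ⟨Q, hconj, hQ⟩ := H93.exists_isFullyNormalized F hPS
  obtain ⟨π, hπ, -, himg⟩ := H93.exists_map_to_fullyNormalized hS c.hF hQ hconj
  obtain ⟨f, hf, hfe⟩ := H93.exists_mor hπ rfl
  have hPN : P ≤ normalizerIn S P := H93.le_normalizerIn hPS
  have hfP : Mor F P Q f := by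
    refine hf.restrict_eq hPN (fun x hx => ?_) fun y hy => ?_
    · rw [show f x = _ from hfe ⟨x, hPN hx⟩, ← himg]
      exact H93.apply_mem_imgIn hx
    · rw [← himg] at hy
      obtain ⟨x, hx, rfl⟩ := H93.mem_imgIn.1 hy
      exact ⟨x, hx, hfe x⟩
  have hQc : D.IsCentric Q := NormalCongruence.centric_of_tCentric c.hI.1
    ((NormalCongruence.tCentric_of_centric c.hI hP).of_mor (by rw [inf_idem]; exact c.hT) hfP)
  obtain ⟨a', ha'⟩ := exists_conjAut hfP a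
  have ha'D : a' ∈ D.autGroup Q := (actsIn_iff hQc.1).1 (actsIn_conj c.hI hPT hfP ((actsIn_iff hPT).2 ha) ha')
  have ha'q : a' ^ q ^ e = 1 := by
    have hit : ∀ (n : ℕ) (x : P), f (((a ^ n) x : P) : Ω) = (((a' ^ n) ⟨f x, hfP.map_mem x.2⟩ : Q) : Ω) := by
      intro n
      induction n with
      | zero => exact fun x => rfl
      | succ n ih =>
        intro x
        rw [pow_succ', MulAut.mul_apply, ha', pow_succ', MulAut.mul_apply]
        exact congrArg (fun w : Q => ((a' w : Q) : Ω)) (Subtype.ext (ih x))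
    refine MulEquiv.ext fun y => Subtype.ext ?_
    obtain ⟨x, hx, hxy⟩ := hfP.surj y.2
    rw [show y = ⟨f x, hfP.map_mem hx⟩ from Subtype.ext hxy.symm, ← hit _ ⟨x, hx⟩, hae]
    rfl
  obtain ⟨ψ, hψ, hψ1, hψ2⟩ := c.ext_of_fullyNormalized hQc hQ ha'D hqp ha'q
  obtain ⟨g, hg, hge⟩ := H93.exists_mor hψ rfl
  have hWN : P ⊔ U ≤ normalizerIn S P := sup_le hPN (c.le_normalizerIn hP)
  obtain ⟨M, -, hfW⟩ := hf.restrict hWN
  obtain ⟨fi, hfi, hfi1, -⟩ := hfW.exists_inv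
  have hU' : ∀ x ∈ U, f x ∈ U := fun x hx => by
    obtain ⟨χ, hχ, -, hv⟩ := id hfW
    rw [← hv ⟨x, Subgroup.mem_sup_right hx⟩]
    exact H93.StronglyClosed.apply_mem c.hU hχ _ hx
  have := finite_of_le c.hU.1
  have hUsurj : ∀ u ∈ U, ∃ x ∈ U, f x = u := by
    intro u hu
    let m : U → U := fun x => ⟨f x, hU' x x.2⟩
    have hm : Function.Injective m := fun x y e =>
      Subtype.ext (hfW.injOn (Subgroup.mem_sup_right x.2) (Subgroup.mem_sup_right y.2) (congrArg Subtype.val e :))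
    obtain ⟨x, hx⟩ := Finite.surjective_of_injective hm ⟨u, hu⟩
    exact ⟨x, x.2, congrArg Subtype.val hx⟩
  have hPn : P ≤ Subgroup.normalizer (U : Set Ω) := hPS.trans (H94.le_normalizer_of_stronglyClosed c.hU)
  have hgQ : ∀ y : Q, g y = ((a' y : Q) : Ω) := fun y => (hge ⟨y, Subgroup.mem_sup_left y.2⟩).trans (hψ1 y)
  have hgU : ∀ y ∈ U, g y = y := fun y hy => (hge ⟨y, Subgroup.mem_sup_right hy⟩).trans (hψ2 ⟨y, hy⟩)
  have hsplit : ∀ w ∈ P ⊔ U, ∃ x ∈ P, ∃ u ∈ U, x * u = w := fun w hw =>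
    Set.mem_mul.1 ((Subgroup.coe_mul_of_left_le_normalizer_right P U hPn).le hw)
  obtain rfl : M = Q ⊔ U := le_antisymm (fun y hy => by
      obtain ⟨w, hw, rfl⟩ := hfW.surj hy
      obtain ⟨x, hx, u, hu, rfl⟩ := hsplit w hw
      rw [hfW.map_mul (Subgroup.mem_sup_left hx) (Subgroup.mem_sup_right hu)]
      exact mul_mem (Subgroup.mem_sup_left (hfP.map_mem hx)) (Subgroup.mem_sup_right (hU' u hu)))
    (sup_le (fun y hy => by
      obtain ⟨x, hx, rfl⟩ := hfP.surj hy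
      exact hfW.map_mem (Subgroup.mem_sup_left hx)) fun u hu => by
      obtain ⟨x, hx, rfl⟩ := hUsurj u hu
      exact hfW.map_mem (Subgroup.mem_sup_right hx))
  obtain ⟨M', -, hgW⟩ := hg.restrict (le_refl (Q ⊔ U))
  obtain rfl : M' = Q ⊔ U := by
    have := finite_of_le (sup_le hQ.1 c.hU.1)
    refine Subgroup.eq_of_le_of_card_ge (fun y hy => ?_) hgW.card_eq.le
    obtain ⟨z, hz, rfl⟩ := hgW.surj hy
    clear hy
    obtain ⟨v, hv, u, hu, rfl⟩ := Set.mem_mul.1 ((Subgroup.coe_mul_of_left_le_normalizer_right Q U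
      (hQ.1.trans (H94.le_normalizer_of_stronglyClosed c.hU))).le hz)
    rw [hgW.map_mul (Subgroup.mem_sup_left hv) (Subgroup.mem_sup_right hu), show g v = _ from hgQ ⟨v, hv⟩,
      hgU u hu]
    exact mul_mem (Subgroup.mem_sup_left (a' ⟨v, hv⟩).2) (Subgroup.mem_sup_right hu)
  obtain ⟨χ, hχ, -, hχv⟩ := hfi.comp (hgW.comp hfW)
  refine ⟨χ, hχ, fun x => ?_, fun x => ?_⟩
  · rw [hχv]
    show fi (g (f x)) = ((a x : P) : Ω)
    rw [show g (f x) = _ from hgQ ⟨f x, hfP.map_mem x.2⟩, ← ha' x]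
    exact hfi1 _ (Subgroup.mem_sup_left (a x).2)
  · rw [hχv]
    show fi (g (f x)) = x
    rw [hgU _ (hU' x x.2)]
    exact hfi1 _ (Subgroup.mem_sup_right x.2)

omit [Fact p.Prime] in
theorem cExt_comp {P Q : Subgroup Ω} {φ : P →* Ω} {ψ : Q →* Ω} (hφ : CExt F T U P φ) (hψ : CExt F T U Q ψ)
    (h : ∀ x : P, φ x ∈ Q) : CExt F T U P (ψ.comp (φ.codRestrict Q h)) := by
  obtain ⟨a, ha, ha1, ha2, ha3⟩ := hφ
  obtain ⟨b, hb, hb1, hb2, hb3⟩ := hψ
  have hmem : ∀ w, a w ∈ Q ⊔ U := by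
    refine H93.apply_mem_sup (fun x => Subgroup.mem_sup_left (by rw [ha1]; exact h x)) fun x => ?_
    have := (Q ⊔ U).mul_mem (Subgroup.mem_sup_right x.2) (Subgroup.mem_sup_right (ha3 x).2)
    rwa [mul_inv_cancel_left] at this
  obtain ⟨r, hr, hre⟩ := exists_comp F ha hb hmem
  refine ⟨r, hr, fun x => ?_, fun x hx => ?_, fun x => ?_⟩
  · rw [hre]
    show _ = ψ ⟨φ x, h x⟩
    rw [← hb1 ⟨φ x, h x⟩]
    exact congrArg b (Subtype.ext (ha1 x))
  · rw [hre]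
    refine (congrArg b (Subtype.ext ?_)).trans (hb2 x hx)
    exact ha2 x hx
  · rw [hre]
    set z : U := ⟨_, (ha3 x).2⟩
    rw [show (⟨a (Subgroup.inclusion le_sup_right x), hmem _⟩ : ↥(Q ⊔ U)) = Subgroup.inclusion le_sup_right (x * z)
      from Subtype.ext (mul_inv_cancel_left (x : Ω) _).symm, map_mul (Subgroup.inclusion _), map_mul b,
      hb2 z (ha3 x).1, ← mul_assoc]
    exact mul_mem (hb3 x) (ha3 x)

omit [Fact p.Prime] in
theorem cExt_res {P R : Subgroup Ω} (h : R ≤ P) {φ : P →* Ω} (hφ : CExt F T U P φ) : CExt F T U R (res φ h) := by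
  obtain ⟨ψ, hψ, h1, h2, h3⟩ := hφ
  exact ⟨res ψ (sup_le_sup_right h _), res_mem F hψ _, fun x => h1 ⟨x, h x.2⟩, h2, h3⟩

omit [Fact p.Prime] in
theorem cExt_conj {P : Subgroup Ω} (hP : P ≤ T) {t : Ω} (ht : t ∈ T) {φ : P →* Ω}
    (hφ : ∀ x : P, φ x = t * x * t⁻¹) : CExt F T U P φ := by
  refine ⟨conjHom _ t, F.conj_mem (sup_le (hP.trans c.hTS) c.hU.1) (c.hTS ht), fun x => (hφ x).symm,
    fun x hx => ?_, fun x => ?_⟩
  · show t * (x : Ω) * t⁻¹ = x
    rw [c.inf_commute ⟨hx, x.2⟩ ht, mul_inv_cancel_right]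
  · show (x : Ω)⁻¹ * (t * x * t⁻¹) ∈ T ⊓ U
    have h := (T ⊓ U).inv_mem (c.commutator_mem (T.inv_mem ht) x.2)
    have h' := c.conj_mem_inf (c.hTS ht) h
    have h'' := c.commutator_mem ht (U.inv_mem x.2)
    have e : (x : Ω)⁻¹ * (t * x * t⁻¹) =
        t * (t⁻¹ * ((x : Ω)⁻¹ * t * ((x : Ω)⁻¹)⁻¹)) * t⁻¹ := by group
    rw [e]
    exact c.conj_mem_inf (c.hTS ht) h''

/-- Every map of the normal subsystem extends to `U` congruent modulo `T ⊓ U`. -/
theorem cExt_of_mem {P : Subgroup Ω} {φ : P →* Ω} (hφ : φ ∈ D.Hom P) : CExt F T U P φ := by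
  have := finite_of_le c.hTS
  have hTp := c.hS.to_le c.hTS
  refine H94.alperin_induction_step hTp c.hD.1.1 (CExt F T U) (fun P R h φ _ hC => c.cExt_res h hC)
    (fun P Q φ ψ _ _ a b h => c.cExt_comp a b h) ?_ hφ
  intro V hV hVc _ _ a ha
  have hVT := hV.1
  have := finite_of_le hVT
  have hone : CExt F T U V (V.subtype.comp (1 : MulAut V).toMonoidHom) :=
    c.cExt_conj hVT (one_mem T) fun x => by simp
  let G : Subgroup (MulAut V) :=
    { carrier := {b | CExt F T U V (V.subtype.comp b.toMonoidHom) ∧ CExt F T U V (V.subtype.comp b⁻¹.toMonoidHom)}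
      one_mem' := ⟨hone, by rw [inv_one]; exact hone⟩
      mul_mem' := fun {b b'} hb hb' => ⟨c.cExt_comp hb'.1 hb.1 fun x => (b' x).2, by
        rw [mul_inv_rev]; exact c.cExt_comp hb.2 hb'.2 fun x => (b⁻¹ x).2⟩
      inv_mem' := fun {b} hb => ⟨hb.2, by rw [inv_inv]; exact hb.1⟩ }
  obtain ⟨R, hR⟩ := (H94.fullyNormalized_spec hTp c.hD.1.1 hV).1.2
  refine (CPN.mem_of_parts R (G.comap (D.autGroup V).subtype) (fun r hr => ?_) (fun q hq hqp e r hr => ?_)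
    ⟨a, ha⟩).1
  · have hind : ∀ b ∈ autInducedBy T V, CExt F T U V (V.subtype.comp b.toMonoidHom) := fun b hb => by
      obtain ⟨t, ht, hte⟩ := mem_autInducedBy.1 hb
      exact c.cExt_conj hVT ht hte
    have h := Subgroup.mem_subgroupOf.1 (hR.le hr)
    exact ⟨hind _ h, hind _ (inv_mem h)⟩
  · have := Fact.mk hq
    have hr' : ((r : D.autGroup V) : MulAut V) ^ q ^ e = 1 := congrArg Subtype.val hr
    exact ⟨c.cExt_of_ext (c.ext_of_centric hVc r.2 hqp hr'),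
      c.cExt_of_ext (c.ext_of_centric hVc (inv_mem r.2) hqp ((inv_pow _ _).trans (inv_eq_one.2 hr')))⟩

/-- Automorphisms of prime power order prime to `p` of any subgroup extend fixing `U`. -/
theorem ext_qElement {P : Subgroup Ω} (hP : P ≤ T) {a : MulAut P} (ha : a ∈ D.autGroup P) {q : ℕ}
    [Fact q.Prime] (hqp : q ≠ p) {e : ℕ} (hae : a ^ q ^ e = 1) :
    S5127.Ext F U P (P.subtype.comp a.toMonoidHom) := by
  obtain ⟨ψ, hψ, h1, h2, h3⟩ := c.cExt_of_mem ((mem_autGroup D hP).1 ha)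
  have hWS : P ⊔ U ≤ S := sup_le (hP.trans c.hTS) c.hU.1
  have := finite_of_le hWS
  obtain ⟨b, hb, hbe⟩ := exists_autGroup_of_mem F hψ (H93.apply_mem_sup
    (fun x => Subgroup.mem_sup_left (by rw [h1]; exact (a x).2))
    fun x => by
      have := (P ⊔ U).mul_mem (Subgroup.mem_sup_right x.2) (Subgroup.mem_sup_right (h3 x).2)
      rwa [mul_inv_cancel_left] at this)
  have : Finite (MulAut ↥(P ⊔ U)) :=
    Finite.of_injective (fun f : MulAut ↥(P ⊔ U) => (f : _ → _)) DFunLike.coe_injective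
  obtain ⟨s, ⟨e', hbq⟩, hbs⟩ := exists_qLift (Subgroup.inclusion (le_sup_left : P ≤ P ⊔ U))
    (fun x => Subtype.ext ((hbe _).trans (h1 x))) ⟨e, hae⟩
  refine ⟨_, (mem_autGroup F hWS).1 (pow_mem hb s), fun x => congrArg Subtype.val (hbs x), fun x => ?_⟩
  set y : ↥(P ⊔ U) := Subgroup.inclusion le_sup_right x
  have hA : ∀ z : ↥(P ⊔ U), (z : Ω) ∈ T ⊓ U → b z = z := fun z hz =>
    Subtype.ext ((hbe z).trans (h2 ⟨z, hz.2⟩ hz.1))
  have hd : ((y⁻¹ * b y : ↥(P ⊔ U)) : Ω) ∈ T ⊓ U := by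
    rw [Subgroup.coe_mul, Subgroup.coe_inv, hbe]
    exact h3 x
  have hpow : ∀ n : ℕ, (b ^ n) y = y * (y⁻¹ * b y) ^ n := by
    intro n
    induction n with
    | zero => simp
    | succ n ih => rw [pow_succ' b, MulAut.mul_apply, ih, map_mul, map_pow, hA _ hd, pow_succ', ← mul_assoc,
        mul_inv_cancel_left]
  have hfix : ∀ n : ℕ, ∀ z : ↥(P ⊔ U), (z : Ω) ∈ T ⊓ U → (b ^ n) z = z := by
    intro n z hz
    induction n with
    | zero => rfl
    | succ n ih => rw [pow_succ', MulAut.mul_apply, ih, hA z hz]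
  refine congrArg Subtype.val (CPN.eq_of_fix_displacement (c.hS.to_le hWS) hqp hbq (hfix s _ ?_))
  rw [hpow, inv_mul_cancel_left, Subgroup.coe_pow]
  exact Subgroup.pow_mem _ hd s

/-- A saturated subsystem of `D` equal to its `p`-residual centralizes `U`. -/
theorem centralizes {T' : Subgroup Ω} {C : FusionSystem T'} (hC : C.IsSaturated p) (hCD : C.IsSubsystemOf D)
    (hhyp : C.hyperfocalSubgroup p = T') (P : Subgroup Ω) : C.Hom P ⊆ F.centralizerHom U P := by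
  have hT'T : T' ≤ T := (D.le_of_mem (hCD T' (subtype_mem C le_rfl))).1
  have := finite_of_le c.hTS
  have := finite_of_le hT'T
  have hT'p := (c.hS.to_le c.hTS).to_le hT'T
  have hone : ∀ {V : Subgroup Ω}, V ≤ T → S5127.Ext F U V (V.subtype.comp (1 : MulAut V).toMonoidHom) := fun hV =>
    ⟨Subgroup.subtype _, subtype_mem F (sup_le (hV.trans c.hTS) c.hU.1), fun x => rfl, fun x => rfl⟩
  let G : ∀ V : Subgroup Ω, V ≤ T → Subgroup (MulAut V) := fun V hV =>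
    { carrier := {b | S5127.Ext F U V (V.subtype.comp b.toMonoidHom) ∧
        S5127.Ext F U V (V.subtype.comp b⁻¹.toMonoidHom)}
      one_mem' := ⟨hone hV, by rw [inv_one]; exact hone hV⟩
      mul_mem' := fun {b b'} hb hb' => ⟨S5127.ext_comp hb'.1 hb.1 fun x => (b' x).2, by
        rw [mul_inv_rev]; exact S5127.ext_comp hb.2 hb'.2 fun x => (b⁻¹ x).2⟩
      inv_mem' := fun {b} hb => ⟨hb.2, by rw [inv_inv]; exact hb.1⟩ }
  have hq : ∀ {V : Subgroup Ω} (hV : V ≤ T'), ∀ q : ℕ, q.Prime → q ≠ p → ∀ (e : ℕ) (a : C.autGroup V),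
      a ^ q ^ e = 1 → (a : MulAut V) ∈ G V (hV.trans hT'T) := by
    intro V hV q hq hqp e a ha
    have := Fact.mk hq
    have haD : (a : MulAut V) ∈ D.autGroup V :=
      (mem_autGroup D (hV.trans hT'T)).2 (hCD V ((mem_autGroup C hV).1 a.2))
    have ha' : (a : MulAut V) ^ q ^ e = 1 := congrArg Subtype.val ha
    exact ⟨c.ext_qElement (hV.trans hT'T) haD hqp ha',
      c.ext_qElement (hV.trans hT'T) (inv_mem haD) hqp ((inv_pow _ _).trans (inv_eq_one.2 ha'))⟩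
  -- `U` commutes with the hyperfocal subgroup
  have hcomm : T' ≤ Subgroup.centralizer (U : Set Ω) := by
    rw [← hhyp, hyperfocalSubgroup, Subgroup.closure_le]
    rintro _ ⟨V, α, x, hV, hα, rfl⟩
    have hres : pResidual p (C.autGroup V) ≤ (G V (hV.trans hT'T)).comap (C.autGroup V).subtype :=
      (Subgroup.closure_le _).2 fun b hb => S5127.mem_of_coprime_parts (p := p)
        (fun q hq' hqp e b hb => hq hV q hq' hqp e b hb) (orderOf b) b (pow_orderOf_eq_one b) hb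
    obtain ⟨⟨ψ, hψ, h1, h2⟩, -⟩ := hres hα
    refine Subgroup.mem_centralizer_iff.2 fun u hu => ?_
    set z := (x : Ω)⁻¹ * (u * x * u⁻¹)
    have hz : z ∈ T ⊓ U := c.commutator_mem (hV.trans hT'T x.2) hu
    set w : ↥(V ⊔ U) := Subgroup.inclusion le_sup_left x
    set v : ↥(V ⊔ U) := Subgroup.inclusion le_sup_right ⟨u, hu⟩
    have h3 : v * w * v⁻¹ = w * Subgroup.inclusion le_sup_right ⟨z, hz.2⟩ :=
      Subtype.ext (mul_inv_cancel_left (x : Ω) _).symm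
    have h4 := congrArg ψ h3
    rw [map_mul, map_mul, map_inv, map_mul, h1, h2, h2] at h4
    show u * ((x : Ω)⁻¹ * _) = (x : Ω)⁻¹ * _ * u
    change u * (((α : MulAut V) x : V) : Ω) * u⁻¹ = (((α : MulAut V) x : V) : Ω) * z at h4
    set y := (((α : MulAut V) x : V) : Ω)
    have hxz : (x : Ω) * z = u * x * u⁻¹ := mul_inv_cancel_left _ _
    calc u * ((x : Ω)⁻¹ * y) = (u * x * u⁻¹)⁻¹ * (u * y * u⁻¹) * u := by group
      _ = ((x : Ω) * z)⁻¹ * (y * z) * u := by rw [hxz, h4]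
      _ = z⁻¹ * (((x : Ω)⁻¹ * y) * z) * u := by group
      _ = (x : Ω)⁻¹ * y * u := by
          rw [c.inf_commute hz (T.mul_mem (T.inv_mem (hV.trans hT'T x.2)) (hV.trans hT'T (Subtype.mem _))),
            inv_mul_cancel_left]
  have hT'C : T' ≤ centralizerIn S U := fun x hx => ⟨c.hTS (hT'T hx), hcomm hx⟩
  intro φ hφ
  refine ⟨c.hI.1 P (hCD P hφ), (C.le_of_mem hφ).1.trans hT'C, fun x => hT'C ((C.le_of_mem hφ).2 x), ?_⟩
  refine H94.alperin_induction_step hT'p hC (S5127.Ext F U) (fun P R h φ _ hC => S5127.ext_res h hC)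
    (fun P Q φ ψ _ _ a b h => S5127.ext_comp a b h) ?_ hφ
  intro V hV _ _ _ a ha
  have hVT' := hV.1
  have := finite_of_le hVT'
  obtain ⟨R, hR⟩ := (H94.fullyNormalized_spec hT'p hC hV).1.2
  refine (CPN.mem_of_parts R ((G V (hVT'.trans hT'T)).comap (C.autGroup V).subtype) (fun r hr => ?_)
    (fun q hq' hqp e r hr => hq hVT' q hq' hqp e r hr) ⟨a, ha⟩).1
  have hind : ∀ b ∈ autInducedBy T' V, S5127.Ext F U V (V.subtype.comp b.toMonoidHom) := fun b hb => by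
    obtain ⟨t, ht, hte⟩ := mem_autInducedBy.1 hb
    refine ⟨conjHom _ t, F.conj_mem (sup_le (hVT'.trans (hT'T.trans c.hTS)) c.hU.1) (c.hTS (hT'T ht)),
      fun x => (hte x).symm, fun x => ?_⟩
    show t * (x : Ω) * t⁻¹ = x
    rw [← Subgroup.mem_centralizer_iff.1 (hcomm ht) x x.2, mul_inv_cancel_right]
  have h := Subgroup.mem_subgroupOf.1 (hR.le hr)
  exact ⟨hind _ h, hind _ (inv_mem h)⟩

end CCData

end Cfsg.Agent.H93.CentralizeClosed
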