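import Cfsg.Agent.H93.NormalRadical
import Cfsg.Agent.H93.InnerTools
import Cfsg.Agent.H94.CentricExt
import Cfsg.Agent.H94.SatTools
import Cfsg.Agent.H94.Invariance

/-!
A character of `Aut_F(T)` trivial on `Aut_E(T)`, of order prime to `p`, has a value on every map whose source
meets `T` in an `E`-centric subgroup.
-/

set_option autoImplicit false

namespace Cfsg.Agent.H93

open Cfsg Cfsg.FusionSystem

variable {Ω : Type*} [Group Ω] {S T : Subgroup Ω} {F : FusionSystem S} {E : FusionSystem T} {p : ℕ}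
  {Δ : Type*} [Group Δ] {χ : F.autGroup T →* Δ}

/-- The hypotheses on the character. -/
structure CharData (p : ℕ) (F : FusionSystem S) (E : FusionSystem T) (χ : F.autGroup T →* Δ) : Prop where
  isPGroup : IsPGroup p S
  saturated : F.IsSaturated p
  saturatedE : E.IsSaturated p
  invariant : E.IsInvariantIn F
  finite : Finite Δ
  coprime : (Nat.card Δ).Coprime p
  surjective : Function.Surjective χ
  le_ker : (E.autGroup T).subgroupOf (F.autGroup T) ≤ χ.ker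

/-- `a` restricted to `T` is an automorphism of value `d`. -/
def Chi (χ : F.autGroup T →* Δ) (a : Ω → Ω) (d : Δ) : Prop :=
  ∃ α : F.autGroup T, χ α = d ∧ ∀ x : T, (((α : MulAut T) x : T) : Ω) = a x

/-- `f` on `X` is a map of `E` followed by an automorphism of `T` of value `d`. -/
def Dec (χ : F.autGroup T →* Δ) (E : FusionSystem T) (X : Subgroup Ω) (f : Ω → Ω) (d : Δ) : Prop :=
  ∃ (a e : Ω → Ω) (Z : Subgroup Ω), Mor F T T a ∧ Chi χ a d ∧ Mor E X Z e ∧ ∀ x ∈ X, f x = a (e x)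

theorem Chi.congr {a b : Ω → Ω} {d : Δ} (h : Chi χ a d) (e : ∀ x ∈ T, a x = b x) : Chi χ b d := by
  obtain ⟨α, hd, hα⟩ := h
  exact ⟨α, hd, fun x => (hα x).trans (e x x.2)⟩

theorem Chi.unique {a : Ω → Ω} {d d' : Δ} (h : Chi χ a d) (h' : Chi χ a d') : d = d' := by
  obtain ⟨α, rfl, hα⟩ := h
  obtain ⟨β, rfl, hβ⟩ := h'
  exact congrArg χ (Subtype.ext (MulEquiv.ext fun x => Subtype.ext ((hα x).trans (hβ x).symm)))

theorem Chi.id : Chi χ (fun x : Ω => x) 1 := ⟨1, map_one χ, fun _ => rfl⟩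

theorem Chi.comp {a b : Ω → Ω} {d d' : Δ} (h : Chi χ a d) (h' : Chi χ b d') :
    Chi χ (fun x => a (b x)) (d * d') := by
  obtain ⟨α, rfl, hα⟩ := h
  obtain ⟨β, rfl, hβ⟩ := h'
  refine ⟨α * β, map_mul χ α β, fun x => ?_⟩
  rw [Subgroup.coe_mul, MulAut.mul_apply, hα, hβ]

theorem Dec.congr {X : Subgroup Ω} {f g : Ω → Ω} {d : Δ} (h : Dec χ E X f d) (e : ∀ x ∈ X, f x = g x) :
    Dec χ E X g d := by
  obtain ⟨a, e', Z, h1, h2, h3, h4⟩ := h
  exact ⟨a, e', Z, h1, h2, h3, fun x hx => (e x hx).symm.trans (h4 x hx)⟩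

theorem Dec.restrict {X R : Subgroup Ω} {f : Ω → Ω} {d : Δ} (h : Dec χ E X f d) (hR : R ≤ X) :
    Dec χ E R f d := by
  obtain ⟨a, e, Z, h1, h2, h3, h4⟩ := h
  obtain ⟨Z', -, h3'⟩ := h3.restrict hR
  exact ⟨a, e, Z', h1, h2, h3', fun x hx => h4 x (hR hx)⟩

namespace CharData

theorem top_le (h : CharData p F E χ) : T ≤ S := h.invariant.2.1.1

theorem closed (h : CharData p F E χ) : F.StronglyClosed T := h.invariant.2.1

theorem normal (h : CharData p F E χ) [Finite S] : S ≤ Subgroup.normalizer (T : Set Ω) :=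
  H94.le_normalizer_of_stronglyClosed h.closed

theorem chi_exists (_h : CharData p F E χ) {a : Ω → Ω} (ha : Mor F T T a) : ∃ d, Chi χ a d := by
  obtain ⟨α, hα, hαe⟩ := ha.exists_aut
  exact ⟨_, ⟨α, hα⟩, rfl, hαe⟩

theorem chi_inv (h : CharData p F E χ) {a b : Ω → Ω} (hb : Mor F T T b) {d : Δ} (hd : Chi χ a d)
    (hba : ∀ x ∈ T, b (a x) = x) : Chi χ b d⁻¹ := by
  obtain ⟨d', hd'⟩ := h.chi_exists hb
  have h1 : d' * d = 1 := ((hd'.comp hd).congr hba).unique Chi.id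
  rwa [← eq_inv_of_mul_eq_one_left h1]

theorem eq_one_of_pow (h : CharData p F E χ) [Fact p.Prime] {d : Δ} {k : ℕ} (hk : d ^ p ^ k = 1) : d = 1 := by
  have := h.finite
  refine orderOf_eq_one_iff.1 (Nat.eq_one_of_dvd_coprimes (h.coprime.pow_right k) (orderOf_dvd_natCard d) ?_)
  exact orderOf_dvd_of_pow_eq_one hk

theorem chi_conj (h : CharData p F E χ) [Finite S] [Fact p.Prime] {s : Ω} (hs : s ∈ S) :
    Chi χ (fun x => s * x * s⁻¹) 1 := by
  obtain ⟨β, hβ, hβe⟩ := H94.exists_autInducedBy hs (h.normal hs)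
  obtain ⟨k, hk⟩ := isPGroup_autInducedBy h.isPGroup T ⟨β, hβ⟩
  set b : F.autGroup T := ⟨β, H96.autInducedBy_le_autGroup F h.top_le hβ⟩
  refine ⟨b, h.eq_one_of_pow (k := k) ?_, hβe⟩
  rw [← map_pow, show b ^ p ^ k = 1 from Subtype.ext (by
    rw [Subgroup.coe_pow]; exact congrArg Subtype.val hk), map_one]

theorem chi_top (h : CharData p F E χ) {a : Ω → Ω} (ha : Mor E T T a) : Chi χ a 1 := by
  obtain ⟨α, hα, hαe⟩ := ha.exists_aut
  have hαF : α ∈ F.autGroup T := (H96.mem_autGroup F h.top_le).2 (h.invariant.1 _ ((H96.mem_autGroup E le_rfl).1 hα))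
  exact ⟨⟨α, hαF⟩, MonoidHom.mem_ker.1 (h.le_ker (Subgroup.mem_subgroupOf.2 hα)), hαe⟩

theorem toF (h : CharData p F E χ) {X Y : Subgroup Ω} {f : Ω → Ω} (hf : Mor E X Y f) : Mor F X Y f := by
  obtain ⟨φ, hφ, hr, hv⟩ := hf
  exact ⟨φ, h.invariant.1 _ hφ, hr, hv⟩

/-- Transport of the maps of `E` by automorphisms of `T`. -/
theorem transport (h : CharData p F E χ) {a b : Ω → Ω} (ha : Mor F T T a) (hba : ∀ x ∈ T, b (a x) = x)
    {X Y : Subgroup Ω} {f : Ω → Ω} (hf : Mor E X Y f) :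
    ∃ X' Y', Mor F X X' a ∧ Mor F Y Y' a ∧ Mor E X' Y' (fun y => a (f (b y))) := by
  have hXT := hf.le_left
  have hYT := hf.le_right
  obtain ⟨φ, hφ, hr, hv⟩ := hf
  obtain ⟨α, hα, hαe⟩ := ha.exists_aut
  obtain ⟨χ', hχ', hχ'e⟩ := h.invariant.2.2.1 X hXT φ hφ α hα
  let X' := (X.subgroupOf T).map (T.subtype.comp α.toMonoidHom)
  have hax : ∀ x ∈ X, a x ∈ X' := fun x hx =>
    ⟨⟨x, hXT hx⟩, Subgroup.mem_subgroupOf.2 hx, hαe ⟨x, hXT hx⟩⟩
  have hsurj : ∀ y ∈ X', ∃ x ∈ X, a x = y := by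
    rintro y ⟨x, hx, rfl⟩
    exact ⟨x, hx, (hαe x).symm⟩
  have hval : ∀ x (hx : x ∈ X), χ' ⟨a x, hax x hx⟩ = a (f x) := by
    intro x hx
    have hfx : φ ⟨x, hx⟩ ∈ T := apply_mem hφ _
    have hm : ((α ⟨x, hXT hx⟩ : T) : Ω) ∈ X' := ⟨⟨x, hXT hx⟩, Subgroup.mem_subgroupOf.2 hx, rfl⟩
    have e : χ' ⟨a x, hax x hx⟩ = χ' ⟨(α ⟨x, hXT hx⟩ : T), hm⟩ :=
      congrArg χ' (Subtype.ext (hαe ⟨x, hXT hx⟩).symm)
    rw [e, hχ'e ⟨x, hx⟩ hfx hm, hαe, ← hv ⟨x, hx⟩]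
  refine ⟨X', χ'.range, ha.restrict_eq hXT hax hsurj, ha.restrict_eq hYT ?_ ?_, χ', hχ', rfl, ?_⟩
  · intro y hy
    rw [← hr] at hy
    obtain ⟨x, rfl⟩ := hy
    exact ⟨⟨a x, hax x x.2⟩, by rw [hval x x.2, hv]⟩
  · rintro _ ⟨⟨y, hy⟩, rfl⟩
    obtain ⟨x, hx, rfl⟩ := hsurj y hy
    exact ⟨f x, hr ▸ ⟨⟨x, hx⟩, hv _⟩, (hval x hx).symm⟩
  · rintro ⟨y, hy⟩
    obtain ⟨x, hx, rfl⟩ := hsurj y hy
    show χ' ⟨a x, hy⟩ = a (f (b (a x)))
    rw [hba x (hXT hx)]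
    exact hval x hx

/-- The decomposition of a map inside `T`. -/
theorem frattini (h : CharData p F E χ) {X Y : Subgroup Ω} {f : Ω → Ω} (hX : X ≤ T) (hf : Mor F X Y f) :
    ∃ (a e : Ω → Ω) (Z : Subgroup Ω), Mor F T T a ∧ Mor E X Z e ∧ ∀ x ∈ X, f x = a (e x) := by
  obtain ⟨φ, hφ, -, hv⟩ := hf
  obtain ⟨α, hα, φ₀, hφ₀, he⟩ := h.invariant.2.2.2 X hX φ hφ
  obtain ⟨a, ha, hae⟩ := exists_mor_of_aut h.top_le hα
  obtain ⟨e, he', hee⟩ := exists_mor hφ₀ rfl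
  refine ⟨a, e, _, ha, he', fun x hx => ?_⟩
  rw [← hv ⟨x, hx⟩, he ⟨x, hx⟩ (apply_mem hφ₀ _), show e x = φ₀ ⟨x, hx⟩ from hee ⟨x, hx⟩]
  exact (hae ⟨φ₀ ⟨x, hx⟩, apply_mem hφ₀ _⟩).symm

theorem dec_exists (h : CharData p F E χ) {X Y : Subgroup Ω} {f : Ω → Ω} (hX : X ≤ T) (hf : Mor F X Y f) :
    ∃ d, Dec χ E X f d := by
  obtain ⟨a, e, Z, ha, he, hfe⟩ := h.frattini hX hf
  obtain ⟨d, hd⟩ := h.chi_exists ha
  exact ⟨d, a, e, Z, ha, hd, he, hfe⟩

theorem dec_of_E (h : CharData p F E χ) {X Y : Subgroup Ω} {f : Ω → Ω} (hf : Mor E X Y f) : Dec χ E X f 1 :=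
  ⟨fun x => x, f, Y, Mor.id F h.top_le, Chi.id, hf, fun _ _ => rfl⟩

theorem dec_of_top (_h : CharData p F E χ) {X : Subgroup Ω} (hX : X ≤ T) {a : Ω → Ω} (ha : Mor F T T a) {d : Δ}
    (hd : Chi χ a d) : Dec χ E X a d :=
  ⟨a, fun x => x, X, ha, hd, Mor.id E hX, fun _ _ => rfl⟩

theorem dec_conj (h : CharData p F E χ) [Finite S] [Fact p.Prime] {X : Subgroup Ω} (hX : X ≤ T) {s : Ω}
    (hs : s ∈ S) : Dec χ E X (fun x => s * x * s⁻¹) 1 :=
  h.dec_of_top hX (mor_conj F h.top_le ⟨hs, h.normal hs⟩) (h.chi_conj hs)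

theorem centric_image_top (h : CharData p F E χ) {X X' : Subgroup Ω} {a : Ω → Ω} (hX : E.IsCentric X)
    (ha : Mor F T T a) (hXX' : Mor F X X' a) : E.IsCentric X' := by
  have hX'T : X' ≤ T := by
    intro y hy
    obtain ⟨x, hx, rfl⟩ := hXX'.surj hy
    exact ha.map_mem (hX.1 hx)
  refine ⟨hX'T, fun Q' hQ' c hc => ?_⟩
  obtain ⟨φ, hφ, hr⟩ := hQ'
  obtain ⟨e, he, -⟩ := exists_mor hφ hr
  obtain ⟨b, hb, hba, hab⟩ := ha.exists_inv
  obtain ⟨X'', Q, hX'', hQ, heQ⟩ := h.transport hb hab he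
  have hXX : X'' = X := by
    apply le_antisymm
    · intro y hy
      obtain ⟨x', hx', rfl⟩ := hX''.surj hy
      obtain ⟨x, hx, rfl⟩ := hXX'.surj hx'
      rw [hba x (hX.1 hx)]
      exact hx
    · intro x hx
      rw [← hba x (hX.1 hx)]
      exact hX''.map_mem (hXX'.map_mem hx)
  rw [hXX] at heQ
  have h1 : b c ∈ centralizerIn T Q := by
    refine ⟨hb.map_mem hc.1, Subgroup.mem_centralizer_iff.2 fun q hq => ?_⟩
    obtain ⟨q', hq', rfl⟩ := hQ.surj hq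
    rw [← hb.map_mul (he.le_right hq') hc.1, ← hb.map_mul hc.1 (he.le_right hq'),
      Subgroup.mem_centralizer_iff.1 hc.2 q' hq']
  exact (hb.mem_iff hQ he.le_right hc.1).1 (hX.2 Q heQ.isConj h1)

theorem centric_image (h : CharData p F E χ) {X Y : Subgroup Ω} {f : Ω → Ω} (hX : E.IsCentric X)
    (hf : Mor F X Y f) : E.IsCentric Y := by
  obtain ⟨a, e, Z, ha, he, hfe⟩ := h.frattini hX.1 hf
  refine h.centric_image_top (H94.centric_of_isConj hX he.isConj) ha (ha.restrict_eq he.le_right ?_ ?_)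
  · intro z hz
    obtain ⟨x, hx, rfl⟩ := he.surj hz
    rw [← hfe x hx]
    exact hf.map_mem hx
  · intro y hy
    obtain ⟨x, hx, rfl⟩ := hf.surj hy
    exact ⟨e x, he.map_mem hx, (hfe x hx).symm⟩

/-- An automorphism of `p`-power order becomes a conjugation at a fully normalized conjugate. -/
theorem exists_conj_of_pPower [Finite S] [Fact p.Prime] (hS : IsPGroup p S) (hF : F.IsSaturated p)
    {N : Subgroup Ω} (_hN : N ≤ S) {δ : MulAut N} (hδ : δ ∈ F.autGroup N) {k : ℕ} (hk : δ ^ p ^ k = 1)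
    {N' : Subgroup Ω} (hN' : F.IsFullyNormalized N') {γ : Ω → Ω} (hγ : Mor F N N' γ) :
    ∃ g : Ω → Ω, Mor F N N' g ∧ ∃ s ∈ normalizerIn S N', ∀ y : N, g (δ y : N) = s * g y * s⁻¹ := by
  obtain ⟨φ, hφ, hr, hv⟩ := hγ
  obtain ⟨hA, -⟩ := H94.fullyNormalized_spec hS hF hN'
  set e := homEquiv φ (F.injective_of_mem hφ) hr
  have hpK : IsPGroup p ((Subgroup.zpowers δ).map (MulAut.congr e).toMonoidHom) := by
    refine IsPGroup.map ?_ _
    rintro ⟨_, n, rfl⟩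
    refine ⟨k, Subtype.ext ?_⟩
    show (δ ^ n) ^ p ^ k = 1
    rw [← zpow_natCast, ← zpow_mul, mul_comm, zpow_mul, zpow_natCast, hk, one_zpow]
  obtain ⟨b, hb, hbe⟩ := H93.exists_conj_le_autInducedBy hA
    (T := (Subgroup.zpowers δ).map (MulAut.congr e).toMonoidHom) (by
      rintro _ ⟨c, hc, rfl⟩
      exact H94.congr_mem_autGroup hφ hr (Subgroup.zpowers_le.2 hδ hc)) hpK
  obtain ⟨s, hs, hse⟩ := H96.mem_autInducedBy.1 (hbe _ ⟨δ, Subgroup.mem_zpowers δ, rfl⟩)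
  obtain ⟨fb, hfb, hfbe⟩ := exists_mor_of_aut hN'.1 hb
  refine ⟨fun x => fb (γ x), hfb.comp ⟨φ, hφ, hr, hv⟩, s, ⟨hs, mem_normalizer_of_conj_eq hse⟩, fun y => ?_⟩
  have hh := hse (b (e y))
  rw [show ((b * (MulAut.congr e).toMonoidHom δ * b⁻¹) (b (e y))) = b (e (δ y)) by
    simp [MulAut.congr, MulAut.mul_apply]] at hh
  have h2 : ∀ z : N, fb (γ z) = ((b (e z) : N') : Ω) := fun z => by
    rw [← hfbe (e z)]
    exact congrArg fb (hv z).symm
  show fb (γ _) = s * fb (γ _) * s⁻¹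
  rw [h2, h2]
  exact hh

/-- The value of an automorphism of `T` agreeing on a centric subgroup with a map of `E` is trivial. -/
theorem eq_one_of_agree (h : CharData p F E χ) [Finite S] [Fact p.Prime] {X Y : Subgroup Ω} {a : Ω → Ω} {d : Δ}
    (hX : E.IsCentric X) (hXY : Mor E X Y a) (ha : Mor F T T a) (hd : Chi χ a d) : d = 1 := by
  have hTS := h.top_le
  have := finite_of_le hTS
  have hTp : IsPGroup p T := h.isPGroup.to_le hTS
  obtain ⟨m, hm⟩ : ∃ m, Nat.card T - Nat.card X = m := ⟨_, rfl⟩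
  induction m using Nat.strong_induction_on generalizing X Y a d with
  | _ m ih =>
  rcases eq_or_lt_of_le hX.1 with rfl | hlt
  · have hY : Y = X := Subgroup.eq_of_le_of_card_ge hXY.le_right hXY.card_eq.le
    rw [hY] at hXY
    exact hd.unique (h.chi_top hXY)
  -- extend to the normalizer
  set N := normalizerIn T X with hNdef
  have hNT : N ≤ T := inf_le_left
  have hXN : X ≤ N := le_inf hX.1 Subgroup.le_normalizer
  have := finite_of_le hNT
  have hY := H94.fullyCentralized_receptive hTp h.saturatedE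
    (H94.centric_isFullyCentralized (H94.centric_of_isConj hX hXY.isConj))
  obtain ⟨f', M', hf', hagree, -⟩ := hXY.extend hY (M := N) fun n hn =>
    ⟨hn, a n, ha.map_mem hn.1, fun x hx => ha.map_conj hn.1 (hX.1 hx)⟩
  rw [sup_of_le_right hXN] at hf'
  obtain ⟨b, hb, hba, hab⟩ := ha.exists_inv
  obtain ⟨B, hBT, hbB⟩ := hb.restrict hf'.le_right
  have hδ : Mor F N B (fun x => b (f' x)) := hbB.comp (h.toF hf')
  have hfix : ∀ x ∈ X, b (f' x) = x := fun x hx => by rw [hagree x hx, hba x (hX.1 hx)]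
  have hXX : Mor F X X (fun x => b (f' x)) := hδ.restrict_eq hXN
    (fun x hx => by rw [hfix x hx]; exact hx) fun x hx => ⟨x, hx, hfix x hx⟩
  have hw : ∀ y ∈ N, y⁻¹ * b (f' y) ∈ X := by
    intro y hy
    refine hX.2 X (H96.isConj_refl E hX.1) ⟨T.mul_mem (T.inv_mem hy.1) (hBT (hδ.map_mem hy)),
      Subgroup.mem_centralizer_iff.2 fun x hx => ?_⟩
    have h1 : y * x * y⁻¹ ∈ X := (Subgroup.mem_normalizer_iff.1 hy.2 x).1 hx
    have h2 := hδ.map_conj hy (hXN hx)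
    rw [hfix _ h1, hfix x hx] at h2
    calc x * (y⁻¹ * b (f' y)) = y⁻¹ * (y * x * y⁻¹) * b (f' y) := by group
      _ = y⁻¹ * (b (f' y) * x * (b (f' y))⁻¹) * b (f' y) := by rw [h2]
      _ = y⁻¹ * b (f' y) * x := by group
  have hBN : B = N := by
    refine Subgroup.eq_of_le_of_card_ge ?_ hδ.card_eq.le
    intro z hz
    obtain ⟨y, hy, rfl⟩ := hδ.surj hz
    have := N.mul_mem hy (hXN (hw y hy))
    rwa [mul_inv_cancel_left] at this
  rw [hBN] at hδ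
  obtain ⟨δ, hδmem, hδe⟩ := hδ.exists_aut
  obtain ⟨k, hk⟩ := pow_eq_one_of_stabilizes (R := X) h.isPGroup (hNT.trans hTS)
    (δ := δ) (fun y hy => Subtype.ext ((hδe y).trans (hfix y hy))) fun y => by
      rw [Subgroup.coe_mul, Subgroup.coe_inv, hδe]; exact hw y y.2
  obtain ⟨N', hNN', hN'⟩ := H94.exists_fullyNormalized (F := F) (hNT.trans hTS)
  obtain ⟨γ₀, hγ₀, hγr⟩ := hNN'
  obtain ⟨γ, hγ, -⟩ := exists_mor hγ₀ hγr
  obtain ⟨g, hg, s, hs, hgs⟩ := exists_conj_of_pPower h.isPGroup h.saturated (hNT.trans hTS) hδmem hk hN' hγ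
  -- the automorphism of `T` conjugate to the conjugation
  obtain ⟨τ, g₀, M, hτ, hg₀, hgτ⟩ := h.frattini hNT hg
  obtain ⟨dτ, hdτ⟩ := h.chi_exists hτ
  obtain ⟨τi, hτi, hτiτ, hττi⟩ := hτ.exists_inv
  have hcs := mor_conj F hTS ⟨hs.1, h.normal hs.1⟩
  set β : Ω → Ω := fun x => τi (s * τ x * s⁻¹) with hβdef
  have hβ : Mor F T T β := (hτi.comp hcs).comp hτ
  have hβd : Chi χ β 1 := by
    have h1 := ((h.chi_inv hτi hdτ hτiτ).comp (h.chi_conj hs.1)).comp hdτ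
    simpa using h1
  have hgδ : ∀ y ∈ N, g₀ (b (f' y)) = β (g₀ y) := by
    intro y hy
    have h1 := hgs ⟨y, hy⟩
    rw [hδe] at h1
    change g (b (f' y)) = s * g y * s⁻¹ at h1
    rw [hgτ _ (hδ.map_mem hy), hgτ y hy] at h1
    show _ = τi (s * τ (g₀ y) * s⁻¹)
    rw [← h1, hτiτ _ (hg₀.le_right (hg₀.map_mem (hδ.map_mem hy)))]
  obtain ⟨g₀i, hg₀i, hg₀i', hg₀g₀i⟩ := hg₀.exists_inv
  have hMT : M ≤ T := hg₀.le_right
  have hβMM : Mor F M M β := hβ.restrict_eq hMT (fun z hz => by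
    obtain ⟨y, hy, rfl⟩ := hg₀.surj hz
    rw [← hgδ y hy]
    exact hg₀.map_mem (hδ.map_mem hy)) fun z hz => by
    obtain ⟨y, hy, rfl⟩ := hg₀.surj hz
    obtain ⟨y', hy', he⟩ := hδ.surj hy
    refine ⟨g₀ y', hg₀.map_mem hy', ?_⟩
    rw [← hgδ y' hy']
    exact congrArg g₀ he
  obtain ⟨β', hβ', hβ'β, hββ'⟩ := hβ.exists_inv
  obtain ⟨M₁, N₂, hM₁, -, hι⟩ := h.transport hβ' hββ' hg₀i
  have hM₁M : M₁ = M := by
    refine le_antisymm (fun z hz => ?_) fun z hz => ?_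
    · obtain ⟨w, hw, rfl⟩ := hM₁.surj hz
      obtain ⟨w', hw', rfl⟩ := hβMM.surj hw
      rw [hβ'β _ (hMT hw')]
      exact hw'
    · rw [← hβ'β z (hMT hz)]
      exact hM₁.map_mem (hβMM.map_mem hz)
  rw [hM₁M] at hι
  obtain ⟨u, hu, -, hιu⟩ := hι.exists_inv
  have he2 : Mor E N₂ M' (fun z => f' (g₀i (u z))) := (hf'.comp hg₀i).comp hu
  have heq : ∀ z ∈ N₂, f' (g₀i (u z)) = a (β z) := by
    intro z hz
    have hm := hu.map_mem hz
    have hm' : β (u z) ∈ M := hβMM.map_mem hm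
    have h1 : β' (g₀i (β (u z))) = z := hιu z hz
    have h2 : g₀i (β (u z)) = b (f' (g₀i (u z))) := by
      have h3 := hgδ _ (hg₀i.map_mem hm)
      rw [hg₀g₀i _ hm] at h3
      rw [← h3, hg₀i' _ (hδ.map_mem (hg₀i.map_mem hm))]
    have h4 : β z = g₀i (β (u z)) := by
      conv_lhs => rw [← h1]
      rw [hββ' _ (hg₀i.le_right (hg₀i.map_mem hm'))]
    rw [h4, h2, hab _ (hf'.le_right (hf'.map_mem (hg₀i.map_mem hm)))]
  have hN₂c : E.IsCentric N₂ := H94.centric_of_isConj (H94.centric_of_le hX hXN hNT)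
    (H96.isConj_trans hg₀.isConj hι.isConj)
  have hcard : Nat.card N₂ = Nat.card N := (hι.card_eq.symm.trans hg₀i.card_eq)
  have hlt2 : Nat.card X < Nat.card N := lt_of_le_of_ne (Subgroup.card_le_of_le hXN)
    fun hh => (H94.lt_normalizerIn hTp hlt).ne (Subgroup.eq_of_le_of_card_ge hXN hh.ge)
  have hle2 : Nat.card N ≤ Nat.card T := Subgroup.card_le_of_le hNT
  have h5 := ih (Nat.card T - Nat.card N₂) (by omega) hN₂c (he2.congr heq) (ha.comp hβ) (hd.comp hβd) rfl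
  rwa [mul_one] at h5

theorem dec_unique (h : CharData p F E χ) [Finite S] [Fact p.Prime] {X : Subgroup Ω} {f : Ω → Ω} {d d' : Δ}
    (hX : E.IsCentric X) (hd : Dec χ E X f d) (hd' : Dec χ E X f d') : d = d' := by
  obtain ⟨a, e, Z, ha, had, he, hfe⟩ := hd
  obtain ⟨a', e', Z', ha', had', he', hfe'⟩ := hd'
  obtain ⟨ei, hei, -, heei⟩ := he.exists_inv
  obtain ⟨ai, hai, haia, -⟩ := ha'.exists_inv
  have hg : Mor E Z Z' (fun z => ai (a z)) := (he'.comp hei).congr fun z hz => by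
    have hx := hei.map_mem hz
    rw [← heei z hz, ← hfe _ hx, hfe' _ hx, haia _ (he'.le_right (he'.map_mem hx)), heei z hz]
  have h1 := h.eq_one_of_agree (H94.centric_of_isConj hX he.isConj) hg (hai.comp ha)
    ((h.chi_inv hai had' haia).comp had)
  rwa [inv_mul_eq_one, eq_comm] at h1

theorem dec_comp (h : CharData p F E χ) {X Y : Subgroup Ω} {f g : Ω → Ω} {d d' : Δ} (hf : Mor F X Y f)
    (hd : Dec χ E X f d) (hd' : Dec χ E Y g d') : Dec χ E X (fun x => g (f x)) (d' * d) := by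
  obtain ⟨a, e, Z, ha, had, he, hfe⟩ := hd
  obtain ⟨a', e', Z', ha', had', he', hge⟩ := hd'
  obtain ⟨ai, hai, haia, haai⟩ := ha.exists_inv
  obtain ⟨Y'', Z'', hY'', -, he''⟩ := h.transport hai haai he'
  have hYZ : Y'' = Z := by
    apply le_antisymm
    · intro y hy
      obtain ⟨w, hw, rfl⟩ := hY''.surj hy
      obtain ⟨x, hx, rfl⟩ := hf.surj hw
      rw [hfe x hx, haia _ (he.le_right (he.map_mem hx))]
      exact he.map_mem hx
    · intro z hz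
      obtain ⟨x, hx, rfl⟩ := he.surj hz
      rw [← haia (e x) (he.le_right hz), ← hfe x hx]
      exact hY''.map_mem (hf.map_mem hx)
  rw [hYZ] at he''
  refine ⟨_, _, Z'', ha'.comp ha, had'.comp had, he''.comp he, fun x hx => ?_⟩
  show g (f x) = a' (a (ai (e' (a (e x)))))
  rw [← hfe x hx, haai _ (he'.le_right (he'.map_mem (hf.map_mem hx))), hge _ (hf.map_mem hx)]

end CharData

end Cfsg.Agent.H93
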