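import Cfsg.Agent.H93.CentralProductNormal
import Cfsg.Agent.S5150
import Cfsg.Agent.H94.ConstrainedComponent
import Cfsg.Prelude.Def_FusionFitting

/-!
Generalized Fitting subsystems: normality, and existence from a layer.
-/

set_option autoImplicit false

namespace Cfsg.Agent.H93.GF

open Cfsg Cfsg.FusionSystem Cfsg.Agent.H96

variable {Ω : Type*} [Group Ω] {S : Subgroup Ω} [Finite S] {p : ℕ} [Fact p.Prime] {F : FusionSystem S}
  {T : Subgroup Ω} {E : FusionSystem T}

/-- The core and the layer commute. -/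
theorem commute_core (hS : IsPGroup p S) (hF : F.IsSaturated p) (hE : E.IsLayerOf F p) :
    ⁅F.core, T⁆ = ⊥ := by
  obtain ⟨-, hT, -⟩ := S5150.result p hS F hF E hE T (subtype_mem E le_rfl)
  refine Subgroup.commutator_eq_bot_iff_le_centralizer.2 fun x hx => Subgroup.mem_centralizer_iff.2 fun t ht => ?_
  exact (Subgroup.mem_centralizer_iff.1 (hT ht).2 x hx).symm

/-- The core meets the layer in a subgroup central in the layer. -/
theorem core_inf_le_center (hS : IsPGroup p S) (hF : F.IsSaturated p) (hE : E.IsLayerOf F p) :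
    F.core ⊓ T ≤ E.center := by
  have hTS : T ≤ S := hE.1.1.2.2.2.1.1
  have := finite_of_le hTS
  have hT := hS.to_le hTS
  refine le_sSup ⟨inf_le_right, fun P φ hφ => ?_⟩
  refine H94.alperin_induction_step hT hE.1.1.1 (fun P φ => S5127.Ext E (F.core ⊓ T) P φ)
    (fun P R h φ _ hC => S5127.ext_res h hC) (fun P Q φ ψ _ _ a b h => S5127.ext_comp a b h) ?_ hφ
  intro U hU hUc _ _ a ha
  have hUT := hU.1
  have hZU : F.core ⊓ T ≤ U := fun z hz => hUc.2 U ⟨U.subtype, subtype_mem E hUT, Subgroup.range_subtype U⟩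
    ⟨hz.2, Subgroup.mem_centralizer_iff.2 fun x hx =>
      (Subgroup.mem_centralizer_iff.1 (Subgroup.commutator_eq_bot_iff_le_centralizer.1
        (commute_core hS hF hE) hz.1) x (hUT hx))⟩
  have haE := (mem_autGroup E hUT).1 ha
  obtain ⟨-, -, -, ψ, hψ, hψ₁, hψ₂⟩ := S5150.result p hS F hF E hE U haE
  refine ⟨res (U.subtype.comp a.toMonoidHom) (sup_le le_rfl hZU), res_mem E haE _, fun x => rfl, fun z => ?_⟩
  refine Eq.trans ?_ (hψ₂ ⟨z, z.2.1⟩)
  exact (hψ₁ ⟨z, hZU z.2⟩).symm.trans (congrArg ψ (Subtype.ext rfl))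

/-- A subgroup of `R` centralized by `R` is central in the inner system of `R`. -/
theorem le_center_inner {R Z : Subgroup Ω} (hZ : Z ≤ R) (hc : ∀ r ∈ R, ∀ z ∈ Z, r * z = z * r) :
    Z ≤ (innerFusionSystem R).center := by
  refine le_sSup ⟨hZ, fun P φ hφ => ?_⟩
  obtain ⟨hP, g, hg, hgφ⟩ := hφ
  refine ⟨conjHom (P ⊔ Z) g, (innerFusionSystem R).conj_mem (sup_le hP hZ) hg, fun x => (hgφ x).symm,
    fun z => ?_⟩
  show g * (z : Ω) * g⁻¹ = z
  rw [hc g hg z z.2, mul_inv_cancel_right]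

/-- The inner system of the core and a layer satisfy the hypotheses of a central product. -/
theorem cpData (hS : IsPGroup p S) (hF : F.IsSaturated p) (hE : E.IsLayerOf F p) :
    CPN.CPData F (innerFusionSystem F.core) E p := by
  have hcm := Subgroup.commutator_eq_bot_iff_le_centralizer.1 (commute_core hS hF hE)
  refine ⟨hS, hF, H94.inner_isNormalIn hS hF (H96.isNormal_core F), hE.1,
    fun x hx y hy => (Subgroup.mem_centralizer_iff.1 (hcm hx) y hy).symm,
    le_center_inner inf_le_left fun r hr z hz => (Subgroup.mem_centralizer_iff.1 (hcm hr) z hz.2).symm,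
    core_inf_le_center hS hF hE⟩

/-- A generalized Fitting subsystem is normal. -/
theorem isNormalIn_of_isGeneralizedFittingOf (hS : IsPGroup p S) (hF : F.IsSaturated p) {U : Subgroup Ω}
    {D : FusionSystem U} (hD : D.IsGeneralizedFittingOf F p) : D.IsNormalIn F p := by
  obtain ⟨T, E, hE, hcp⟩ := hD
  obtain rfl : U = F.core ⊔ T := by
    obtain ⟨D₀, -, Z, θ, -, -, -, hθ₁, hθ₂, -, -, hrange, -⟩ := hcp
    rw [← hrange]
    refine le_antisymm ?_ (sup_le (fun x hx => ?_) fun y hy => ?_)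
    · rintro _ ⟨w, rfl⟩
      have hw := Subgroup.mem_prod.1 w.2
      have : w = (⟨((w : Ω × Ω).1, 1), Subgroup.mem_prod.2 ⟨hw.1, one_mem _⟩⟩ : ↥(F.core.prod T)) *
          ⟨(1, (w : Ω × Ω).2), Subgroup.mem_prod.2 ⟨one_mem _, hw.2⟩⟩ :=
        Subtype.ext (Prod.ext (by simp) (by simp))
      rw [this, map_mul, hθ₁, hθ₂]
      exact mul_mem (Subgroup.mem_sup_left hw.1) (Subgroup.mem_sup_right hw.2)
    · exact ⟨⟨(x, 1), Subgroup.mem_prod.2 ⟨hx, one_mem _⟩⟩, hθ₁ _ _⟩
    · exact ⟨⟨(1, y), Subgroup.mem_prod.2 ⟨one_mem _, hy⟩⟩, hθ₂ _ _⟩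
  exact (cpData hS hF hE).isNormalIn hcp

/-- A layer gives a generalized Fitting subsystem. -/
theorem exists_isGeneralizedFittingOf (hS : IsPGroup p S) (hF : F.IsSaturated p) (hE : E.IsLayerOf F p) :
    ∃ (U : Subgroup Ω) (D : FusionSystem U), D.IsGeneralizedFittingOf F p := by
  obtain ⟨D, hD⟩ := (cpData hS hF hE).exists_centralProduct
  exact ⟨_, D, T, E, hE, hD⟩

end Cfsg.Agent.H93.GF
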