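import Cfsg.Agent.H93.QuasisimpleDichotomy
import Cfsg.Agent.H93.CentralProductSub
import Cfsg.Agent.H93.GeneralizedFitting
import Cfsg.Agent.H94.QuasisimpleNonabelian
import Cfsg.Agent.H94.ResidualSeries
import Cfsg.Agent.S5155
import Cfsg.Agent.S5311

/-!
Components are normal in the layer and in the generalized Fitting subsystem, given the existence of layers and the
dichotomy between components and normal subsystems.
-/

set_option autoImplicit false

universe u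

namespace Cfsg.Agent.H93.CompNormal

open Cfsg Cfsg.FusionSystem Cfsg.Agent.H96

variable {Ω : Type u} [Group Ω] {p : ℕ} [Fact p.Prime]

/-- The inputs of the theory of components. -/
structure CompTheory (Ω : Type u) [Group Ω] (p : ℕ) : Prop where
  exists_layer : ∀ {S : Subgroup Ω} [Finite S] (F : FusionSystem S), IsPGroup p S → F.IsSaturated p →
    ∃ (T : Subgroup Ω) (E : FusionSystem T), E.IsLayerOf F p
  dichotomy : ∀ {S : Subgroup Ω} [Finite S] (F : FusionSystem S), IsPGroup p S → F.IsSaturated p →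
    ∀ {U T : Subgroup Ω} (C : FusionSystem U) (D : FusionSystem T), C.IsComponentIn F p → D.IsNormalIn F p →
      (C.IsSubsystemOf D ∧ C.IsComponentIn D p) ∨ (U ≤ centralizerIn S T ∧
        (∀ P, C.Hom P ⊆ F.centralizerHom T P) ∧ ∀ P, D.Hom P ⊆ F.centralizerHom U P)
  le_of_le : ∀ {S : Subgroup Ω} [Finite S] (F : FusionSystem S), IsPGroup p S → F.IsSaturated p →
    ∀ {U T : Subgroup Ω} (C : FusionSystem U) (D : FusionSystem T), C.IsComponentIn F p → D.IsNormalIn F p →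
      U ≤ T → C.IsSubsystemOf D ∧ C.IsComponentIn D p

variable {S : Subgroup Ω} [Finite S] {F : FusionSystem S}

/-- A subsystem over a group lies over a subgroup of it. -/
theorem le_of_subsystem {R U : Subgroup Ω} {C : FusionSystem U} {D : FusionSystem R} (h : C.IsSubsystemOf D) :
    U ≤ R :=
  (D.le_of_mem (h U (subtype_mem C le_rfl))).1

/-- A quasisimple weakly normal subsystem is normal. -/
theorem normal_of_weaklyNormal_quasisimple (hS : IsPGroup p S) {T : Subgroup Ω} {C : FusionSystem T}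
    (hq : C.Quasisimple p) (hC : C.IsWeaklyNormalIn F p) : C.IsNormalIn F p := by
  have hTS := hC.2.2.2.1.1
  have := finite_of_le hTS
  have hTp := hS.to_le hTS
  obtain ⟨R, hR, -⟩ := H94.exists_pPrimeResidual hTp hq.1
  have hRC := H94.pPrimeResidual_isNormalIn hTp (H94.weaklyNormal_self hq.1) hR
  rcases QSDichotomy.quasisimple_normal_dichotomy hTp hq hRC with ⟨-, h⟩ | ⟨h, -⟩
  · obtain rfl : R = C := H94.sys_ext h
    exact H94.pPrimeResidual_isNormalIn hS hC hR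
  · refine absurd ⟨⟨fun x y => Subtype.ext ?_⟩⟩ (H94.not_isMulCommutative_of_quasisimple p hTp C hq)
    exact Subgroup.mem_centralizer_iff.1 (C.center_le_centralizer (h y.2)) x x.2

/-- The part of `T` centralized by a normal subsystem over `T` is central in it. -/
theorem inf_le_center (hS : IsPGroup p S) {T Y : Subgroup Ω} {E : FusionSystem T} (hE : E.IsNormalIn F p)
    (hYT : Y ≤ centralizerIn S T) (hEY : ∀ P, E.Hom P ⊆ F.centralizerHom Y P) : T ⊓ Y ≤ E.center := by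
  have hTS : T ≤ S := hE.1.2.2.2.1.1
  have := finite_of_le hTS
  refine le_sSup ⟨inf_le_left, fun P φ hφ => ?_⟩
  refine H94.alperin_induction_step (hS.to_le hTS) hE.1.1 (fun P φ => S5127.Ext E (T ⊓ Y) P φ)
    (fun P R h φ _ hC => S5127.ext_res h hC) (fun P Q φ ψ _ _ a b h => S5127.ext_comp a b h) ?_ hφ
  intro U hU hUc _ _ a ha
  have hUT := hU.1
  have hZU : T ⊓ Y ≤ U := fun z hz => hUc.2 U ⟨U.subtype, subtype_mem E hUT, Subgroup.range_subtype U⟩
    ⟨hz.1, Subgroup.mem_centralizer_iff.2 fun x hx =>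
      Subgroup.mem_centralizer_iff.1 (hYT hz.2).2 x (hUT hx)⟩
  have haE := (mem_autGroup E hUT).1 ha
  obtain ⟨-, -, -, ψ, hψ, hψ₁, hψ₂⟩ := hEY U haE
  refine ⟨res (U.subtype.comp a.toMonoidHom) (sup_le le_rfl hZU), res_mem E haE _, fun x => rfl, fun z => ?_⟩
  refine Eq.trans ?_ (hψ₂ ⟨z, z.2.2⟩)
  exact (hψ₁ ⟨z, hZU z.2⟩).symm.trans (congrArg ψ (Subtype.ext rfl))

/-- A central product lives over the product of the two groups. -/
theorem eq_sup_of_isCentralProductOf {T₁ T₂ R : Subgroup Ω} {E₁ : FusionSystem T₁} {E₂ : FusionSystem T₂}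
    {D : FusionSystem R} (h : IsCentralProductOf E₁ E₂ D) : R = T₁ ⊔ T₂ := by
  obtain ⟨D₀, -, Z, θ, -, -, -, hθ₁, hθ₂, -, -, hrange, -⟩ := h
  rw [← hrange]
  refine le_antisymm ?_ (sup_le (fun x hx => ?_) fun y hy => ?_)
  · rintro _ ⟨w, rfl⟩
    have hw := Subgroup.mem_prod.1 w.2
    have : w = (⟨((w : Ω × Ω).1, 1), Subgroup.mem_prod.2 ⟨hw.1, one_mem _⟩⟩ : ↥(T₁.prod T₂)) *
        ⟨(1, (w : Ω × Ω).2), Subgroup.mem_prod.2 ⟨one_mem _, hw.2⟩⟩ :=
      Subtype.ext (Prod.ext (by simp) (by simp))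
    rw [this, map_mul, hθ₁, hθ₂]
    exact mul_mem (Subgroup.mem_sup_left hw.1) (Subgroup.mem_sup_right hw.2)
  · exact ⟨⟨(x, 1), Subgroup.mem_prod.2 ⟨hx, one_mem _⟩⟩, hθ₁ _ _⟩
  · exact ⟨⟨(1, y), Subgroup.mem_prod.2 ⟨one_mem _, hy⟩⟩, hθ₂ _ _⟩

/-- The layer of a normal subsystem is normal. -/
theorem layer_isNormalIn (ct : CompTheory Ω p) (hS : IsPGroup p S) {V R : Subgroup Ω} {M : FusionSystem V}
    {L : FusionSystem R} (hM : M.IsNormalIn F p) (hL : L.IsLayerOf M p) : L.IsNormalIn F p := by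
  obtain ⟨⟨hMs, hF, hMI⟩, -⟩ := hM
  obtain ⟨hLM, hcomp, hmin⟩ := id hL
  have hVS := hMI.2.1.1
  have := finite_of_le hVS
  have hVp := hS.to_le hVS
  have hLI := hLM.1.2.2
  have hRV := hLI.2.1.1
  have hRS := hRV.trans hVS
  -- automorphisms of `V` preserve the layer
  have hmor : ∀ a ∈ F.autGroup V, M.IsMorphism M (V.subtype.comp a.toMonoidHom) := by
    intro a ha
    refine ⟨fun s => (a s).2, fun P φ hφ => ?_⟩
    obtain ⟨hPV, hφV⟩ := M.le_of_mem hφ
    obtain ⟨χ, hχ, hχe⟩ := hMI.2.2.1 P hPV φ hφ a ha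
    exact ⟨χ, hχ, hPV, hφV, fun x => ⟨⟨x, hPV x.2⟩, Subgroup.mem_subgroupOf.2 x.2, rfl⟩,
      fun x => hχe x (hφV x) _⟩
  have hchar : ∀ a ∈ F.autGroup V, imageAlong (V.subtype.comp a.toMonoidHom) R = R ∧
      ∀ (P : Subgroup Ω) (φ : P →* Ω), φ ∈ L.Hom P →
        ∀ φ', InducedAlong (V.subtype.comp a.toMonoidHom) φ φ' →
          φ' ∈ L.Hom (imageAlong (V.subtype.comp a.toMonoidHom) P) := fun a ha =>
    S5311.result p hVp M hMs a (hmor a ha) (hmor a⁻¹ (inv_mem ha)) L hL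
  have hcl : F.StronglyClosed R := by
    refine ⟨hRS, fun P hP φ hφ x => ?_⟩
    obtain ⟨a, ha, φ₀, hφ₀, he⟩ := hMI.2.2.2 P (hP.trans hRV) φ hφ
    rw [he x ((M.le_of_mem hφ₀).2 x)]
    exact (hchar a ha).1.le (mem_imageAlong_self _ (hLI.2.1.2 P hP φ₀ hφ₀ x))
  have hsub : L.IsSubsystemOf F := fun P φ hφ => hMI.1 P (hLI.1 P hφ)
  have hsi : H94.StronglyInvariant L F := by
    intro P Q hPQ hQR φ hφ hφQ ψ hψ
    obtain ⟨a, ha, ψ₀, hψ₀, he⟩ := hMI.2.2.2 Q (hQR.trans hRV) ψ hψ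
    have hψ₀V := (M.le_of_mem hψ₀).2
    obtain ⟨χ₀, hχ₀, hχ₀e⟩ := H94.stronglyInvariant_of_invariant hLI P Q hPQ hQR φ hφ hφQ ψ₀ hψ₀
    obtain ⟨hP₀R, hχ₀R⟩ := L.le_of_mem hχ₀
    have hP₀V := hP₀R.trans hRV
    obtain ⟨χ, hχ, hχe⟩ := hMI.2.2.1 _ hP₀V χ₀ (hLI.1 _ hχ₀) a ha
    have hχL := (hchar a ha).2 _ χ₀ hχ₀ χ ⟨hP₀V, fun x => hRV (hχ₀R x),
      fun x => ⟨⟨x, hP₀V x.2⟩, Subgroup.mem_subgroupOf.2 x.2, rfl⟩, fun x => hχe x (hRV (hχ₀R x)) _⟩
    have hle : (P.subgroupOf Q).map ψ ≤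
        imageAlong (V.subtype.comp a.toMonoidHom) ((P.subgroupOf Q).map ψ₀) := by
      rintro _ ⟨y, hy, rfl⟩
      exact ⟨⟨ψ₀ y, hψ₀V y⟩, Subgroup.mem_subgroupOf.2 ⟨y, hy, rfl⟩, (he y (hψ₀V y)).symm⟩
    refine ⟨res χ hle, res_mem L hχL hle, fun x hx => ?_⟩
    have hx₀ : ψ₀ (Subgroup.inclusion hPQ x) ∈ (P.subgroupOf Q).map ψ₀ :=
      ⟨_, Subgroup.mem_subgroupOf.2 x.2, rfl⟩
    have h1 := hχe ⟨_, hx₀⟩ (hRV (hχ₀R _)) ⟨⟨_, hψ₀V _⟩, Subgroup.mem_subgroupOf.2 hx₀, rfl⟩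
    rw [he ⟨φ x, hφQ x⟩ (hψ₀V _)]
    refine Eq.trans (congrArg χ (Subtype.ext ?_)) (h1.trans ?_)
    · exact he _ (hψ₀V _)
    · exact congrArg (fun w : V => ((a w : V) : Ω)) (Subtype.ext (hχ₀e x hx₀))
  have hLI' := (H94.invariant_iff_stronglyInvariant hS hF hsub hcl).2 hsi
  have hw : L.IsWeaklyNormalIn F p := ⟨hLM.1.1, hF, hLI'⟩
  have := finite_of_le hRS
  obtain ⟨D, hD, -⟩ := H94.exists_pPrimeResidual (hS.to_le hRS) hLM.1.1
  have hDM := H94.pPrimeResidual_isNormalIn hVp hLM.1 hD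
  have hLD : L.IsSubsystemOf D := hmin R D hDM fun U C hC =>
    (ct.le_of_le M hVp hMs C D hC hDM (le_of_subsystem (hcomp U C hC))).1
  obtain rfl : D = L := H94.sys_ext fun P => Set.Subset.antisymm (hD.2.1.1 P) (hLD P)
  exact H94.pPrimeResidual_isNormalIn hS hw hD

omit [Finite S] [Fact p.Prime] in
/-- A component is normal in the layer. -/
theorem isNormalIn_layer {T : Subgroup Ω} {C : FusionSystem T} (hsn : C.IsSubnormalIn F p) :
    ∀ [Fact p.Prime] [Finite S], CompTheory Ω p → C.Quasisimple p → IsPGroup p S → F.IsSaturated p →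
      ∀ (R : Subgroup Ω) (L : FusionSystem R), L.IsLayerOf F p → C.IsNormalIn L p := by
  induction hsn with
  | refl F₀ =>
    intro _ _ ct hq hS hF R L hL
    have hsub := hL.2.1 _ F₀ ⟨.refl F₀ _, hq⟩
    obtain rfl := le_antisymm hL.1.1.2.2.2.1.1 (le_of_subsystem hsub)
    obtain rfl : L = F₀ := H94.sys_ext fun P => Set.Subset.antisymm (hL.1.1.2.2.1 P) (hsub P)
    exact normal_of_weaklyNormal_quasisimple hS hq (H94.weaklyNormal_self hF)
  | @step V S C M F p hsub hn ih =>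
    intro _ _ ct hq hS hF R L hL
    have hVS := hn.1.2.2.2.1.1
    have := finite_of_le hVS
    have hVp := hS.to_le hVS
    have hMs := hn.1.1
    obtain ⟨Rm, Lm, hLm⟩ := ct.exists_layer M hVp hMs
    have hCLm := ih ct hq hVp hMs Rm Lm hLm
    have hLmF := layer_isNormalIn ct hS hn hLm
    obtain ⟨Y, hY, hYc, hmax, -⟩ := S5127.result p hS F hF Lm hLmF
    obtain ⟨N, hN, hNc⟩ := S5155.result p hS F hF Lm hLmF Y hY hYc hmax
    have hRmS := hLmF.1.2.2.2.1.1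
    have hRmY : Rm ≤ centralizerIn S Y := fun x hx => ⟨hRmS hx, Subgroup.mem_centralizer_iff.2 fun y hy =>
      (Subgroup.mem_centralizer_iff.1 (hY hy).2 x hx).symm⟩
    have d : CPN.CPData F N Lm p := ⟨hS, hF, hN, hLmF,
      fun y hy x hx => (Subgroup.mem_centralizer_iff.1 (hY hy).2 x hx).symm,
      inf_le_center hS hN hRmY hNc, by rw [inf_comm]; exact inf_le_center hS hLmF hY hYc⟩
    obtain ⟨P, hP⟩ := d.exists_centralProduct
    have hPF := d.isNormalIn hP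
    have hLP : L.IsSubsystemOf P := hL.2.2 _ P hPF fun U C' hC' Q φ hφ => by
      rcases ct.dichotomy F hS hF C' Lm hC' hLmF with ⟨h, -⟩ | ⟨hU, -, hLU⟩
      · exact d.right_le hP (h Q hφ)
      · have h := (ct.le_of_le F hS hF C' N hC' hN (hmax U hU hLU)).1 Q hφ
        exact (d.hom_iff hP).2 ⟨(N.le_of_mem h).1.trans le_sup_left, Q, ⊥, φ, h, _, subtype_mem Lm bot_le,
          fun u => ⟨u, 1, u.2, one_mem _, mul_one _, (mul_one _).symm⟩⟩
    have hCP := d.isNormalIn_of_right hP hCLm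
    have hCL : C.IsSubsystemOf L := hL.2.1 _ C ⟨.step hsub hn, hq⟩
    have hRS := hL.1.1.2.2.2.1.1
    have := finite_of_le hRS
    have hcl : L.StronglyClosed T := ⟨le_of_subsystem hCL,
      fun A hA φ hφ x => hCP.1.2.2.2.1.2 A hA φ (hLP A hφ) x⟩
    have hsi : H94.StronglyInvariant C L := fun A B hAB hB φ hφ hφB ψ hψ =>
      H94.stronglyInvariant_of_invariant hCP.1.2.2 A B hAB hB φ hφ hφB ψ (hLP B hψ)
    exact normal_of_weaklyNormal_quasisimple (hS.to_le hRS) hq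
      ⟨hq.1, hL.1.1.1, (H94.invariant_iff_stronglyInvariant (hS.to_le hRS) hL.1.1.1 hCL hcl).2 hsi⟩

/-- A component is normal in every generalized Fitting subsystem. -/
theorem isNormalIn_generalizedFitting (ct : CompTheory Ω p) (hS : IsPGroup p S) (hF : F.IsSaturated p)
    {T : Subgroup Ω} {C : FusionSystem T} (hC : C.IsComponentIn F p) {U : Subgroup Ω} {D : FusionSystem U}
    (hD : D.IsGeneralizedFittingOf F p) : C.IsNormalIn D p := by
  obtain ⟨R, L, hL, hcp⟩ := hD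
  obtain rfl := eq_sup_of_isCentralProductOf hcp
  exact (GF.cpData hS hF hL).isNormalIn_of_right hcp (isNormalIn_layer hC.1 ct hC.2 hS hF R L hL)

end Cfsg.Agent.H93.CompNormal
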