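import Cfsg.Agent.H93.G2Quaternion
import Cfsg.Agent.H47.SparsePoly
import Cfsg.Agent.H46.TypeG2
import Cfsg.Agent.H46.Simple
import Cfsg.Agent.H70.Steinberg.Group
import Cfsg.Agent.H70.Steinberg.Perfect

/-!
The root elements of type G₂ in the automorphism group of Zorn's algebra, and the embedding of the
Chevalley group of type G₂ they give.
-/

set_option autoImplicit false
set_option maxRecDepth 20000

namespace Cfsg.Agent.H93.G2Bridge

open Cfsg.Lie Cfsg.Agent.H47 Cfsg.Agent.H46
open scoped Matrix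

/-- Matrices polynomial in `t` and `u`: a list of powers of `u` with sparse coefficients in `t`. -/
abbrev WPoly : Type := List (ℕ × SPoly)

section W

variable {R : Type*} [CommRing R]

/-- Evaluation. -/
def ev (W : WPoly) (t u : R) : Matrix (Fin 8) (Fin 8) R :=
  (W.map fun e => u ^ e.1 • SPoly.eval 8 e.2 t).sum

/-- Product. -/
noncomputable def mulW (A B : WPoly) : WPoly :=
  SPoly.fmR (fun a => SPoly.mapR (fun b => (a.1 + b.1, SPoly.mul a.2 b.2)) B) A

theorem ev_mulW (A B : WPoly) (hA : ∀ a ∈ A, ∀ e ∈ a.2, e.1.2.1 < 8) (t u : R) :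
    ev (mulW A B) t u = ev A t u * ev B t u := by
  rw [mulW, SPoly.fmR_eq]
  induction A with
  | nil => simp [ev]
  | cons a A ih =>
    rw [List.flatMap_cons, ev, List.map_append, List.sum_append]
    change _ + ev _ t u = _
    rw [ih fun x hx => hA x (List.mem_cons_of_mem _ hx), ev, ev, ev, List.map_cons, List.sum_cons,
      add_mul]
    congr 1
    rw [SPoly.mapR_eq, List.map_map]
    clear ih
    induction B with
    | nil => simp
    | cons b B ihB =>
      rw [List.map_cons, List.sum_cons, List.map_cons, List.sum_cons, mul_add, ihB, Function.comp_apply,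
        SPoly.eval_mul _ _ (hA a List.mem_cons_self), smul_mul_smul_comm, pow_add]

/-- The coefficient of a power of `u`. -/
noncomputable def collapse (j : ℕ) (W : WPoly) : SPoly :=
  SPoly.fmR Prod.snd (SPoly.filterR (fun e => Nat.beq e.1 j) W)

theorem ev_eq_sum (M : ℕ) : ∀ (W : WPoly), (∀ e ∈ W, e.1 < M) → ∀ t u : R,
    ev W t u = ∑ j ∈ Finset.range M, u ^ j • SPoly.eval 8 (collapse j W) t := by
  intro W
  induction W with
  | nil => intro _ t u; simp [ev, collapse, SPoly.filterR_eq, SPoly.fmR_eq]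
  | cons e W ih =>
    intro h t u
    have h' := ih (fun x hx => h x (List.mem_cons_of_mem _ hx)) t u
    have hc : ∀ j, SPoly.eval 8 (collapse j (e :: W)) t =
        (if e.1 = j then SPoly.eval 8 e.2 t else 0) + SPoly.eval 8 (collapse j W) t := by
      intro j
      simp only [collapse, SPoly.fmR_eq, SPoly.filterR_eq, List.filter_cons]
      by_cases hj : e.1 = j
      · rw [if_pos (Nat.beq_eq.mpr hj), if_pos hj, List.flatMap_cons, SPoly.eval_append]
      · rw [if_neg (fun hh => hj (Nat.beq_eq.mp hh)), if_neg hj, zero_add]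
    simp only [hc, smul_add, Finset.sum_add_distrib, ← h']
    rw [Finset.sum_eq_single e.1 (fun b _ hb => by rw [if_neg (Ne.symm hb), smul_zero])
      (fun hh => absurd (Finset.mem_range.2 (h e List.mem_cons_self)) hh), if_pos rfl]
    simp [ev]

/-- The check of an identity. -/
noncomputable def chk (A B : WPoly) : Bool :=
  ((A ++ B).all fun e => decide (e.1 < 24)) &&
    (List.range 24).all fun j => SPoly.eqMod 0 (collapse j A) (collapse j B)

end W

theorem zeroMod_zero (p : ℕ) : ∀ (f : ℕ) (L : SPoly), SPoly.zeroMod 0 f L = true → SPoly.zeroMod p f L = true := by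
  intro f
  induction f with
  | zero => rintro (_ | ⟨e, L⟩) h <;> simp_all [SPoly.zeroMod]
  | succ f ih =>
    rintro (_ | ⟨e, L⟩) h
    · simp [SPoly.zeroMod]
    simp only [SPoly.zeroMod, Bool.and_eq_true, decide_eq_true_eq] at h ⊢
    refine ⟨?_, ih _ h.2⟩
    have h0 := h.1
    rw [Nat.cast_zero, Int.emod_zero] at h0
    rw [h0, Int.zero_emod]

variable {F : Type*} [Field F]

theorem ev_eq_of_chk {A B : WPoly} (h : chk A B = true) (t u : F) : ev A t u = ev B t u := by
  simp only [chk, Bool.and_eq_true, List.all_eq_true, decide_eq_true_eq, List.mem_range] at h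
  rw [ev_eq_sum 24 A (fun e he => h.1 e (List.mem_append_left _ he)),
    ev_eq_sum 24 B (fun e he => h.1 e (List.mem_append_right _ he))]
  refine Finset.sum_congr rfl fun j hj => ?_
  congr 1
  haveI := ringChar.charP F
  refine SPoly.eval_eq_of_eqMod (ringChar F) ?_ t
  exact zeroMod_zero _ _ _ (h.2 j (Finset.mem_range.1 hj))



/-- The nilpotent matrices of the roots on `F⁸`. -/
def aTab : List SPoly :=
  [[((3, 2, 0), 1), ((5, 6, 0), -1)],
   [((3, 1, 0), -1), ((4, 6, 0), 1)],
   [((0, 6, 0), 1), ((3, 0, 0), -1), ((3, 7, 0), 1), ((4, 2, 0), 1), ((5, 1, 0), -1), ((7, 6, 0), -1)],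
   [((0, 2, 0), -1), ((1, 6, 0), 1), ((3, 4, 0), -1), ((5, 0, 0), 1), ((5, 7, 0), -1), ((7, 2, 0), 1)],
   [((0, 1, 0), 1), ((2, 6, 0), 1), ((3, 5, 0), -1), ((4, 0, 0), -1), ((4, 7, 0), 1), ((7, 1, 0), -1)],
   [((1, 2, 0), -1), ((5, 4, 0), 1)],
   [((2, 1, 0), -1), ((4, 5, 0), 1)],
   [((0, 4, 0), -1), ((1, 0, 0), 1), ((1, 7, 0), -1), ((5, 3, 0), -1), ((6, 2, 0), 1), ((7, 4, 0), 1)],
   [((0, 5, 0), 1), ((2, 0, 0), -1), ((2, 7, 0), 1), ((4, 3, 0), -1), ((6, 1, 0), 1), ((7, 5, 0), -1)],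
   [((0, 3, 0), -1), ((1, 5, 0), -1), ((2, 4, 0), 1), ((6, 0, 0), 1), ((6, 7, 0), -1), ((7, 3, 0), 1)],
   [((1, 3, 0), -1), ((6, 4, 0), 1)],
   [((2, 3, 0), 1), ((6, 5, 0), -1)]]

/-- Half their squares. -/
def bTab : List SPoly :=
  [[],
   [],
   [((3, 6, 0), -1)],
   [((5, 2, 0), -1)],
   [((4, 1, 0), -1)],
   [],
   [],
   [((1, 4, 0), -1)],
   [((2, 5, 0), -1)],
   [((6, 3, 0), -1)],
   [],
   []]

/-- The linear coefficient of a root element. -/
noncomputable def aS (r : ℕ) : SPoly := aTab.getD r []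

/-- The quadratic coefficient of a root element. -/
noncomputable def bS (r : ℕ) : SPoly := bTab.getD r []

/-- The sparse matrix of a root element in one variable. -/
noncomputable def xS (r : ℕ) : SPoly :=
  SPoly.one 8 ++ SPoly.shift 1 1 (aS r) ++ SPoly.shift 2 1 (bS r)

/-- The root element at the argument `c t^i u^j`. -/
noncomputable def termW (k : ℕ) (c : ℤ) (i j : ℕ) : WPoly :=
  [(0, SPoly.one 8), (j, SPoly.shift i c (aS k)), (2 * j, SPoly.shift (2 * i) (c ^ 2) (bS k))]

theorem eval_xS (r : ℕ) (a : F) :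
    SPoly.eval 8 (xS r) a = 1 + a • SPoly.eval 8 (aS r) a + a ^ 2 • SPoly.eval 8 (bS r) a := by
  rw [xS, SPoly.eval_append, SPoly.eval_append, SPoly.eval_one, SPoly.eval_shift, SPoly.eval_shift]
  simp

theorem deg_zero : ∀ r < 12, (∀ e ∈ aS r, e.1.1 < 8 ∧ e.1.2.1 < 8 ∧ e.1.2.2 = 0) ∧
    ∀ e ∈ bS r, e.1.1 < 8 ∧ e.1.2.1 < 8 ∧ e.1.2.2 = 0 := by
  decide +kernel

theorem eval_const {L : SPoly} (h : ∀ e ∈ L, e.1.2.2 = 0) (t t' : F) :
    SPoly.eval 8 L t = SPoly.eval 8 L t' := by
  simp only [SPoly.eval]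
  congr 1
  exact List.map_congr_left fun e he => by rw [h e he, pow_zero, pow_zero]

theorem ev_termW {k : ℕ} (hk : k < 12) (c : ℤ) (i j : ℕ) (t u : F) :
    ev (termW k c i j) t u = SPoly.eval 8 (xS k) ((c : F) * t ^ i * u ^ j) := by
  rw [eval_xS, eval_const (fun e he => ((deg_zero k hk).1 e he).2.2) _ t,
    eval_const (fun e he => ((deg_zero k hk).2 e he).2.2) _ t]
  simp only [ev, termW, List.map_cons, List.map_nil, List.sum_cons, List.sum_nil, SPoly.eval_one,
    SPoly.eval_shift, pow_zero, one_smul, smul_smul, Int.cast_pow, add_zero, ← add_assoc]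
  congr 2 <;> ring

theorem termW_lt {k : ℕ} (hk : k < 12) (c : ℤ) (i j : ℕ) :
    ∀ a ∈ termW k c i j, ∀ e ∈ a.2, e.1.2.1 < 8 := by
  intro a ha e he
  simp only [termW, List.mem_cons, List.not_mem_nil, or_false] at ha
  rcases ha with rfl | rfl | rfl
  · simp only [SPoly.one, List.mem_map, List.mem_range] at he
    obtain ⟨x, hx, rfl⟩ := he
    exact hx
  all_goals
    simp only [SPoly.shift_eq, List.mem_map] at he
    obtain ⟨x, hx, rfl⟩ := he
  · exact ((deg_zero k hk).1 x hx).2.1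
  · exact ((deg_zero k hk).2 x hx).2.1

/-- The word of a commutator formula. -/
noncomputable def wordW : List (ℕ × ℤ × ℕ × ℕ) → WPoly
  | [] => [(0, SPoly.one 8)]
  | c :: L => mulW (termW c.1 (c.2.1 * (-1) ^ c.2.2.1) c.2.2.1 c.2.2.2) (wordW L)

/-- The checks of (R1) and (R2). -/
noncomputable def relCheck (r : ℕ) : Bool :=
  chk (mulW (termW r 1 1 0) (termW r 1 0 1))
      [(0, SPoly.one 8), (0, SPoly.shift 1 1 (aS r)), (1, SPoly.shift 0 1 (aS r)),
        (0, SPoly.shift 2 1 (bS r)), (1, SPoly.shift 1 2 (bS r)), (2, SPoly.shift 0 1 (bS r))] &&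
  (List.range 12).all fun s => decide (s = r) || decide (s = chevG2.neg r) ||
    (decide (∀ c ∈ chevG2.commTerms r s, c.1 < 12) &&
      chk (mulW (termW s 1 0 1) (termW r 1 1 0))
        (mulW (termW r 1 1 0) (mulW (termW s 1 0 1) (wordW (chevG2.commTerms r s)))))

theorem relCheck_all : ∀ r < 12, relCheck r = true := by
  decide +kernel

/-- A root element as a matrix. -/
noncomputable def xZ (r : ℕ) (a : F) : Matrix (Fin 8) (Fin 8) F := SPoly.eval 8 (xS r) a

theorem xZ_zero (r : ℕ) : xZ r (0 : F) = 1 := by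
  rw [xZ, eval_xS]; simp

theorem xZ_add {r : ℕ} (hr : r < 12) (t u : F) : xZ r t * xZ r u = xZ r (t + u) := by
  have h := relCheck_all r hr
  simp only [relCheck, Bool.and_eq_true] at h
  have e := ev_eq_of_chk (F := F) h.1 t u
  rw [ev_mulW _ _ (termW_lt hr 1 1 0), ev_termW hr, ev_termW hr] at e
  simp only [Int.cast_one, pow_one, pow_zero, one_mul, mul_one] at e
  simp only [xZ]
  rw [e, eval_xS]
  simp only [ev, List.map_cons, List.map_nil, List.sum_cons, List.sum_nil, SPoly.eval_one, SPoly.eval_shift,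
    pow_zero, pow_one, one_smul, smul_smul, Int.cast_one, Int.cast_ofNat, one_mul, mul_one, add_zero]
  rw [eval_const (fun e he => ((deg_zero r hr).1 e he).2.2) (t + u) t,
    eval_const (fun e he => ((deg_zero r hr).2 e he).2.2) (t + u) t]
  module

theorem mulVec_eval (L : SPoly) (a : F) (x : Fin 8 → F) (i : Fin 8) (hL : ∀ e ∈ L, e.1.2.1 < 8) :
    (SPoly.eval 8 L a *ᵥ x) i = (L.map fun e =>
      if (i : ℕ) = e.1.1 then (e.2 : F) * a ^ e.1.2.2 * x (Fin.ofNat 8 e.1.2.1) else 0).sum := by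
  induction L with
  | nil => simp
  | cons e L ih =>
    rw [SPoly.eval_cons, Matrix.add_mulVec, Pi.add_apply, ih fun z hz => hL z (List.mem_cons_of_mem _ hz),
      List.map_cons, List.sum_cons]
    congr 1
    have he := hL e List.mem_cons_self
    rw [Matrix.mulVec, dotProduct, Finset.sum_eq_single (Fin.ofNat 8 e.1.2.1)]
    · simp [SPoly.unitAt, Fin.ofNat, Nat.mod_eq_of_lt he]
    · intro b _ hb
      rw [SPoly.unitAt, Matrix.of_apply, if_neg, zero_mul]
      rintro ⟨-, hb'⟩
      refine hb (Fin.ext ?_)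
      simp [Fin.ofNat, Nat.mod_eq_of_lt he, hb']
    · simp

theorem xS_lt : ∀ r < 12, ∀ e ∈ xS r, e.1.2.1 < 8 := by
  decide +kernel

set_option maxHeartbeats 8000000 in
theorem xZ_zornMul {r : ℕ} (hr : r < 12) (a : F) (x y : Fin 8 → F) :
    xZ r a *ᵥ zornMul x y = zornMul (xZ r a *ᵥ x) (xZ r a *ᵥ y) := by
  ext i
  simp only [xZ, zornMul, dot3, cross3, zA, zB, mulVec_eval _ _ _ _ (xS_lt r hr)]
  interval_cases r <;> fin_cases i <;>
    simp [xS, aS, bS, aTab, bTab, SPoly.one, SPoly.shift_eq, List.range_succ, mulVec_eval, Fin.ofNat] <;> ring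

/-- A root element of `G₂(F)`. -/
noncomputable def tau (F : Type*) [Field F] (r : ℕ) (a : F) : ↥(G2 F) :=
  if hr : r < 12 then
    ⟨⟨xZ r a, xZ r (-a), by rw [xZ_add hr, add_neg_cancel, xZ_zero],
      by rw [xZ_add hr, neg_add_cancel, xZ_zero]⟩, fun x y => xZ_zornMul hr a x y⟩
  else 1

theorem act_tau {r : ℕ} (hr : r < 12) (a : F) (x : Fin 8 → F) :
    G2Quat.act (tau F r a) x = xZ r a *ᵥ x := by
  rw [tau, dif_pos hr]; rfl

theorem tau_val {r : ℕ} (hr : r < 12) (a : F) :
    ((tau F r a : GL (Fin 8) F) : Matrix (Fin 8) (Fin 8) F) = xZ r a := by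
  rw [tau, dif_pos hr]

theorem tau_add {r : ℕ} (hr : r < 12) (t u : F) : tau F r t * tau F r u = tau F r (t + u) := by
  refine Subtype.ext (Units.ext ?_)
  rw [Subgroup.coe_mul, Units.val_mul, tau_val hr, tau_val hr, tau_val hr, xZ_add hr]

theorem tau_comm {r s : ℕ} (hr : r < 12) (hs : s < 12) (h1 : s ≠ r) (h2 : s ≠ chevG2.neg r) (t u : F) :
    tau F s u * tau F r t =
      tau F r t * tau F s u * H70.Steinberg.wordEval (tau F) (chevG2.commWord F r s t u) := by
  have h := relCheck_all r hr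
  simp only [relCheck, Bool.and_eq_true, List.all_eq_true, List.mem_range] at h
  have h' := (h.2 s hs)
  simp only [h1, h2, decide_false, Bool.or_false, Bool.false_or, Bool.and_eq_true, decide_eq_true_eq] at h'
  obtain ⟨hlt, hc⟩ := h'
  have hw : ∀ L : List (ℕ × ℤ × ℕ × ℕ), (∀ c ∈ L, c.1 < 12) → ev (wordW L) t u =
      (((H70.Steinberg.wordEval (tau F) (L.map fun c => (c.1, (c.2.1 : F) * (-t) ^ c.2.2.1 * u ^ c.2.2.2)) :
        ↥(G2 F)) : GL (Fin 8) F) : Matrix (Fin 8) (Fin 8) F) := by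
    intro L
    induction L with
    | nil => intro _; simp [wordW, ev, H70.Steinberg.wordEval, SPoly.eval_one]
    | cons c L ih =>
      intro hL
      have hc' := hL c List.mem_cons_self
      rw [wordW, ev_mulW _ _ (termW_lt hc' _ _ _), ih fun z hz => hL z (List.mem_cons_of_mem _ hz),
        ev_termW hc']
      simp only [H70.Steinberg.wordEval, List.map_cons, List.prod_cons, Subgroup.coe_mul, Units.val_mul,
        tau_val hc']
      congr 2
      push_cast
      rw [neg_pow t]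
      ring
  have e := ev_eq_of_chk (F := F) hc t u
  rw [ev_mulW _ _ (termW_lt hs _ _ _), ev_mulW _ _ (termW_lt hr _ _ _), ev_mulW _ _ (termW_lt hs _ _ _),
    ev_termW hs, ev_termW hr, hw _ hlt] at e
  refine Subtype.ext (Units.ext ?_)
  simp only [Subgroup.coe_mul, Units.val_mul, tau_val hr, tau_val hs, ChevalleyDatum.commWord]
  rw [Matrix.mul_assoc]
  simpa [xZ] using e

/-- The relations hold, so the Chevalley group maps into `G₂(F)`. -/
theorem exists_hom (F : Type*) [Field F] [Fintype F] (h3 : ∃ a : F, a ≠ 0 ∧ a ≠ 1) :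
    ∃ ψ : ↥(chevG2.group F) →* ↥(G2 F), Function.Injective ψ ∧
      ∀ r < 12, ∀ t : F, ∃ g, ψ g = tau F r t := by
  haveI : Finite F := Finite.of_fintype F
  have hmem : chevG2 ∈ [chevG2, chevB2, chevD4, chevF4, chevE6, chevE7, chevE8] := List.mem_cons_self
  have hcert := H70.Steinberg.cert_of_mem hmem
  have hn : chevG2.nroots = 12 := rfl
  have hX : ∀ {r : ℕ}, r < 12 → ∀ t : F,
      FreeGroup.lift (fun p : Fin chevG2.nroots × F => tau F p.1.val p.2) (chevG2.stX r t) = tau F r t := by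
    intro r hr t
    simp [ChevalleyDatum.stX, hn, hr]
  have hW : ∀ w : List (ℕ × F), (∀ p ∈ w, p.1 < 12) →
      FreeGroup.lift (fun p : Fin chevG2.nroots × F => tau F p.1.val p.2) (chevG2.stWord w) =
        H70.Steinberg.wordEval (tau F) w := by
    intro w
    induction w with
    | nil => simp [ChevalleyDatum.stWord, H70.Steinberg.wordEval]
    | cons p w ih =>
      intro h
      have ih' := ih fun q hq => h q (List.mem_cons_of_mem _ hq)
      simp only [ChevalleyDatum.stWord, H70.Steinberg.wordEval, List.map_cons, List.prod_cons, map_mul] at ih' ⊢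
      rw [ih', hX (h p List.mem_cons_self)]
  have hrel : ∀ g ∈ chevG2.steinbergRelsAB F,
      FreeGroup.lift (fun p : Fin chevG2.nroots × F => tau F p.1.val p.2) g = 1 := by
    rintro g (⟨r, t, u, hr, rfl⟩ | ⟨r, s, t, u, hr, hs, h1, h2, rfl⟩)
    · simp [hX (hn ▸ hr), tau_add (hn ▸ hr : r < 12)]
    · simp only [map_mul, map_inv, hX (hn ▸ hr), hX (hn ▸ hs),
        hW _ (fun p hp => hn ▸ H70.Steinberg.commWord_lt goodG2 hr hs t u p hp)]
      rw [mul_assoc (_ * _) (tau F s u) (tau F r t), tau_comm (hn ▸ hr) (hn ▸ hs) h1 h2]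
      group
  obtain ⟨e, he⟩ := H70.Steinberg.exists_equiv (F := F) goodG2 hcert
  let P := H70.Steinberg.groupPres goodG2 (F := F)
  have hinj : Function.Injective P.θ := by
    rw [← MonoidHom.ker_eq_bot_iff, P.ker_θ]
    exact P.ker_eq_bot hcert
      (fun i a b hi ha hb => H70.Steinberg.H_mul_group goodG2 (goodG2.simple_lt hi) ha hb)
      (fun k j => (H70.Steinberg.invG2.getD k []).getD (j : ℕ) 0) H70.Steinberg.chkInv_small.1
  let θe : chevG2.SteinbergGroup F ≃* ↥(chevG2.group F) := MulEquiv.ofBijective P.θ ⟨hinj, P.θ_surjective⟩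
  let φ0 : chevG2.SteinbergCover F →* ↥(G2 F) := PresentedGroup.toGroup hrel
  refine ⟨φ0.comp (e.symm.toMonoidHom.comp θe.symm.toMonoidHom), ?_, fun r hr t => ?_⟩
  · haveI := (simple_of_mem (F := F) hmem fun _ => h3).1
    rcases (MonoidHom.normal_ker (φ0.comp (e.symm.toMonoidHom.comp θe.symm.toMonoidHom))).eq_bot_or_eq_top
      with h | h
    · exact (MonoidHom.ker_eq_bot_iff _).1 h
    · exfalso
      have key : φ0 (chevG2.scGen F 0 1) = 1 := by
        have h1 : θe (e (chevG2.scGen F 0 1)) ∈ (φ0.comp (e.symm.toMonoidHom.comp θe.symm.toMonoidHom)).ker := by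
          rw [h]; exact Subgroup.mem_top _
        simpa using h1
      have h2 : tau F 0 1 = 1 := by rw [← hX (by norm_num) (1 : F)]; exact key
      have h3' := congrArg (fun g : ↥(G2 F) => G2Quat.act g (Pi.single 2 1) 3) h2
      simp only [G2Quat.act_one, act_tau (by norm_num : 0 < 12), xZ, mulVec_eval _ _ _ _ (xS_lt 0 (by norm_num))] at h3'
      simp [xS, aS, bS, aTab, bTab, SPoly.one, SPoly.shift_eq, List.range_succ, Fin.ofNat] at h3'
  · refine ⟨θe (e (chevG2.scGen F r t)), ?_⟩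
    simp only [MonoidHom.comp_apply, MulEquiv.coe_toMonoidHom, MulEquiv.symm_apply_apply]
    exact hX hr t

end Cfsg.Agent.H93.G2Bridge
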