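import Cfsg.Agent.H93.G2InvolutionClass
import Cfsg.Agent.S1059

/-!
The Chevalley group of type G₂ of odd characteristic: the embedding of the pairs, one class of
involutions, and their centralisers.
-/

set_option autoImplicit false

namespace Cfsg.Agent.H93.G2Inv

open Cfsg.Lie Cfsg.Agent.H93.G2Quat Cfsg.Agent.H93.G2Bridge
open scoped Matrix

variable {F : Type*} [Field F] [Fintype F]

theorem toGL_injective :
    Function.Injective (Matrix.SpecialLinearGroup.toGL : Matrix.SpecialLinearGroup (Fin 2) F → GL (Fin 2) F) :=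
  fun _ _ h => Subtype.ext (congrArg (Units.val : GL (Fin 2) F → _) h)

theorem card_gl : Nat.card (GL (Fin 2) F) =
    (Fintype.card F ^ 2 - 1) * (Fintype.card F ^ 2 - Fintype.card F) := by
  rw [Matrix.card_GL_field, Fin.prod_univ_two, Fin.val_zero, Fin.val_one, pow_zero, pow_one]

theorem card_gl_eq_units_mul :
    Nat.card (GL (Fin 2) F) = Nat.card Fˣ * Nat.card (Matrix.SpecialLinearGroup (Fin 2) F) := by
  set d : GL (Fin 2) F →* Fˣ := Matrix.GeneralLinearGroup.det
  have hsurj : Function.Surjective d := fun c =>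
    ⟨(dPair c : GL (Fin 2) F × GL (Fin 2) F).1, Units.ext (by simp [d, dPair, Matrix.det_fin_two])⟩
  have hker : d.ker = (Matrix.SpecialLinearGroup.toGL : Matrix.SpecialLinearGroup (Fin 2) F →* GL (Fin 2) F).range := by
    ext g
    constructor
    · intro hg
      exact ⟨⟨(g : Matrix (Fin 2) (Fin 2) F), congrArg Units.val hg⟩, Units.ext rfl⟩
    · rintro ⟨x, rfl⟩
      exact Units.ext x.2
  rw [Subgroup.card_eq_card_quotient_mul_card_subgroup d.ker,
    Nat.card_congr (QuotientGroup.quotientKerEquivOfSurjective d hsurj).toEquiv, hker,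
    ← Nat.card_congr (MonoidHom.ofInjective toGL_injective).toEquiv]

theorem card_sl_mul : Nat.card (Matrix.SpecialLinearGroup (Fin 2) F) =
    Fintype.card F * (Fintype.card F ^ 2 - 1) := by
  have h := card_gl_eq_units_mul (F := F)
  have hu : Nat.card Fˣ = Fintype.card F - 1 := by rw [Nat.card_units, Nat.card_eq_fintype_card]
  have hq : 1 < Fintype.card F := Fintype.one_lt_card
  rw [card_gl, hu] at h
  refine Nat.eq_of_mul_eq_mul_left (show 0 < Fintype.card F - 1 by omega) ?_
  rw [← h]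
  have e : Fintype.card F ^ 2 - Fintype.card F = (Fintype.card F - 1) * Fintype.card F := by
    rw [Nat.sub_mul, one_mul, sq]
  rw [e]; ring

theorem card_pairs : Nat.card ↥(pairs F) =
    Nat.card (GL (Fin 2) F) * Nat.card (Matrix.SpecialLinearGroup (Fin 2) F) := by
  set f : ↥(pairs F) →* GL (Fin 2) F := (MonoidHom.fst _ _).comp (pairs F).subtype
  have hsurj : Function.Surjective f := fun g => ⟨⟨(g, g), mem_pairs.2 rfl⟩, rfl⟩
  set i : Matrix.SpecialLinearGroup (Fin 2) F →* ↥(pairs F) :=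
    (slPair F).comp (MonoidHom.inr _ _)
  have hi : Function.Injective i := fun a b h => by
    have := congrArg (fun w : ↥(pairs F) => ((w : GL (Fin 2) F × GL (Fin 2) F).2 : Matrix (Fin 2) (Fin 2) F)) h
    exact Subtype.ext this
  have hker : f.ker = i.range := by
    ext w
    constructor
    · intro hw
      have h1 : (w : GL (Fin 2) F × GL (Fin 2) F).1 = 1 := hw
      have h2 := mem_pairs.1 w.2
      rw [h1, Units.val_one, Matrix.det_one] at h2
      exact ⟨⟨((w : GL (Fin 2) F × GL (Fin 2) F).2 : Matrix (Fin 2) (Fin 2) F), h2.symm⟩,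
        Subtype.ext (Prod.ext (by rw [h1]; exact Units.ext rfl) (Units.ext rfl))⟩
    · rintro ⟨x, rfl⟩
      exact Units.ext rfl
  rw [Subgroup.card_eq_card_quotient_mul_card_subgroup f.ker,
    Nat.card_congr (QuotientGroup.quotientKerEquivOfSurjective f hsurj).toEquiv, hker,
    ← Nat.card_congr (MonoidHom.ofInjective hi).toEquiv]

theorem card_phi_ker : Nat.card ↥(phi F).ker = Nat.card Fˣ := by
  have key : ∀ c : Fˣ, ∀ M : Matrix (Fin 2) (Fin 2) F, Commute ((c : F) • (1 : Matrix (Fin 2) (Fin 2) F)) M :=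
    fun c M => (Commute.one_left M).smul_left _
  let s : Fˣ → GL (Fin 2) F := fun c => Units.map (Matrix.scalar (Fin 2)).toMonoidHom c
  have hs : ∀ c, ((s c : GL (Fin 2) F) : Matrix (Fin 2) (Fin 2) F) = (c : F) • 1 := fun c => by
    simp [s, Matrix.smul_one_eq_diagonal]
  refine (Nat.card_congr (Equiv.ofBijective
    (fun c : Fˣ => (⟨⟨(s c, s c), mem_pairs.2 rfl⟩,
      phi_eq_one rfl (fun M => by rw [show _ = (c : F) • (1 : Matrix (Fin 2) (Fin 2) F) from hs c]; exact key c M)⟩ :
        ↥(phi F).ker)) ⟨fun a b h => ?_, fun w => ?_⟩)).symm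
  · have := congrArg (fun w : ↥(phi F).ker =>
      ((((w : ↥(pairs F)) : GL (Fin 2) F × GL (Fin 2) F).1 : GL (Fin 2) F) : Matrix (Fin 2) (Fin 2) F) 0 0) h
    simp [hs] at this
    exact Units.ext this
  · obtain ⟨h1, c, hc⟩ := scalar_of_ker w.2
    refine ⟨c, Subtype.ext (Subtype.ext (Prod.ext (Units.ext ?_) (Units.ext ?_)))⟩
    · show ((s c : GL (Fin 2) F) : Matrix (Fin 2) (Fin 2) F) = _
      rw [hs, ← hc]
    · show ((s c : GL (Fin 2) F) : Matrix (Fin 2) (Fin 2) F) = _
      rw [hs, ← hc, h1]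

variable (hF : Odd (Fintype.card F))

include hF in
/-- The embedding of the pairs into the Chevalley group. -/
theorem exists_chi : ∃ χ : ↥(pairs F) →* ↥(chevG2.group F),
    χ.range.index % 2 = 1 ∧ χ.ker = (phi F).ker ∧
    Subgroup.centralizer {χ (negPair F)} = χ.range ∧
    Nat.card χ.range = Fintype.card F ^ 2 * (Fintype.card F ^ 2 - 1) ^ 2 ∧
    ∀ w, χ w * χ w = 1 → χ w ≠ 1 → IsConj (χ (negPair F)) (χ w) := by
  have h2 : (2 : F) ≠ 0 := H6.two_ne_of_odd rfl hF
  obtain ⟨ψ, hψ, hτ⟩ := exists_hom F ⟨-1, neg_ne_zero.2 one_ne_zero, fun h => h2 (by linear_combination -h)⟩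
  have hle := phi_range_le ψ.range fun r hr t => hτ r hr t
  let χ : ↥(pairs F) →* ↥(chevG2.group F) :=
    (MonoidHom.ofInjective hψ).symm.toMonoidHom.comp ((phi F).codRestrict ψ.range fun w => hle ⟨w, rfl⟩)
  have hχ : ∀ w, ψ (χ w) = phi F w := fun w =>
    congrArg Subtype.val ((MonoidHom.ofInjective hψ).apply_symm_apply ⟨phi F w, hle ⟨w, rfl⟩⟩)
  have hker : χ.ker = (phi F).ker := by
    ext w
    rw [MonoidHom.mem_ker, MonoidHom.mem_ker, ← hχ, map_eq_one_iff _ hψ]
  have hcent : Subgroup.centralizer {χ (negPair F)} = χ.range := by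
    ext g
    rw [Subgroup.mem_centralizer_singleton_iff]
    constructor
    · intro h
      have hg : Commute (ψ g) (phi F (negPair F)) := by
        rw [← hχ]
        show ψ g * ψ (χ (negPair F)) = ψ (χ (negPair F)) * ψ g
        rw [← map_mul, ← map_mul, h]
      obtain ⟨w, hw⟩ := exists_phi_eq h2 _ hg
      exact ⟨w, hψ (by rw [hχ, hw])⟩
    · rintro ⟨w, rfl⟩
      rw [← map_mul, ← map_mul]
      congr 1
      refine Subtype.ext (Prod.ext ?_ ?_) <;> simp [negPair]
  have hu : Nat.card Fˣ = Fintype.card F - 1 := by rw [Nat.card_units, Nat.card_eq_fintype_card]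
  have hq : 1 < Fintype.card F := Fintype.one_lt_card
  have hcard : Nat.card χ.range = Fintype.card F ^ 2 * (Fintype.card F ^ 2 - 1) ^ 2 := by
    have h := Subgroup.card_eq_card_quotient_mul_card_subgroup χ.ker
    rw [Nat.card_congr (QuotientGroup.quotientKerEquivRange χ).toEquiv, hker, card_phi_ker, card_pairs,
      card_gl_eq_units_mul, card_sl_mul, hu] at h
    refine Nat.eq_of_mul_eq_mul_right (show 0 < Fintype.card F - 1 by omega) ?_
    rw [← h]; ring
  refine ⟨χ, ?_, hker, hcent, hcard, fun w hw hw1 => isConj_negPair hF hψ hτ hχ hw hw1⟩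
  have h := χ.range.card_mul_index
  rw [hcard, S1059.result (F := F) rfl] at h
  set q := Fintype.card F
  obtain ⟨m, hm⟩ : ∃ m, q ^ 2 - 1 = m := ⟨_, rfl⟩
  have hm' : q ^ 2 = m + 1 := by
    have : 1 ≤ q ^ 2 := Nat.one_le_pow _ _ (by omega)
    omega
  have h6 : q ^ 6 - 1 = m * (q ^ 4 + q ^ 2 + 1) := by
    rw [show q ^ 6 = (q ^ 2) ^ 3 by ring, show q ^ 4 = (q ^ 2) ^ 2 by ring, hm']
    refine Nat.sub_eq_of_eq_add ?_
    ring
  rw [hm, h6] at h
  have hmpos : 0 < m := by
    have : 1 < q ^ 2 := Nat.one_lt_pow (by norm_num) hq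
    omega
  have : χ.range.index = q ^ 4 * (q ^ 4 + q ^ 2 + 1) := by
    refine Nat.eq_of_mul_eq_mul_left (show 0 < q ^ 2 * m ^ 2 by positivity) ?_
    rw [h]; ring
  have hodd : q % 2 = 1 := Nat.odd_iff.1 hF
  rw [this]
  simp [Nat.mul_mod, Nat.add_mod, Nat.pow_mod, hodd]

end Cfsg.Agent.H93.G2Inv
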