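import Cfsg.Agent.H93.G2Quaternion
import Cfsg.Agent.H94.NormalSubgroupSystem
import Cfsg.Agent.H6.SylowTwo

/-!
A Sylow 2-subgroup of `G₂(F)`, `|F|` odd, inside the centraliser of an involution, and its
abelianization.
-/

set_option autoImplicit false

namespace Cfsg.Agent.H93.G2Quat

open Matrix MatrixGroups Cfsg Cfsg.Lie
open scoped commutatorElement

variable {F : Type*} [Field F]

theorem commute_all_of_commute_pair {p x y : Matrix (Fin 2) (Fin 2) F} (hx : Commute p x)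
    (hy : Commute p y) (hxy : x * y ≠ y * x) (M : Matrix (Fin 2) (Fin 2) F) : Commute p M := by
  have ex := fun i j => congrFun (congrFun hx.eq i) j
  have ey := fun i j => congrFun (congrFun hy.eq i) j
  have x00 := ex 0 0
  have x01' := ex 0 1
  have x10' := ex 1 0
  have y00 := ey 0 0
  have y01' := ey 0 1
  have y10' := ey 1 0
  simp [Matrix.mul_apply, Fin.sum_univ_two] at x00 x01' x10' y00 y01' y10'
  have hne : ∃ i j, (x * y) i j ≠ (y * x) i j := by
    by_contra h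
    push Not at h
    exact hxy (Matrix.ext h)
  have key : p 0 1 = 0 ∧ p 1 0 = 0 ∧ p 0 0 = p 1 1 := by
    obtain ⟨i, j, hij⟩ := hne
    refine ⟨?_, ?_, ?_⟩ <;> by_contra hne' <;> apply hij <;>
      fin_cases i <;> fin_cases j <;> simp [Matrix.mul_apply, Fin.sum_univ_two] <;> grind
  ext i j
  obtain ⟨k1, k2, k3⟩ := key
  fin_cases i <;> fin_cases j <;>
    simp [Matrix.mul_apply, Fin.sum_univ_two, k1, k2, k3] <;> ring

theorem sq_mem_commutator_quaternion {k : ℕ} (hk : 1 ≤ k) (x : QuaternionGroup (2 ^ k)) :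
    x ^ 2 ∈ commutator (QuaternionGroup (2 ^ k)) := by
  have key : ∀ i : ZMod (2 * 2 ^ k),
      QuaternionGroup.a (i + i) ∈ commutator (QuaternionGroup (2 ^ k)) := by
    intro i
    have h := Subgroup.commutator_mem_commutator (Subgroup.mem_top (QuaternionGroup.xa (n := 2 ^ k) 0))
      (Subgroup.mem_top (QuaternionGroup.a (-i)))
    have e : ⁅(QuaternionGroup.xa 0 : QuaternionGroup (2 ^ k)), QuaternionGroup.a (-i)⁆ =
        QuaternionGroup.a (i + i) := by
      rw [commutatorElement_def]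
      have i1 : (QuaternionGroup.a (-i) : QuaternionGroup (2 ^ k))⁻¹ = QuaternionGroup.a i := by
        refine inv_eq_of_mul_eq_one_right ?_
        rw [QuaternionGroup.a_mul_a, neg_add_cancel, QuaternionGroup.one_def]
      have i2 : (QuaternionGroup.xa 0 : QuaternionGroup (2 ^ k))⁻¹ =
          QuaternionGroup.xa ((2 ^ k : ℕ) : ZMod (2 * 2 ^ k)) := by
        refine inv_eq_of_mul_eq_one_right ?_
        rw [QuaternionGroup.xa_mul_xa, sub_zero, QuaternionGroup.one_def]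
        congr 1
        rw [← Nat.cast_add, ← two_mul]
        exact ZMod.natCast_self _
      rw [i1, i2, QuaternionGroup.xa_mul_a, QuaternionGroup.xa_mul_xa, QuaternionGroup.a_mul_a]
      congr 1
      have : ((2 ^ k : ℕ) : ZMod (2 * 2 ^ k)) + ((2 ^ k : ℕ) : ZMod (2 * 2 ^ k)) = 0 := by
        rw [← Nat.cast_add, ← two_mul]; exact ZMod.natCast_self _
      linear_combination this
    rwa [e] at h
  cases x with
  | a i => rw [sq, QuaternionGroup.a_mul_a]; exact key i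
  | xa i =>
    rw [sq, QuaternionGroup.xa_mul_xa, add_sub_cancel_right]
    obtain ⟨m, rfl⟩ : ∃ m, k = m + 1 := ⟨k - 1, by omega⟩
    have e : ((2 ^ (m + 1) : ℕ) : ZMod (2 * 2 ^ (m + 1))) =
        ((2 ^ m : ℕ) : ZMod (2 * 2 ^ (m + 1))) + ((2 ^ m : ℕ) : ZMod (2 * 2 ^ (m + 1))) := by
      rw [← Nat.cast_add, pow_succ, mul_two]
    rw [e]; exact key _

theorem eq_smul_one {p : Matrix (Fin 2) (Fin 2) F} (h : ∀ M, Commute p M) :
    p = p 0 0 • (1 : Matrix (Fin 2) (Fin 2) F) := by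
  have h1 := fun i j => congrFun (congrFun (h !![0, 1; 0, 0]).eq i) j
  have a := h1 0 0
  have b := h1 0 1
  have c := fun i j => congrFun (congrFun (h !![0, 0; 1, 0]).eq i) j
  have d := c 0 0
  simp [Matrix.mul_apply, Fin.sum_univ_two] at a b d
  ext i j
  fin_cases i <;> fin_cases j <;> simp [← a, b, d]

variable [Fintype F]

set_option maxHeartbeats 1000000 in
/-- A Sylow 2-subgroup of `G₂(F)` whose squares lie in its derived subgroup. -/
theorem exists_sylow (hF : Odd (Fintype.card F)) : ∃ P : Sylow 2 ↥(G2 F),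
    ∀ x ∈ (P : Subgroup ↥(G2 F)), x ^ 2 ∈ ⁅(P : Subgroup ↥(G2 F)), (P : Subgroup ↥(G2 F))⁆ := by
  haveI : Fact (Nat.Prime 2) := ⟨Nat.prime_two⟩
  have h2 : (2 : F) ≠ 0 := H6.two_ne_of_odd rfl hF
  -- the 2-part of the multiplicative group
  obtain ⟨ω, hω, hωgen⟩ : ∃ ω : Fˣ, (∃ m, ω ^ 2 ^ m = 1) ∧
      ∀ u : Fˣ, (∃ m, u ^ 2 ^ m = 1) → u ∈ Subgroup.zpowers ω := by
    obtain ⟨T⟩ := (inferInstance : Nonempty (Sylow 2 Fˣ))
    obtain ⟨ω, hω⟩ := (Subgroup.isCyclic_iff_exists_zpowers_eq_top _).1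
      (inferInstance : IsCyclic ↥(T : Subgroup Fˣ))
    obtain ⟨m, hm⟩ := T.isPGroup' ⟨ω, hω ▸ Subgroup.mem_zpowers ω⟩
    refine ⟨ω, ⟨m, congrArg Subtype.val hm⟩, fun u ⟨n, hn⟩ => ?_⟩
    have hu : IsPGroup 2 ↥(Subgroup.zpowers u) := by
      rintro ⟨_, i, rfl⟩
      refine ⟨n, Subtype.ext ?_⟩
      show (u ^ i) ^ 2 ^ n = 1
      rw [← zpow_natCast, ← _root_.zpow_mul, mul_comm, _root_.zpow_mul, zpow_natCast, hn, _root_.one_zpow]
    obtain ⟨T', hT'⟩ := hu.exists_le_sylow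
    obtain ⟨c, rfl⟩ := MulAction.exists_smul_eq Fˣ T T'
    rw [hω]
    obtain ⟨v, hv, hvu⟩ := Sylow.coe_subgroup_smul (g := c) (P := T) ▸
      hT' (Subgroup.mem_zpowers u)
    have : v = u := by simpa [mul_comm c v] using hvu
    exact this ▸ hv
  -- diagonal matrices and the swap
  let dia : Fˣ × Fˣ →* GL (Fin 2) F :=
    MonoidHom.toHomUnits
      { toFun := fun u => Matrix.diagonal ![(u.1 : F), (u.2 : F)]
        map_one' := by ext i j; fin_cases i <;> fin_cases j <;> simp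
        map_mul' := fun u v => by
          rw [Matrix.diagonal_mul_diagonal]; congr 1; ext i; fin_cases i <;> simp }
  have hdia : ∀ u, ((dia u : GL (Fin 2) F) : Matrix (Fin 2) (Fin 2) F) =
      Matrix.diagonal ![(u.1 : F), (u.2 : F)] := fun _ => rfl
  let w : GL (Fin 2) F := ⟨!![0, 1; 1, 0], !![0, 1; 1, 0],
    by ext i j; fin_cases i <;> fin_cases j <;> simp,
    by ext i j; fin_cases i <;> fin_cases j <;> simp⟩
  have hw : (w : Matrix (Fin 2) (Fin 2) F) = !![0, 1; 1, 0] := rfl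
  have hwi : ((w⁻¹ : GL (Fin 2) F) : Matrix (Fin 2) (Fin 2) F) = !![0, 1; 1, 0] := rfl
  have hconj : ∀ u, w * dia u * w⁻¹ = dia (u.2, u.1) := by
    intro u
    refine Units.ext ?_
    rw [Units.val_mul, Units.val_mul, hw, hwi, hdia, hdia]
    ext i j
    fin_cases i <;> fin_cases j <;> simp [Matrix.mul_apply, Fin.sum_univ_two, Matrix.vecMul_diagonal]
  set D := ((Subgroup.zpowers ω).prod (Subgroup.zpowers ω)).map dia with hD
  have hD2 : IsPGroup 2 ↥D := by
    obtain ⟨m, hm⟩ := hω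
    rintro ⟨_, ⟨u1, u2⟩, ⟨⟨i, hi⟩, ⟨j, hj⟩⟩, rfl⟩
    refine ⟨m, Subtype.ext ?_⟩
    show dia (u1, u2) ^ 2 ^ m = 1
    have e : ∀ i : ℤ, (ω ^ i) ^ 2 ^ m = 1 := fun i => by
      rw [← zpow_natCast, ← _root_.zpow_mul, mul_comm, _root_.zpow_mul, zpow_natCast, hm, _root_.one_zpow]
    have f1 : u1 = ω ^ i := hi.symm
    have f2 : u2 = ω ^ j := hj.symm
    rw [← map_pow, Prod.pow_mk, f1, f2, e i, e j]
    exact map_one dia
  have hww : w * w = 1 := Units.ext (by
    rw [Units.val_mul, hw]; ext i j; fin_cases i <;> fin_cases j <;> simp)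
  have hwN : w ∈ Subgroup.normalizer (D : Set (GL (Fin 2) F)) := by
    have hwinv : w⁻¹ = w := inv_eq_of_mul_eq_one_right hww
    have h1 : ∀ x ∈ D, w * x * w⁻¹ ∈ D := by
      rintro _ ⟨u, hu, rfl⟩
      exact ⟨(u.2, u.1), ⟨hu.2, hu.1⟩, (hconj u).symm⟩
    refine Subgroup.mem_normalizer_iff.2 fun x => ⟨h1 x, fun h => ?_⟩
    have h' := h1 _ h
    rw [hwinv] at h'
    rwa [show w * (w * x * w) * w = (w * w) * x * (w * w) by group, hww, one_mul, mul_one] at h'
  have hw2 : IsPGroup 2 ↥(Subgroup.zpowers w) := by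
    rintro ⟨_, i, rfl⟩
    refine ⟨1, Subtype.ext ?_⟩
    show (w ^ i) ^ 2 ^ 1 = 1
    rw [← zpow_natCast, ← _root_.zpow_mul, mul_comm, _root_.zpow_mul, zpow_natCast, pow_one, sq, hww, _root_.one_zpow]
  obtain ⟨S, hS⟩ := (hw2.to_sup_of_normal_right' hD2
    (Subgroup.zpowers_le.2 hwN)).exists_le_sylow
  have hwS : w ∈ (S : Subgroup (GL (Fin 2) F)) :=
    hS (le_sup_left (α := Subgroup (GL (Fin 2) F)) (Subgroup.mem_zpowers w))
  set a := dia (1, ω) with ha
  have haS : a ∈ (S : Subgroup (GL (Fin 2) F)) :=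
    hS (le_sup_right (α := Subgroup (GL (Fin 2) F))
      ⟨(1, ω), ⟨one_mem _, Subgroup.mem_zpowers ω⟩, rfl⟩)
  have hdeta : Matrix.GeneralLinearGroup.det a = ω := Units.ext (by
    show Matrix.det ((dia (1, ω) : GL (Fin 2) F) : Matrix (Fin 2) (Fin 2) F) = _
    rw [hdia]; simp)
  have hdetw : Matrix.GeneralLinearGroup.det w = -1 := Units.ext (by
    show Matrix.det (w : Matrix (Fin 2) (Fin 2) F) = _
    rw [hw]; simp)
  -- a Sylow subgroup of the special linear group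
  let ι : SL(2, F) →* GL (Fin 2) F := Matrix.SpecialLinearGroup.toGL
  have hι : Function.Injective ι := fun x y h =>
    Subtype.ext (congrArg (Units.val : GL (Fin 2) F → _) h)
  have hrange : ι.range = Matrix.GeneralLinearGroup.det.ker := by
    ext g
    constructor
    · rintro ⟨x, rfl⟩
      exact Units.ext x.2
    · intro hg
      exact ⟨⟨(g : Matrix (Fin 2) (Fin 2) F), congrArg Units.val hg⟩, Units.ext rfl⟩
  have memι : ∀ {g : GL (Fin 2) F}, g ∈ ι.range ↔ Matrix.GeneralLinearGroup.det g = 1 :=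
    fun {g} => by rw [hrange]; rfl
  have hQ : ∀ x ∈ (S : Subgroup (GL (Fin 2) F)), Matrix.GeneralLinearGroup.det x = 1 →
      x ^ 2 ∈ ⁅(S : Subgroup (GL (Fin 2) F)) ⊓ ι.range, (S : Subgroup (GL (Fin 2) F)) ⊓ ι.range⁆ ∧
      True := by
    intro x hx hdx
    haveI : ι.range.Normal := hrange ▸ MonoidHom.normal_ker _
    obtain ⟨R, hR⟩ := H94.exists_sylow_inf_normal S ι.range
    let e : SL(2, F) ≃* ↥ι.range := MonoidHom.ofInjective hι
    obtain ⟨k, hk, ⟨f⟩⟩ := H6.sylow_two_sl2 (F := F) rfl h2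
      (R.mapSurjective (f := e.symm.toMonoidHom) (fun y => e.symm.surjective y))
    let j : ↥((R.mapSurjective (f := e.symm.toMonoidHom) (fun y => e.symm.surjective y) :
        Sylow 2 SL(2, F)) : Subgroup SL(2, F)) →* GL (Fin 2) F := ι.comp (Subgroup.subtype _)
    have hj : j.range = (S : Subgroup (GL (Fin 2) F)) ⊓ ι.range := by
      ext g
      constructor
      · rintro ⟨⟨y, r, hr, rfl⟩, rfl⟩
        have hr' : (r : GL (Fin 2) F) ∈ (S : Subgroup (GL (Fin 2) F)) ⊓ ι.range := by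
          rw [hR] at hr; exact hr
        have : ι (e.symm r) = (r : GL (Fin 2) F) := congrArg Subtype.val (e.apply_symm_apply r)
        exact this ▸ hr'
      · intro hg
        obtain ⟨y, hy⟩ := hg.2
        refine ⟨⟨y, ⟨g, hg.2⟩, by rw [hR]; exact hg, ?_⟩, hy⟩
        refine e.symm_apply_eq.2 (Subtype.ext ?_)
        exact hy.symm
    have hxr : x ∈ j.range := by
      rw [hj]
      exact ⟨hx, memι.2 hdx⟩
    obtain ⟨y, rfl⟩ := hxr
    have hy := sq_mem_commutator_quaternion hk (f y)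
    refine ⟨?_, trivial⟩
    have hy' := Subgroup.mem_map_of_mem (j.comp f.symm.toMonoidHom) hy
    rw [commutator_def, Subgroup.map_commutator, ← MonoidHom.range_eq_map] at hy'
    have hrg : Subgroup.map j f.symm.toMonoidHom.range = j.range := by
      rw [MonoidHom.range_eq_top.2 (show Function.Surjective ⇑f.symm.toMonoidHom from
        f.symm.surjective), ← MonoidHom.range_eq_map]
    rw [MonoidHom.range_comp] at hy'
    simp only [hrg, hj] at hy'
    rw [map_pow, MonoidHom.comp_apply, MulEquiv.coe_toMonoidHom, MulEquiv.symm_apply_apply] at hy'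
    exact hy'
  -- the Sylow subgroup of the pairs
  have hSS : IsPGroup 2 ↥((S : Subgroup (GL (Fin 2) F)).prod (S : Subgroup (GL (Fin 2) F))) := by
    rintro ⟨⟨x, y⟩, hx, hy⟩
    obtain ⟨m, hm⟩ := S.isPGroup' ⟨x, hx⟩
    obtain ⟨n, hn⟩ := S.isPGroup' ⟨y, hy⟩
    refine ⟨m + n, Subtype.ext (Prod.ext ?_ ?_)⟩
    · show x ^ 2 ^ (m + n) = 1
      rw [pow_add, pow_mul, show x ^ 2 ^ m = 1 from congrArg Subtype.val hm, one_pow]
    · show y ^ 2 ^ (m + n) = 1
      rw [pow_add, mul_comm, pow_mul, show y ^ 2 ^ n = 1 from congrArg Subtype.val hn, one_pow]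
  have hmax : ∀ R : Subgroup ↥(pairs F), IsPGroup 2 ↥R →
      ((S : Subgroup (GL (Fin 2) F)).prod (S : Subgroup (GL (Fin 2) F))).subgroupOf (pairs F) ≤ R →
      R = ((S : Subgroup (GL (Fin 2) F)).prod (S : Subgroup (GL (Fin 2) F))).subgroupOf (pairs F) := by
    intro R hR hle
    refine le_antisymm (fun r hr => ?_) hle
    have h1 := hR.map ((pairs F).subtype)
    have hfst := (h1.map (MonoidHom.fst (GL (Fin 2) F) (GL (Fin 2) F)))
    have hsnd := (h1.map (MonoidHom.snd (GL (Fin 2) F) (GL (Fin 2) F)))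
    have e : ∀ x ∈ (S : Subgroup (GL (Fin 2) F)), ((x, x) : GL (Fin 2) F × GL (Fin 2) F) ∈
        R.map (pairs F).subtype := fun x hx =>
      ⟨⟨(x, x), mem_pairs.2 rfl⟩, hle ⟨hx, hx⟩, rfl⟩
    exact ⟨(S.is_maximal' hfst fun x hx => ⟨(x, x), e x hx, rfl⟩).le
        ⟨_, ⟨r, hr, rfl⟩, rfl⟩,
      (S.is_maximal' hsnd fun x hx => ⟨(x, x), e x hx, rfl⟩).le ⟨_, ⟨r, hr, rfl⟩, rfl⟩⟩
  obtain ⟨T, hT⟩ := (hSS.to_le (inf_le_left (b := pairs F))).comap_subtype.exists_le_sylow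
    (G := ↥(pairs F))
  have hTeq : (T : Subgroup ↥(pairs F)) =
      ((S : Subgroup (GL (Fin 2) F)).prod (S : Subgroup (GL (Fin 2) F))).subgroupOf (pairs F) :=
    hmax _ T.isPGroup' fun x hx => hT ⟨hx, x.2⟩
  have memT : ∀ v : ↥(pairs F), v ∈ (T : Subgroup ↥(pairs F)) ↔
      (v : GL (Fin 2) F × GL (Fin 2) F).1 ∈ (S : Subgroup (GL (Fin 2) F)) ∧
      (v : GL (Fin 2) F × GL (Fin 2) F).2 ∈ (S : Subgroup (GL (Fin 2) F)) := fun v => by
    rw [hTeq]; exact Iff.rfl
  have hneg1 : (-1 : GL (Fin 2) F) ∈ (S : Subgroup (GL (Fin 2) F)) := by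
    have h1 : IsPGroup 2 ↥(Subgroup.zpowers (-1 : GL (Fin 2) F)) := by
      rintro ⟨_, i, rfl⟩
      refine ⟨1, Subtype.ext ?_⟩
      show ((-1 : GL (Fin 2) F) ^ i) ^ 2 ^ 1 = 1
      rw [← zpow_natCast, ← _root_.zpow_mul, mul_comm, _root_.zpow_mul, zpow_natCast]
      simp
    obtain ⟨S', hS'⟩ := h1.exists_le_sylow
    obtain ⟨c, rfl⟩ := MulAction.exists_smul_eq (GL (Fin 2) F) S S'
    obtain ⟨v, hv, hvu⟩ := Sylow.coe_subgroup_smul (g := c) (P := S) ▸
      hS' (Subgroup.mem_zpowers (-1 : GL (Fin 2) F))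
    have hv1 : c * v * c⁻¹ = -1 := by simpa using hvu
    have : v = -1 := by
      rw [show v = c⁻¹ * (c * v * c⁻¹) * c by group, hv1]
      simp
    exact this ▸ hv
  have htT : negPair F ∈ (T : Subgroup ↥(pairs F)) := (memT _).2 ⟨one_mem _, hneg1⟩
  set t := phi F (negPair F)
  set P0 := (T : Subgroup ↥(pairs F)).map (phi F) with hP0
  obtain ⟨P, hP⟩ := (T.isPGroup'.map (phi F)).exists_le_sylow
  -- two noncommuting elements of determinant one
  obtain ⟨x1, hx1, hdx1, y1, hy1, hdy1, hxy⟩ : ∃ x ∈ (S : Subgroup (GL (Fin 2) F)),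
      Matrix.GeneralLinearGroup.det x = 1 ∧ ∃ y ∈ (S : Subgroup (GL (Fin 2) F)),
      Matrix.GeneralLinearGroup.det y = 1 ∧ (x : Matrix (Fin 2) (Fin 2) F) * y ≠ y * x := by
    haveI : ι.range.Normal := hrange ▸ MonoidHom.normal_ker _
    obtain ⟨R, hR⟩ := H94.exists_sylow_inf_normal S ι.range
    let e : SL(2, F) ≃* ↥ι.range := MonoidHom.ofInjective hι
    obtain ⟨k, hk, ⟨f⟩⟩ := H6.sylow_two_sl2 (F := F) rfl h2
      (R.mapSurjective (f := e.symm.toMonoidHom) (fun y => e.symm.surjective y))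
    have key : ∀ q : QuaternionGroup (2 ^ k), ι (f.symm q : SL(2, F)) ∈
        (S : Subgroup (GL (Fin 2) F)) ∧ Matrix.GeneralLinearGroup.det (ι (f.symm q : SL(2, F))) = 1 := by
      intro q
      obtain ⟨r, hr, hre⟩ := (f.symm q).2
      rw [hR] at hr
      have : ι (f.symm q : SL(2, F)) = (r : GL (Fin 2) F) := by
        rw [← hre]; exact congrArg Subtype.val (e.apply_symm_apply r)
      rw [this]
      exact ⟨hr.1, by
        exact memι.1 r.2⟩
    refine ⟨_, (key (QuaternionGroup.a 1)).1, (key _).2, _, (key (QuaternionGroup.xa 0)).1,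
      (key _).2, fun h => ?_⟩
    have h' : ι (f.symm (QuaternionGroup.a 1) * f.symm (QuaternionGroup.xa 0) :) =
        ι (f.symm (QuaternionGroup.xa 0) * f.symm (QuaternionGroup.a 1) :) := by
      rw [Subgroup.coe_mul, Subgroup.coe_mul, map_mul, map_mul]
      exact Units.ext h
    have h'' := Subtype.ext (hι h')
    rw [← map_mul, ← map_mul] at h''
    have h3 := f.symm.injective h''
    rw [QuaternionGroup.a_mul_xa, QuaternionGroup.xa_mul_a, QuaternionGroup.xa.injEq,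
      zero_add, zero_sub, neg_eq_iff_add_eq_zero] at h3
    have h4 : ((2 : ℕ) : ZMod (2 * 2 ^ k)) = 0 := by
      rw [← h3]; norm_num
    rw [ZMod.natCast_eq_zero_iff] at h4
    have h5 := Nat.le_of_dvd two_pos h4
    have := Nat.one_lt_two_pow (show k ≠ 0 by omega)
    omega
  have hmemP : ∀ v : ↥(pairs F), v ∈ (T : Subgroup ↥(pairs F)) → phi F v ∈ (P : Subgroup ↥(G2 F)) :=
    fun v hv => hP ⟨v, hv, rfl⟩
  -- the Sylow subgroup centralises `t`
  obtain ⟨⟨z, hzP⟩, hzc, hz1⟩ : ∃ z : ↥(P : Subgroup ↥(G2 F)),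
      z ∈ Subgroup.center ↥(P : Subgroup ↥(G2 F)) ∧ z ≠ 1 := by
    have htne : t ≠ 1 := by
      intro h
      have h1 := (phi_ker h).1
      have h' := congrArg (fun g : GL (Fin 2) F => (g : Matrix (Fin 2) (Fin 2) F) 0 0) h1
      simp [negPair] at h'
      exact h2 (by linear_combination h')
    haveI : Nontrivial ↥(P : Subgroup ↥(G2 F)) := ⟨⟨⟨t, hmemP _ htT⟩, 1, fun h => htne
      (congrArg Subtype.val h)⟩⟩
    obtain ⟨z, hz⟩ := (Subgroup.nontrivial_iff_exists_ne_one _).1 P.isPGroup'.center_nontrivial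
    exact ⟨z, hz⟩
  have hcomm : ∀ g ∈ (P : Subgroup ↥(G2 F)), Commute z g := fun g hg =>
    (congrArg Subtype.val (Subgroup.mem_center_iff.1 hzc ⟨g, hg⟩)).symm
  obtain ⟨⟨⟨p, q⟩, hpq⟩, hv⟩ := exists_phi_eq h2 z (hcomm t (hmemP _ htT))
  have hzt : z = t := by
    have hc : ∀ (x y : GL (Fin 2) F) (hxy : (x, y) ∈ pairs F), x ∈ (S : Subgroup (GL (Fin 2) F)) →
        y ∈ (S : Subgroup (GL (Fin 2) F)) →
        p * x * p⁻¹ * x⁻¹ = q * y * q⁻¹ * y⁻¹ := by
      intro x y hxy hx hy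
      have h1 : phi F (⟨(p, q), hpq⟩ * ⟨(x, y), hxy⟩ * ⟨(p, q), hpq⟩⁻¹ * ⟨(x, y), hxy⟩⁻¹) = 1 := by
        rw [map_mul, map_mul, map_mul, map_inv, map_inv, hv,
          (hcomm _ (hmemP ⟨(x, y), hxy⟩ ((memT _).2 ⟨hx, hy⟩))).eq, mul_inv_cancel_right,
          mul_inv_cancel]
      exact (phi_ker h1).1
    have hcp : ∀ x ∈ (S : Subgroup (GL (Fin 2) F)), Matrix.GeneralLinearGroup.det x = 1 →
        Commute p x ∧ Commute q x := by
      intro x hx hdx
      have e1 := hc x 1 (by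
        show Matrix.GeneralLinearGroup.det x = Matrix.GeneralLinearGroup.det 1
        rw [hdx, map_one]) hx (one_mem _)
      have e2 := hc 1 x (by
        show Matrix.GeneralLinearGroup.det 1 = Matrix.GeneralLinearGroup.det x
        rw [hdx, map_one]) (one_mem _) hx
      simp only [mul_one, mul_inv_cancel, inv_one] at e1 e2
      exact ⟨commutatorElement_eq_one_iff_commute.1 e1,
        commutatorElement_eq_one_iff_commute.1 e2.symm⟩
    have hcen : ∀ r : GL (Fin 2) F, Commute r x1 → Commute r y1 →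
        ∀ M, Commute (r : Matrix (Fin 2) (Fin 2) F) M := fun r ha hb =>
      commute_all_of_commute_pair (congrArg Units.val ha.eq) (congrArg Units.val hb.eq) hxy
    have hpM := hcen p (hcp x1 hx1 hdx1).1 (hcp y1 hy1 hdy1).1
    have hqM := hcen q (hcp x1 hx1 hdx1).2 (hcp y1 hy1 hdy1).2
    -- `p` and `q` are scalars of equal square
    obtain ⟨c, hc⟩ : ∃ c : F, (p : Matrix (Fin 2) (Fin 2) F) = c • 1 :=
      ⟨_, H93.G2Quat.eq_smul_one hpM⟩
    obtain ⟨d, hd⟩ : ∃ d : F, (q : Matrix (Fin 2) (Fin 2) F) = d • 1 :=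
      ⟨_, H93.G2Quat.eq_smul_one hqM⟩
    have hcd : c * c = d * d := by
      have h := mem_pairs.1 hpq
      rw [hc, hd] at h
      simpa [Matrix.det_smul, sq] using h
    rcases mul_self_eq_mul_self_iff.1 hcd with h | h
    · exfalso
      refine hz1 (Subtype.ext ?_)
      show z = 1
      rw [← hv]
      exact phi_eq_one (Units.ext (by rw [hc, hd, h])) hpM
    · rw [← hv]
      have h1 : phi F (⟨(p, q), hpq⟩ * negPair F) = 1 := by
        refine phi_eq_one (Units.ext ?_) fun M => ?_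
        · simp [negPair, hc, hd, h]
        · simpa [negPair] using hpM M
      rw [map_mul] at h1
      rw [eq_inv_of_mul_eq_one_left h1]
      refine inv_eq_of_mul_eq_one_right ?_
      rw [← map_mul]
      refine phi_eq_one (Units.ext ?_) fun M => ?_ <;> simp [negPair]
  subst hzt
  have hPle : (P : Subgroup ↥(G2 F)) ≤ P0 := by
    intro g hg
    have hle : (P : Subgroup ↥(G2 F)) ≤ (phi F).range := fun g hg =>
      exists_phi_eq h2 g (hcomm g hg).symm
    obtain ⟨v, rfl⟩ := hle hg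
    let T' : Sylow 2 ↥(phi F).range := T.mapSurjective (f := (phi F).rangeRestrict)
      (phi F).rangeRestrict_surjective
    have h1 : IsPGroup 2 ↥((P : Subgroup ↥(G2 F)).subgroupOf (phi F).range) :=
      P.isPGroup'.comap_subtype
    have h2' := T'.is_maximal' h1 (by
      rintro _ ⟨u, hu, rfl⟩
      exact hmemP u hu)
    have h3 : (phi F).rangeRestrict v ∈ (T' : Subgroup ↥(phi F).range) := by
      rw [← h2']; exact hg
    obtain ⟨u, hu, hue⟩ := h3
    exact ⟨u, hu, congrArg Subtype.val hue⟩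
  -- squares
  set N := ⁅(P : Subgroup ↥(G2 F)), (P : Subgroup ↥(G2 F))⁆ with hN
  refine ⟨P, fun g hg => ?_⟩
  obtain ⟨v, hv', rfl⟩ := hPle hg
  let θ : ↥(T : Subgroup ↥(pairs F)) →* Abelianization ↥(P : Subgroup ↥(G2 F)) :=
    Abelianization.of.comp (((phi F).comp (T : Subgroup ↥(pairs F)).subtype).codRestrict _
      fun u => hmemP u u.2)
  have hθ : ∀ u : ↥(T : Subgroup ↥(pairs F)), phi F u ^ 2 ∈ N → θ u ^ 2 = 1 := by
    intro u hu
    rw [← map_pow]
    refine (QuotientGroup.eq_one_iff _).2 ?_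
    rw [← Subgroup.mem_map_iff_mem (P : Subgroup ↥(G2 F)).subtype_injective,
      Subgroup.map_subtype_commutator]
    simp only [map_pow]
    exact hu
  let L : (x y : GL (Fin 2) F) → (hxy : (x, y) ∈ pairs F) → x ∈ (S : Subgroup (GL (Fin 2) F)) →
      y ∈ (S : Subgroup (GL (Fin 2) F)) → ↥(T : Subgroup ↥(pairs F)) :=
    fun x y hxy hx hy => ⟨⟨(x, y), hxy⟩, (memT _).2 ⟨hx, hy⟩⟩
  have hembed : ∀ (j : ↥ι.range →* ↥(pairs F)),
      (∀ x : ↥ι.range, (x : GL (Fin 2) F) ∈ (S : Subgroup (GL (Fin 2) F)) →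
        j x ∈ (T : Subgroup ↥(pairs F))) →
      ∀ x : ↥ι.range, (x : GL (Fin 2) F) ∈ (S : Subgroup (GL (Fin 2) F)) →
        phi F (j x) ^ 2 ∈ N := by
    intro j hj x hx
    have hdx : Matrix.GeneralLinearGroup.det (x : GL (Fin 2) F) = 1 := by
      exact memι.1 x.2
    have h := (hQ x hx hdx).1
    set Q := ((S : Subgroup (GL (Fin 2) F)) ⊓ ι.range).subgroupOf ι.range
    have hQm : ((S : Subgroup (GL (Fin 2) F)) ⊓ ι.range) = Q.map ι.range.subtype := by
      rw [Subgroup.subgroupOf_map_subtype, inf_assoc, inf_idem]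
    rw [hQm, ← Subgroup.map_commutator] at h
    obtain ⟨y, hy, hye⟩ := h
    have hy2 : y = x ^ 2 := Subtype.ext (hye.trans (Subgroup.coe_pow _ _ _).symm)
    subst hy2
    have := Subgroup.mem_map_of_mem ((phi F).comp j) hy
    rw [Subgroup.map_commutator] at this
    rw [← map_pow, ← map_pow]
    refine Subgroup.commutator_mono ?_ ?_ this <;>
    · rintro _ ⟨u, hu, rfl⟩
      exact hmemP _ (hj u hu.1)
  let j1 : ↥ι.range →* ↥(pairs F) :=
    ((MonoidHom.inl (GL (Fin 2) F) (GL (Fin 2) F)).comp ι.range.subtype).codRestrict _ fun x => by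
      show Matrix.GeneralLinearGroup.det (x : GL (Fin 2) F) = Matrix.GeneralLinearGroup.det 1
      rw [map_one]; exact memι.1 x.2
  let j2 : ↥ι.range →* ↥(pairs F) :=
    ((MonoidHom.inr (GL (Fin 2) F) (GL (Fin 2) F)).comp ι.range.subtype).codRestrict _ fun x => by
      show Matrix.GeneralLinearGroup.det 1 = Matrix.GeneralLinearGroup.det (x : GL (Fin 2) F)
      rw [map_one]; exact (memι.1 x.2).symm
  have haa : phi F ⟨(a, a), mem_pairs.2 rfl⟩ ^ 2 ∈ N := by
    have hwT : (⟨(w, w), mem_pairs.2 rfl⟩ : ↥(pairs F)) ∈ (T : Subgroup ↥(pairs F)) :=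
      (memT _).2 ⟨hwS, hwS⟩
    have haT : (⟨(a, a), mem_pairs.2 rfl⟩ : ↥(pairs F)) ∈ (T : Subgroup ↥(pairs F)) :=
      (memT _).2 ⟨haS, haS⟩
    set ww : ↥(pairs F) := ⟨(w, w), mem_pairs.2 rfl⟩
    set aa : ↥(pairs F) := ⟨(a, a), mem_pairs.2 rfl⟩
    have hcm := Subgroup.commutator_mem_commutator (hmemP _ hwT) (hmemP _ haT)
    rw [← map_commutatorElement, ← hN] at hcm
    have hone : phi F (⁅ww, aa⁆ * aa ^ 2) = 1 := by
      have e : w * a * w⁻¹ * a⁻¹ * a ^ 2 = dia (ω, ω) := by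
        rw [ha, hconj, ← map_inv, ← map_pow, ← map_mul, ← map_mul]
        congr 1
        refine Prod.ext ?_ ?_ <;> simp [sq]
      refine phi_eq_one ?_ fun M => ?_
      · rfl
      · show Commute ((w * a * w⁻¹ * a⁻¹ * a ^ 2 : GL (Fin 2) F) : Matrix (Fin 2) (Fin 2) F) M
        have e2 : Matrix.diagonal ![((ω, ω) : Fˣ × Fˣ).1.val, ((ω, ω) : Fˣ × Fˣ).2.val] =
            (ω : F) • (1 : Matrix (Fin 2) (Fin 2) F) := by
          ext i j
          fin_cases i <;> fin_cases j <;> simp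
        rw [e, hdia, e2]
        exact (Commute.one_left M).smul_left _
    rw [map_mul, map_pow] at hone
    rw [eq_inv_of_mul_eq_one_right hone]
    exact Subgroup.inv_mem _ hcm
  -- decomposition
  obtain ⟨⟨x, y⟩, hxy'⟩ := v
  obtain ⟨hx, hy⟩ := (memT _).1 hv'
  obtain ⟨m, hm⟩ := S.isPGroup' ⟨x, hx⟩
  obtain ⟨i, hi⟩ := hωgen (Matrix.GeneralLinearGroup.det x) ⟨m, by
    rw [← map_pow, show x ^ 2 ^ m = 1 from congrArg Subtype.val hm, map_one]⟩
  have hd1 : Matrix.GeneralLinearGroup.det ((a ^ i)⁻¹ * x) = 1 := by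
    rw [map_mul, map_inv, map_zpow, hdeta, show ω ^ i = _ from hi, inv_mul_cancel]
  have hd2 : Matrix.GeneralLinearGroup.det ((a ^ i)⁻¹ * y) = 1 := by
    rw [map_mul, map_inv, map_zpow, hdeta, show ω ^ i = _ from hi,
      ← (show Matrix.GeneralLinearGroup.det x = Matrix.GeneralLinearGroup.det y from hxy'),
      inv_mul_cancel]
  have hxS : (a ^ i)⁻¹ * x ∈ (S : Subgroup (GL (Fin 2) F)) :=
    mul_mem (inv_mem (zpow_mem haS i)) hx
  have hyS : (a ^ i)⁻¹ * y ∈ (S : Subgroup (GL (Fin 2) F)) :=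
    mul_mem (inv_mem (zpow_mem haS i)) hy
  let u1 : ↥(T : Subgroup ↥(pairs F)) := L a a (mem_pairs.2 rfl) haS haS
  let u2 : ↥(T : Subgroup ↥(pairs F)) :=
    ⟨j1 ⟨_, memι.2 hd1⟩, (memT _).2 ⟨hxS, one_mem _⟩⟩
  let u3 : ↥(T : Subgroup ↥(pairs F)) :=
    ⟨j2 ⟨_, memι.2 hd2⟩, (memT _).2 ⟨one_mem _, hyS⟩⟩
  have e1 : (⟨⟨(x, y), hxy'⟩, hv'⟩ : ↥(T : Subgroup ↥(pairs F))) = u1 ^ i * u2 * u3 := by
    refine Subtype.ext (Subtype.ext ?_)
    show (x, y) = (a, a) ^ i * ((a ^ i)⁻¹ * x, 1) * (1, (a ^ i)⁻¹ * y)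
    refine Prod.ext ?_ ?_ <;> simp
  have h1 := hθ u1 haa
  have h2' := hθ u2 (hembed j1 (fun z hz => (memT _).2 ⟨hz, one_mem _⟩) _ hxS)
  have h3 := hθ u3 (hembed j2 (fun z hz => (memT _).2 ⟨one_mem _, hz⟩) _ hyS)
  have h4 : θ ⟨⟨(x, y), hxy'⟩, hv'⟩ ^ 2 = 1 := by
    rw [e1, map_mul, map_mul, map_zpow, mul_pow, mul_pow, h2', h3, mul_one, mul_one,
      ← zpow_natCast, ← _root_.zpow_mul, mul_comm, _root_.zpow_mul, zpow_natCast, h1, _root_.one_zpow]
  rw [← map_pow] at h4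
  have h5 := Subgroup.mem_map_of_mem (P : Subgroup ↥(G2 F)).subtype
    ((QuotientGroup.eq_one_iff _).1 h4)
  rw [Subgroup.map_subtype_commutator] at h5
  simp only [map_pow] at h5
  exact h5

end Cfsg.Agent.H93.G2Quat
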