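import Cfsg.Agent.H93.G2Involutions
import Cfsg.Agent.H93.G2SylowTwo

/-!
One class of involutions and the centraliser of an involution in G₂ of odd characteristic.
-/

set_option autoImplicit false

namespace Cfsg.Agent.H93.G2Inv

open Cfsg.Lie Cfsg.Agent.H93.G2Quat Cfsg.Agent.H93.G2Bridge Cfsg.Agent.H47 Cfsg.Agent.H46
open scoped Matrix

variable {F : Type*} [Field F]

/-- The matrix with square `c`. -/
def jMat (c : Fˣ) : GL (Fin 2) F :=
  ⟨!![0, (c : F); 1, 0], !![0, 1; (↑c⁻¹ : F), 0],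
    by ext i j; fin_cases i <;> fin_cases j <;> simp,
    by ext i j; fin_cases i <;> fin_cases j <;> simp⟩

/-- The pair of that matrix with itself. -/
def jPair (c : Fˣ) : ↥(pairs F) := ⟨(jMat c, jMat c), mem_pairs.2 rfl⟩

theorem exists_conj_jMat [Fintype F] (hF : Odd (Fintype.card F)) {p : GL (Fin 2) F} {c : Fˣ}
    (hp : (p : Matrix (Fin 2) (Fin 2) F) * p = (c : F) • 1)
    (hns : ¬ ((p : Matrix (Fin 2) (Fin 2) F) 0 1 = 0 ∧ (p : Matrix (Fin 2) (Fin 2) F) 1 0 = 0 ∧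
      (p : Matrix (Fin 2) (Fin 2) F) 0 0 = (p : Matrix (Fin 2) (Fin 2) F) 1 1)) :
    ∃ g : GL (Fin 2) F, Matrix.GeneralLinearGroup.det g = 1 ∧ g * jMat c * g⁻¹ = p := by
  set P := (p : Matrix (Fin 2) (Fin 2) F) with hP
  obtain ⟨v0, v1, hv⟩ : ∃ v0 v1 : F, v0 * (P 1 0 * v0 + P 1 1 * v1) - (P 0 0 * v0 + P 0 1 * v1) * v1 ≠ 0 := by
    by_cases h10 : P 1 0 = 0
    · by_cases h01 : P 0 1 = 0
      · refine ⟨1, 1, ?_⟩
        simp only [h10, h01]
        ring_nf
        intro h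
        exact hns ⟨h01, h10, by linear_combination -h⟩
      · exact ⟨0, 1, by simpa using h01⟩
    · exact ⟨1, 0, by simpa using h10⟩
  set G0 : Matrix (Fin 2) (Fin 2) F := !![v0, P 0 0 * v0 + P 0 1 * v1; v1, P 1 0 * v0 + P 1 1 * v1]
  have hd0 : G0.det ≠ 0 := by rw [Matrix.det_fin_two]; simpa [G0] using hv
  obtain ⟨a, b, hab⟩ := FiniteField.exists_root_sum_quadratic (R := F)
    (f := Polynomial.X ^ 2 - Polynomial.C (G0.det)⁻¹)
    (g := Polynomial.C (-(c : F)) * Polynomial.X ^ 2)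
    (by rw [Polynomial.degree_X_pow_sub_C (by norm_num)]; rfl)
    (by rw [Polynomial.degree_C_mul_X_pow _ (neg_ne_zero.2 c.ne_zero)]; rfl)
    (Nat.odd_iff.1 hF)
  simp only [Polynomial.eval_sub, Polynomial.eval_pow, Polynomial.eval_X, Polynomial.eval_C,
    Polynomial.eval_mul] at hab
  set K : Matrix (Fin 2) (Fin 2) F := !![a, (c : F) * b; b, a]
  have hK : K.det = (G0.det)⁻¹ := by
    rw [Matrix.det_fin_two]; simp [K]; linear_combination hab
  have hdet : (G0 * K).det = 1 := by rw [Matrix.det_mul, hK, mul_inv_cancel₀ hd0]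
  let g : GL (Fin 2) F := Matrix.SpecialLinearGroup.toGL ⟨G0 * K, hdet⟩
  refine ⟨g, Units.ext hdet, mul_inv_eq_iff_eq_mul.2 (Units.ext ?_)⟩
  show G0 * K * !![0, (c : F); 1, 0] = P * (G0 * K)
  have e := fun i j => congrFun (congrFun hp i) j
  have e00 := e 0 0
  have e01 := e 0 1
  have e10 := e 1 0
  have e11 := e 1 1
  simp [Matrix.mul_apply, Fin.sum_univ_two] at e00 e01 e10 e11
  ext i j
  fin_cases i <;> fin_cases j <;> simp [G0, K, Matrix.mul_apply, Fin.sum_univ_two]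
  · linear_combination (-(b * v0)) * e00 + (-(b * v1)) * e01
  · linear_combination (-(a * v0)) * e00 + (-(a * v1)) * e01
  · linear_combination (-(b * v0)) * e10 + (-(b * v1)) * e11
  · linear_combination (-(a * v0)) * e10 + (-(a * v1)) * e11

/-- Pairs of nonscalar matrices with the same scalar square are conjugate to the standard pair. -/
theorem isConj_jPair [Fintype F] (hF : Odd (Fintype.card F)) {w : ↥(pairs F)} {c : Fˣ}
    (hp : ((w : GL (Fin 2) F × GL (Fin 2) F).1 : Matrix (Fin 2) (Fin 2) F) *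
      ((w : GL (Fin 2) F × GL (Fin 2) F).1 : Matrix (Fin 2) (Fin 2) F) = (c : F) • 1)
    (hq : ((w : GL (Fin 2) F × GL (Fin 2) F).2 : Matrix (Fin 2) (Fin 2) F) *
      ((w : GL (Fin 2) F × GL (Fin 2) F).2 : Matrix (Fin 2) (Fin 2) F) = (c : F) • 1)
    (hnp : ¬ (((w : GL (Fin 2) F × GL (Fin 2) F).1 : Matrix (Fin 2) (Fin 2) F) 0 1 = 0 ∧
      ((w : GL (Fin 2) F × GL (Fin 2) F).1 : Matrix (Fin 2) (Fin 2) F) 1 0 = 0 ∧
      ((w : GL (Fin 2) F × GL (Fin 2) F).1 : Matrix (Fin 2) (Fin 2) F) 0 0 =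
        ((w : GL (Fin 2) F × GL (Fin 2) F).1 : Matrix (Fin 2) (Fin 2) F) 1 1))
    (hnq : ¬ (((w : GL (Fin 2) F × GL (Fin 2) F).2 : Matrix (Fin 2) (Fin 2) F) 0 1 = 0 ∧
      ((w : GL (Fin 2) F × GL (Fin 2) F).2 : Matrix (Fin 2) (Fin 2) F) 1 0 = 0 ∧
      ((w : GL (Fin 2) F × GL (Fin 2) F).2 : Matrix (Fin 2) (Fin 2) F) 0 0 =
        ((w : GL (Fin 2) F × GL (Fin 2) F).2 : Matrix (Fin 2) (Fin 2) F) 1 1)) :
    IsConj (jPair c) w := by
  obtain ⟨g, hgd, hg⟩ := exists_conj_jMat hF hp hnp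
  obtain ⟨h, hhd, hh⟩ := exists_conj_jMat hF hq hnq
  refine isConj_iff.2 ⟨⟨(g, h), ?_⟩, Subtype.ext (Prod.ext hg hh)⟩
  exact mem_pairs.2 (by
    have e1 := congrArg Units.val hgd
    have e2 := congrArg Units.val hhd
    simpa using e1.trans e2.symm)

/-- The pair to which every involution is moved by one Weyl element. -/
def vPair (c : Fˣ) : ↥(pairs F) :=
  ⟨(⟨!![0, -1; 1, 0], !![0, 1; -1, 0],
      by ext i j; fin_cases i <;> fin_cases j <;> simp,
      by ext i j; fin_cases i <;> fin_cases j <;> simp⟩,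
    ⟨!![0, (c : F); -(↑c⁻¹ : F), 0], !![0, -(c : F); (↑c⁻¹ : F), 0],
      by ext i j; fin_cases i <;> fin_cases j <;> simp,
      by ext i j; fin_cases i <;> fin_cases j <;> simp⟩),
   mem_pairs.2 (by simp [Matrix.det_fin_two])⟩

/-- The diagonal pair. -/
def sPair (F : Type*) [Field F] : ↥(pairs F) :=
  ⟨(⟨!![1, 0; 0, -1], !![1, 0; 0, -1],
      by ext i j; fin_cases i <;> fin_cases j <;> simp,
      by ext i j; fin_cases i <;> fin_cases j <;> simp⟩,
    ⟨!![1, 0; 0, -1], !![1, 0; 0, -1],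
      by ext i j; fin_cases i <;> fin_cases j <;> simp,
      by ext i j; fin_cases i <;> fin_cases j <;> simp⟩), mem_pairs.2 rfl⟩

set_option maxHeartbeats 2000000 in
theorem nTau_t : nTau F 6 5 1 * phi F (negPair F) = phi F (sPair F) * nTau F 6 5 1 := by
  refine act_ext fun x => ?_
  simp only [nTau, act_mul, act_phi, act_tau (by norm_num : 6 < 12), act_tau (by norm_num : 5 < 12)]
  ext i
  simp only [xZ, hM, xM, mulVec_eval _ _ _ _ (xS_lt 6 (by norm_num)), mulVec_eval _ _ _ _ (xS_lt 5 (by norm_num))]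
  fin_cases i <;>
    simp [mk, hM, xM, sPair, negPair, xS, aS, bS, aTab, bTab, SPoly.one, SPoly.shift_eq, List.range_succ,
      Fin.ofNat] <;> ring

set_option maxHeartbeats 2000000 in
theorem nTau_j (c : Fˣ) : phi F (jPair c) * nTau F 6 5 1 = nTau F 6 5 1 * phi F (vPair c) := by
  refine act_ext fun x => ?_
  simp only [nTau, act_mul, act_phi, act_tau (by norm_num : 6 < 12), act_tau (by norm_num : 5 < 12)]
  ext i
  simp only [xZ, hM, xM, mulVec_eval _ _ _ _ (xS_lt 6 (by norm_num)), mulVec_eval _ _ _ _ (xS_lt 5 (by norm_num))]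
  have hc : (c : F) ≠ 0 := c.ne_zero
  fin_cases i <;>
    simp [mk, hM, xM, jPair, jMat, vPair, xS, aS, bS, aTab, bTab, SPoly.one, SPoly.shift_eq, List.range_succ,
      Fin.ofNat] <;> field_simp <;> ring

theorem scalar_of_ker {w : ↥(pairs F)} (h : phi F w = 1) :
    ((w : GL (Fin 2) F × GL (Fin 2) F).1 = (w : GL (Fin 2) F × GL (Fin 2) F).2) ∧
      ∃ c : Fˣ, ((w : GL (Fin 2) F × GL (Fin 2) F).1 : Matrix (Fin 2) (Fin 2) F) = (c : F) • 1 := by
  obtain ⟨h1, h2⟩ := phi_ker h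
  have e := eq_smul_one h2
  refine ⟨h1, Units.mk0 (((w : GL (Fin 2) F × GL (Fin 2) F).1 : Matrix (Fin 2) (Fin 2) F) 0 0) ?_, e⟩
  intro h0
  have hu := Units.mul_inv (w : GL (Fin 2) F × GL (Fin 2) F).1
  rw [e, h0, zero_smul, zero_mul] at hu
  exact zero_ne_one hu

variable [Fintype F] {Γ : Type*} [Group Γ]

/-- In a group lying between the root elements and `G₂(F)`, an involution of the pairs is conjugate
to `(1, -1)`. -/
theorem isConj_negPair (hF : Odd (Fintype.card F)) {ψ : Γ →* ↥(G2 F)} (hψ : Function.Injective ψ)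
    (hτ : ∀ r < 12, ∀ t : F, ∃ g, ψ g = tau F r t) {χ : ↥(pairs F) →* Γ} (hχ : ∀ w, ψ (χ w) = phi F w)
    {w : ↥(pairs F)} (hw : χ w * χ w = 1) (hw1 : χ w ≠ 1) : IsConj (χ (negPair F)) (χ w) := by
  have h2 : (2 : F) ≠ 0 := H6.two_ne_of_odd rfl hF
  obtain ⟨σ, hσ⟩ : ∃ σ, ψ σ = nTau F 6 5 1 := by
    obtain ⟨a, ha⟩ := hτ 6 (by norm_num) (1 : F)
    obtain ⟨b, hb⟩ := hτ 5 (by norm_num) (-(1 : F)⁻¹)
    exact ⟨a * b * a, by rw [map_mul, map_mul, ha, hb]; rfl⟩
  have hσt : σ * χ (negPair F) * σ⁻¹ = χ (sPair F) := by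
    rw [mul_inv_eq_iff_eq_mul]
    apply hψ
    rw [map_mul, map_mul, hσ, hχ, hχ, nTau_t]
  have hσj : ∀ c : Fˣ, σ * χ (vPair c) * σ⁻¹ = χ (jPair c) := fun c => by
    rw [mul_inv_eq_iff_eq_mul]
    apply hψ
    rw [map_mul, map_mul, hσ, hχ, hχ, nTau_j]
  have hv : ∀ c : Fˣ, IsConj (χ (jPair c)) (χ (jPair (-1 : Fˣ))) := fun c => by
    refine (IsConj.symm (isConj_iff.2 ⟨σ, hσj c⟩)).trans ?_
    refine (IsConj.symm ?_)
    refine χ.map_isConj (isConj_jPair hF ?_ ?_ ?_ ?_)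
    · ext i j; fin_cases i <;> fin_cases j <;> simp [vPair]
    · ext i j; fin_cases i <;> fin_cases j <;> simp [vPair, c.ne_zero]
    · simp [vPair]
    · simp [vPair, c.ne_zero]
  have hs : IsConj (χ (negPair F)) (χ (jPair (-1 : Fˣ))) := by
    refine (isConj_iff.2 ⟨σ, hσt⟩).trans ?_
    refine (IsConj.symm (χ.map_isConj (isConj_jPair hF (c := 1) ?_ ?_ ?_ ?_))).trans (hv 1)
    · ext i j; fin_cases i <;> fin_cases j <;> simp [sPair]
    · ext i j; fin_cases i <;> fin_cases j <;> simp [sPair]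
    all_goals
      simp only [sPair]
      rintro ⟨-, -, h⟩
      simp at h
      exact h2 (by linear_combination h)
  have hk : phi F (w * w) = 1 := by rw [← hχ, map_mul, hw, map_one]
  obtain ⟨heq, c, hc⟩ := scalar_of_ker hk
  set p := (w : GL (Fin 2) F × GL (Fin 2) F).1 with hpdef
  set q := (w : GL (Fin 2) F × GL (Fin 2) F).2 with hqdef
  set P := (p : Matrix (Fin 2) (Fin 2) F) with hPdef
  set Q := (q : Matrix (Fin 2) (Fin 2) F) with hQdef
  have hp : P * P = (c : F) • 1 := hc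
  have hq : Q * Q = (c : F) • 1 := by
    have : p * p = q * q := heq
    rw [hQdef, ← Units.val_mul, ← this]
    exact hc
  have hdet : P.det = Q.det := mem_pairs.1 w.2
  have scal : ∀ {X : Matrix (Fin 2) (Fin 2) F}, X * X = (c : F) • 1 →
      ¬ (X 0 1 = 0 ∧ X 1 0 = 0 ∧ X 0 0 = X 1 1) → X.det = -(c : F) := by
    intro X hX hn
    have e := fun i j => congrFun (congrFun hX i) j
    have e00 := e 0 0
    have e01 := e 0 1
    have e10 := e 1 0
    have e11 := e 1 1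
    simp [Matrix.mul_apply, Fin.sum_univ_two] at e00 e01 e10 e11
    have htr : X 0 0 + X 1 1 = 0 := by
      by_contra htr
      refine hn ⟨?_, ?_, ?_⟩
      · exact (mul_eq_zero.1 (by linear_combination e01 : (X 0 0 + X 1 1) * X 0 1 = 0)).resolve_left htr
      · exact (mul_eq_zero.1 (by linear_combination e10 : (X 0 0 + X 1 1) * X 1 0 = 0)).resolve_left htr
      · exact sub_eq_zero.1 ((mul_eq_zero.1
          (by linear_combination e00 - e11 : (X 0 0 + X 1 1) * (X 0 0 - X 1 1) = 0)).resolve_left htr)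
    rw [Matrix.det_fin_two]
    linear_combination (X 0 0) * htr - e00
  have sdet : ∀ {X : Matrix (Fin 2) (Fin 2) F}, X * X = (c : F) • 1 →
      (X 0 1 = 0 ∧ X 1 0 = 0 ∧ X 0 0 = X 1 1) → X.det = (c : F) ∧ X = X 0 0 • 1 := by
    rintro X hX ⟨a, b, d⟩
    have e00 := congrFun (congrFun hX 0) 0
    simp [Matrix.mul_apply, Fin.sum_univ_two, a, b] at e00
    refine ⟨by rw [Matrix.det_fin_two, a, b, ← d, e00]; ring, ?_⟩
    ext i j; fin_cases i <;> fin_cases j <;> simp [a, b, d]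
  have hcne : (c : F) ≠ -(c : F) := fun h => c.ne_zero
    ((mul_eq_zero.1 (by linear_combination h : (2 : F) * (c : F) = 0)).resolve_left h2)
  by_cases hP : P 0 1 = 0 ∧ P 1 0 = 0 ∧ P 0 0 = P 1 1
  · obtain ⟨hPd, hPs⟩ := sdet hp hP
    by_cases hQ : Q 0 1 = 0 ∧ Q 1 0 = 0 ∧ Q 0 0 = Q 1 1
    · obtain ⟨-, hQs⟩ := sdet hq hQ
      have e1 := congrFun (congrFun hp 0) 0
      have e2 := congrFun (congrFun hq 0) 0
      simp [Matrix.mul_apply, Fin.sum_univ_two, hP.1, hQ.1] at e1 e2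
      have hcomm : ∀ M, Commute P M := fun M => by rw [hPs]; exact (Commute.one_left M).smul_left _
      rcases mul_self_eq_mul_self_iff.1 (e2.trans e1.symm) with h | h
      · exfalso
        refine hw1 (hψ ?_)
        rw [hχ, map_one]
        refine phi_eq_one (Units.ext ?_) hcomm
        show P = Q
        rw [hPs, hQs, h]
      · have : phi F w = phi F (negPair F) := by
          have hm : phi F (w * (negPair F)⁻¹) = 1 := by
            refine phi_eq_one (Units.ext ?_) ?_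
            · show P * ((1 : GL (Fin 2) F)⁻¹ : GL (Fin 2) F).1 = Q * ((-1 : GL (Fin 2) F)⁻¹ : GL (Fin 2) F).1
              rw [hPs, hQs, h]; simp [inv_neg]
            · intro M
              simpa [negPair] using hcomm M
          rwa [map_mul, map_inv, mul_inv_eq_one] at hm
        have h' : χ w = χ (negPair F) := hψ (by rw [hχ, hχ, this])
        rw [h']
    · exact absurd (hPd.symm.trans (hdet.trans (scal hq hQ))) hcne
  · by_cases hQ : Q 0 1 = 0 ∧ Q 1 0 = 0 ∧ Q 0 0 = Q 1 1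
    · exact absurd ((scal hp hP).symm.trans (hdet.trans (sdet hq hQ).1)) hcne.symm
    · exact hs.trans ((IsConj.symm (hv c)).trans (χ.map_isConj (isConj_jPair hF hp hq hP hQ)))

end Cfsg.Agent.H93.G2Inv
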