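import Cfsg.Agent.H93.G2Bridge
import Cfsg.Agent.H46.SL2Hom
import Cfsg.Agent.H46.Order

/-!
Involutions of the Chevalley group of type G₂ in odd characteristic: one class, and the centraliser.
-/

set_option autoImplicit false

namespace Cfsg.Agent.H93.G2Inv

open Cfsg.Lie Cfsg.Agent.H93.G2Quat Cfsg.Agent.H93.G2Bridge Cfsg.Agent.H47 Cfsg.Agent.H46
open scoped Matrix

variable {F : Type*} [Field F]

/-- The two special linear groups inside the pairs. -/
def slPair (F : Type*) [Field F] :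
    Matrix.SpecialLinearGroup (Fin 2) F × Matrix.SpecialLinearGroup (Fin 2) F →* ↥(pairs F) :=
  (MonoidHom.prodMap Matrix.SpecialLinearGroup.toGL Matrix.SpecialLinearGroup.toGL).codRestrict (pairs F)
    fun x => mem_pairs.2 (by simp [MonoidHom.prodMap])

theorem slPair_fst (x : Matrix.SpecialLinearGroup (Fin 2) F × Matrix.SpecialLinearGroup (Fin 2) F) :
    ((slPair F x : GL (Fin 2) F × GL (Fin 2) F).1 : Matrix (Fin 2) (Fin 2) F) = x.1.1 := rfl

theorem slPair_snd (x : Matrix.SpecialLinearGroup (Fin 2) F × Matrix.SpecialLinearGroup (Fin 2) F) :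
    ((slPair F x : GL (Fin 2) F × GL (Fin 2) F).2 : Matrix (Fin 2) (Fin 2) F) = x.2.1 := rfl

theorem slPair_fst_inv (x : Matrix.SpecialLinearGroup (Fin 2) F × Matrix.SpecialLinearGroup (Fin 2) F) :
    ((((slPair F x : GL (Fin 2) F × GL (Fin 2) F).1)⁻¹ : GL (Fin 2) F) : Matrix (Fin 2) (Fin 2) F) =
      x.1.1.adjugate := by
  refine Units.inv_eq_of_mul_eq_one_right ?_
  rw [slPair_fst, Matrix.mul_adjugate, x.1.2, one_smul]

theorem slPair_snd_inv (x : Matrix.SpecialLinearGroup (Fin 2) F × Matrix.SpecialLinearGroup (Fin 2) F) :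
    ((((slPair F x : GL (Fin 2) F × GL (Fin 2) F).2)⁻¹ : GL (Fin 2) F) : Matrix (Fin 2) (Fin 2) F) =
      x.2.1.adjugate := by
  refine Units.inv_eq_of_mul_eq_one_right ?_
  rw [slPair_snd, Matrix.mul_adjugate, x.2.2, one_smul]

theorem phi_slX_fst (t : F) : phi F (slPair F (slX t, 1)) = tau F 4 t := by
  refine act_ext fun x => ?_
  rw [act_phi, slPair_fst, slPair_fst_inv, slPair_snd_inv, act_tau (by norm_num)]
  ext i
  simp only [xZ, mulVec_eval _ _ _ _ (xS_lt 4 (by norm_num))]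
  fin_cases i <;>
    simp [mk, hM, xM, coe_slX, Matrix.adjugate_fin_two, xS, aS, bS, aTab, bTab, SPoly.one, SPoly.shift_eq,
      List.range_succ, Fin.ofNat] <;> ring

theorem phi_slY_fst (t : F) : phi F (slPair F (slY t, 1)) = tau F 7 t := by
  refine act_ext fun x => ?_
  rw [act_phi, slPair_fst, slPair_fst_inv, slPair_snd_inv, act_tau (by norm_num)]
  ext i
  simp only [xZ, mulVec_eval _ _ _ _ (xS_lt 7 (by norm_num))]
  fin_cases i <;>
    simp [mk, hM, xM, coe_slY, Matrix.adjugate_fin_two, xS, aS, bS, aTab, bTab, SPoly.one, SPoly.shift_eq,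
      List.range_succ, Fin.ofNat] <;> ring

theorem phi_slX_snd (t : F) : phi F (slPair F (1, slX t)) = tau F 0 (-t) := by
  refine act_ext fun x => ?_
  rw [act_phi, slPair_fst, slPair_fst_inv, slPair_snd_inv, act_tau (by norm_num)]
  ext i
  simp only [xZ, mulVec_eval _ _ _ _ (xS_lt 0 (by norm_num))]
  fin_cases i <;>
    simp [mk, hM, xM, coe_slX, Matrix.adjugate_fin_two, xS, aS, bS, aTab, bTab, SPoly.one, SPoly.shift_eq,
      List.range_succ, Fin.ofNat] <;> ring

theorem phi_slY_snd (t : F) : phi F (slPair F (1, slY t)) = tau F 11 (-t) := by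
  refine act_ext fun x => ?_
  rw [act_phi, slPair_fst, slPair_fst_inv, slPair_snd_inv, act_tau (by norm_num)]
  ext i
  simp only [xZ, mulVec_eval _ _ _ _ (xS_lt 11 (by norm_num))]
  fin_cases i <;>
    simp [mk, hM, xM, coe_slY, Matrix.adjugate_fin_two, xS, aS, bS, aTab, bTab, SPoly.one, SPoly.shift_eq,
      List.range_succ, Fin.ofNat] <;> ring

/-- The element `diag(d, 1)` twice. -/
noncomputable def dPair (d : Fˣ) : ↥(pairs F) :=
  ⟨(⟨!![(d : F), 0; 0, 1], !![(↑d⁻¹ : F), 0; 0, 1],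
      by ext i j; fin_cases i <;> fin_cases j <;> simp,
      by ext i j; fin_cases i <;> fin_cases j <;> simp⟩,
    ⟨!![(d : F), 0; 0, 1], !![(↑d⁻¹ : F), 0; 0, 1],
      by ext i j; fin_cases i <;> fin_cases j <;> simp,
      by ext i j; fin_cases i <;> fin_cases j <;> simp⟩), mem_pairs.2 rfl⟩

/-- The monomial element of a root. -/
noncomputable def nTau (F : Type*) [Field F] (r s : ℕ) (c : F) : ↥(G2 F) :=
  tau F r c * tau F s (-c⁻¹) * tau F r c

theorem phi_dPair (d : Fˣ) : phi F (dPair d) = nTau F 10 1 (d : F)⁻¹ * nTau F 10 1 (-1) := by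
  refine act_ext fun x => ?_
  simp only [nTau, act_mul, act_phi, act_tau (by norm_num : 10 < 12), act_tau (by norm_num : 1 < 12)]
  ext i
  simp only [xZ, mulVec_eval _ _ _ _ (xS_lt 10 (by norm_num)), mulVec_eval _ _ _ _ (xS_lt 1 (by norm_num))]
  have hd : (d : F) ≠ 0 := d.ne_zero
  fin_cases i <;>
    simp [mk, hM, xM, dPair, xS, aS, bS, aTab, bTab, SPoly.one, SPoly.shift_eq, List.range_succ, Fin.ofNat] <;>
    field_simp <;> ring

theorem phi_range_le (R : Subgroup ↥(G2 F)) (h : ∀ r < 12, ∀ t : F, tau F r t ∈ R) :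
    (phi F).range ≤ R := by
  have hn : ∀ r s c, r < 12 → s < 12 → nTau F r s c ∈ R := fun r s c hr hs =>
    mul_mem (mul_mem (h r hr _) (h s hs _)) (h r hr _)
  have hW : (slW : Matrix.SpecialLinearGroup (Fin 2) F) = slX 1 * slY (-1) * slX 1 := by
    apply Subtype.ext
    ext i j
    fin_cases i <;> fin_cases j <;> simp [sl_mul_val, coe_slW, coe_slX, coe_slY]
  have h1 : ∀ g, phi F (slPair F (g, 1)) ∈ R := by
    intro g
    refine sl_generated (R.comap (((phi F).comp (slPair F)).comp (MonoidHom.inl _ _))) (fun t => ?_) ?_ g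
    · exact (congrArg (· ∈ R) (phi_slX_fst t)).mpr (h 4 (by norm_num) t)
    · have hX : ∀ t, slX t ∈ R.comap (((phi F).comp (slPair F)).comp (MonoidHom.inl _ _)) :=
        fun t => (congrArg (· ∈ R) (phi_slX_fst t)).mpr (h 4 (by norm_num) t)
      have hY : ∀ t, slY t ∈ R.comap (((phi F).comp (slPair F)).comp (MonoidHom.inl _ _)) :=
        fun t => (congrArg (· ∈ R) (phi_slY_fst t)).mpr (h 7 (by norm_num) t)
      rw [hW]; exact mul_mem (mul_mem (hX _) (hY _)) (hX _)
  have h2 : ∀ g, phi F (slPair F (1, g)) ∈ R := by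
    intro g
    refine sl_generated (R.comap (((phi F).comp (slPair F)).comp (MonoidHom.inr _ _))) (fun t => ?_) ?_ g
    · exact (congrArg (· ∈ R) (phi_slX_snd t)).mpr (h 0 (by norm_num) (-t))
    · have hX : ∀ t, slX t ∈ R.comap (((phi F).comp (slPair F)).comp (MonoidHom.inr _ _)) :=
        fun t => (congrArg (· ∈ R) (phi_slX_snd t)).mpr (h 0 (by norm_num) (-t))
      have hY : ∀ t, slY t ∈ R.comap (((phi F).comp (slPair F)).comp (MonoidHom.inr _ _)) :=
        fun t => (congrArg (· ∈ R) (phi_slY_snd t)).mpr (h 11 (by norm_num) (-t))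
      rw [hW]; exact mul_mem (mul_mem (hX _) (hY _)) (hX _)
  rintro _ ⟨w, rfl⟩
  set d := Matrix.GeneralLinearGroup.det (w : GL (Fin 2) F × GL (Fin 2) F).1
  have hd : phi F (dPair d) ∈ R := by
    rw [phi_dPair]; exact mul_mem (hn _ _ _ (by norm_num) (by norm_num)) (hn _ _ _ (by norm_num) (by norm_num))
  set v := (dPair d)⁻¹ * w
  have hdet : ∀ i : GL (Fin 2) F, Matrix.GeneralLinearGroup.det i = 1 →
      ∃ g : Matrix.SpecialLinearGroup (Fin 2) F, Matrix.SpecialLinearGroup.toGL g = i := fun i hi =>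
    ⟨⟨(i : Matrix (Fin 2) (Fin 2) F), congrArg Units.val hi⟩, Units.ext rfl⟩
  have hDd : Matrix.GeneralLinearGroup.det (dPair d : GL (Fin 2) F × GL (Fin 2) F).1 = d ∧
      Matrix.GeneralLinearGroup.det (dPair d : GL (Fin 2) F × GL (Fin 2) F).2 = d := by
    constructor <;> refine Units.ext ?_ <;> simp [dPair, Matrix.det_fin_two]
  obtain ⟨g, hg⟩ := hdet (v : GL (Fin 2) F × GL (Fin 2) F).1 (by
    simp [v, hDd.1, d])
  obtain ⟨k, hk⟩ := hdet (v : GL (Fin 2) F × GL (Fin 2) F).2 (by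
    have hw : Matrix.GeneralLinearGroup.det (w : GL (Fin 2) F × GL (Fin 2) F).2 = d := w.2.symm
    simp [v, hDd.2, hw])
  have hv : w = dPair d * (slPair F (g, 1) * slPair F (1, k)) := by
    have e : slPair F (g, k) = v := by
      refine Subtype.ext (Prod.ext ?_ ?_)
      · exact hg
      · exact hk
    rw [← map_mul, Prod.mk_mul_mk, mul_one, one_mul, e, mul_inv_cancel_left]
  rw [hv, map_mul, map_mul]
  exact mul_mem hd (mul_mem (h1 g) (h2 k))

end Cfsg.Agent.H93.G2Inv
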