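import Cfsg.Prelude.Def_G2
import Mathlib

/-!
The quaternion subalgebra of Zorn's algebra: coordinates `hM` on it and `xM` on its orthogonal
complement, the pairs `(p, q)` in `GL₂ × GL₂` of equal determinant acting by automorphisms, and the
centraliser of the involution `(1, -1)`.
-/

set_option autoImplicit false

namespace Cfsg.Agent.H93.G2Quat

open Matrix Cfsg Cfsg.Lie

variable {F : Type*} [Field F]

/-- The component in the quaternion subalgebra, as a matrix (the product becomes reversed). -/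
def hM (x : Fin 8 → F) : Matrix (Fin 2) (Fin 2) F := !![x 0, x 4; x 1, x 7]

/-- The component in the complement of the quaternion subalgebra. -/
def xM (x : Fin 8 → F) : Matrix (Fin 2) (Fin 2) F := !![x 2, x 3; x 6, -x 5]

/-- The vector with given components. -/
def mk (M X : Matrix (Fin 2) (Fin 2) F) : Fin 8 → F :=
  ![M 0 0, M 1 0, X 0 0, X 0 1, M 0 1, -X 1 1, X 1 0, M 1 1]

@[simp] theorem hM_mk (M X : Matrix (Fin 2) (Fin 2) F) : hM (mk M X) = M := by
  ext i j; fin_cases i <;> fin_cases j <;> simp [hM, mk]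

@[simp] theorem xM_mk (M X : Matrix (Fin 2) (Fin 2) F) : xM (mk M X) = X := by
  ext i j; fin_cases i <;> fin_cases j <;> simp [xM, mk]

@[simp] theorem mk_hM_xM (x : Fin 8 → F) : mk (hM x) (xM x) = x := by
  ext i; fin_cases i <;> simp [mk, hM, xM]

theorem ext_comp {x y : Fin 8 → F} (h1 : hM x = hM y) (h2 : xM x = xM y) : x = y := by
  rw [← mk_hM_xM x, ← mk_hM_xM y, h1, h2]

theorem hM_zornMul (x y : Fin 8 → F) :
    hM (zornMul x y) = hM y * hM x - xM x * (xM y).adjugate := by
  ext i j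
  fin_cases i <;> fin_cases j <;>
    simp [hM, xM, zornMul, dot3, cross3, zA, zB, Matrix.adjugate_fin_two, Matrix.mul_apply,
      Fin.sum_univ_two] <;> ring

theorem xM_zornMul (x y : Fin 8 → F) :
    xM (zornMul x y) = hM x * xM y + (hM y).adjugate * xM x := by
  ext i j
  fin_cases i <;> fin_cases j <;>
    simp [hM, xM, zornMul, dot3, cross3, zA, zB, Matrix.adjugate_fin_two, Matrix.mul_apply,
      Fin.sum_univ_two] <;> ring

/-- Pairs of invertible matrices with equal determinants. -/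
def pairs (F : Type*) [Field F] : Subgroup (GL (Fin 2) F × GL (Fin 2) F) :=
  MonoidHom.eqLocus
    (Matrix.GeneralLinearGroup.det.comp (MonoidHom.fst (GL (Fin 2) F) (GL (Fin 2) F)))
    (Matrix.GeneralLinearGroup.det.comp (MonoidHom.snd (GL (Fin 2) F) (GL (Fin 2) F)))

theorem mem_pairs {w : GL (Fin 2) F × GL (Fin 2) F} :
    w ∈ pairs F ↔ Matrix.det (w.1 : Matrix (Fin 2) (Fin 2) F) =
      Matrix.det (w.2 : Matrix (Fin 2) (Fin 2) F) := by
  show Matrix.GeneralLinearGroup.det w.1 = Matrix.GeneralLinearGroup.det w.2 ↔ _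
  rw [Units.ext_iff]
  simp

/-- The linear map of `F⁸` given by a pair. -/
def lin (w : GL (Fin 2) F × GL (Fin 2) F) : (Fin 8 → F) →ₗ[F] (Fin 8 → F) where
  toFun x := mk ((w.1 : Matrix (Fin 2) (Fin 2) F) * hM x * ((w.1⁻¹ : GL (Fin 2) F) : Matrix _ _ F))
    ((w.1 : Matrix (Fin 2) (Fin 2) F) * xM x * ((w.2⁻¹ : GL (Fin 2) F) : Matrix _ _ F))
  map_add' x y := by
    have h1 : hM (x + y) = hM x + hM y := by
      ext i j; fin_cases i <;> fin_cases j <;> simp [hM]
    have h2 : xM (x + y) = xM x + xM y := by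
      ext i j; fin_cases i <;> fin_cases j <;> simp [xM, add_comm]
    rw [h1, h2]
    ext i
    fin_cases i <;> simp [mk, Matrix.mul_add, Matrix.add_mul, add_comm]
  map_smul' c x := by
    have h1 : hM (c • x) = c • hM x := by
      ext i j; fin_cases i <;> fin_cases j <;> simp [hM]
    have h2 : xM (c • x) = c • xM x := by
      ext i j; fin_cases i <;> fin_cases j <;> simp [xM]
    rw [h1, h2]
    ext i
    fin_cases i <;> simp [mk]

theorem lin_apply (w : GL (Fin 2) F × GL (Fin 2) F) (x : Fin 8 → F) :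
    lin w x = mk
      ((w.1 : Matrix (Fin 2) (Fin 2) F) * hM x * ((w.1⁻¹ : GL (Fin 2) F) : Matrix _ _ F))
      ((w.1 : Matrix (Fin 2) (Fin 2) F) * xM x * ((w.2⁻¹ : GL (Fin 2) F) : Matrix _ _ F)) := rfl

theorem lin_one : lin (1 : GL (Fin 2) F × GL (Fin 2) F) = LinearMap.id := by
  refine LinearMap.ext fun x => ?_
  simp [lin_apply]

theorem lin_mul (v w : GL (Fin 2) F × GL (Fin 2) F) : lin (v * w) = (lin v).comp (lin w) := by
  refine LinearMap.ext fun x => ?_
  simp [lin_apply, _root_.mul_inv_rev, Matrix.mul_assoc]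

/-- The matrix of a pair. -/
noncomputable def matHom (F : Type*) [Field F] :
    GL (Fin 2) F × GL (Fin 2) F →* Matrix (Fin 8) (Fin 8) F where
  toFun w := LinearMap.toMatrix' (lin w)
  map_one' := by rw [lin_one, LinearMap.toMatrix'_id]
  map_mul' v w := by rw [lin_mul, LinearMap.toMatrix'_comp]

theorem adjugate_mul_mul_inv (p q : GL (Fin 2) F) (M : Matrix (Fin 2) (Fin 2) F) :
    ((p : Matrix (Fin 2) (Fin 2) F) * M * ((q⁻¹ : GL (Fin 2) F) : Matrix _ _ F)).adjugate =
      (Matrix.det (p : Matrix (Fin 2) (Fin 2) F) * (Matrix.det (q : Matrix (Fin 2) (Fin 2) F))⁻¹) •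
        ((q : Matrix (Fin 2) (Fin 2) F) * M.adjugate * ((p⁻¹ : GL (Fin 2) F) : Matrix _ _ F)) := by
  have key : ∀ r : GL (Fin 2) F, (r : Matrix (Fin 2) (Fin 2) F).adjugate =
      Matrix.det (r : Matrix (Fin 2) (Fin 2) F) • ((r⁻¹ : GL (Fin 2) F) : Matrix _ _ F) := by
    intro r
    have h := Matrix.adjugate_mul (r : Matrix (Fin 2) (Fin 2) F)
    calc (r : Matrix (Fin 2) (Fin 2) F).adjugate
        = (r : Matrix (Fin 2) (Fin 2) F).adjugate * (r : Matrix (Fin 2) (Fin 2) F) *
            ((r⁻¹ : GL (Fin 2) F) : Matrix _ _ F) := by rw [mul_assoc, Units.mul_inv, mul_one]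
      _ = _ := by rw [h, smul_mul_assoc, one_mul]
  have hq : Matrix.det ((q⁻¹ : GL (Fin 2) F) : Matrix (Fin 2) (Fin 2) F) =
      (Matrix.det (q : Matrix (Fin 2) (Fin 2) F))⁻¹ := by
    refine eq_inv_of_mul_eq_one_left ?_
    rw [← Matrix.det_mul, Units.inv_mul, Matrix.det_one]
  rw [Matrix.adjugate_mul_distrib, Matrix.adjugate_mul_distrib, key q⁻¹, key p, inv_inv, hq]
  simp only [Matrix.smul_mul, Matrix.mul_smul, smul_smul, Matrix.mul_assoc]

theorem lin_zornMul {w : GL (Fin 2) F × GL (Fin 2) F} (hw : w ∈ pairs F) (x y : Fin 8 → F) :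
    lin w (zornMul x y) = zornMul (lin w x) (lin w y) := by
  have hd : Matrix.det (w.1 : Matrix (Fin 2) (Fin 2) F) *
      (Matrix.det (w.2 : Matrix (Fin 2) (Fin 2) F))⁻¹ = 1 := by
    rw [mem_pairs.1 hw, mul_inv_cancel₀]
    exact ((Matrix.isUnit_iff_isUnit_det _).1 (Units.isUnit w.2)).ne_zero
  have hd1 : Matrix.det (w.1 : Matrix (Fin 2) (Fin 2) F) *
      (Matrix.det (w.1 : Matrix (Fin 2) (Fin 2) F))⁻¹ = 1 := by
    rw [mul_inv_cancel₀]
    exact ((Matrix.isUnit_iff_isUnit_det _).1 (Units.isUnit w.1)).ne_zero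
  refine ext_comp ?_ ?_
  · simp only [lin_apply, hM_mk, xM_mk, hM_zornMul, adjugate_mul_mul_inv, hd, one_smul]
    simp [Matrix.mul_sub, Matrix.sub_mul, Matrix.mul_assoc]
  · simp only [lin_apply, hM_mk, xM_mk, xM_zornMul, adjugate_mul_mul_inv, hd1, one_smul]
    simp [Matrix.mul_add, Matrix.add_mul, Matrix.mul_assoc]

/-- Pairs act by automorphisms of Zorn's algebra. -/
noncomputable def phi (F : Type*) [Field F] : ↥(pairs F) →* ↥(G2 F) :=
  ((matHom F).toHomUnits.comp (pairs F).subtype).codRestrict (G2 F) fun w x y => by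
    have e : ∀ z, (Units.coeHom (Matrix (Fin 8) (Fin 8) F))
        (((matHom F).toHomUnits.comp (pairs F).subtype) w) *ᵥ z =
          lin (w : GL (Fin 2) F × GL (Fin 2) F) z := fun z => by
      simp [matHom]
    rw [e, e, e]
    exact lin_zornMul w.2 x y

/-- The linear map of an automorphism. -/
def act (g : ↥(G2 F)) (x : Fin 8 → F) : Fin 8 → F :=
  ((g : GL (Fin 8) F) : Matrix (Fin 8) (Fin 8) F) *ᵥ x

theorem act_one (x : Fin 8 → F) : act (1 : ↥(G2 F)) x = x := by simp [act]

theorem act_mul (g h : ↥(G2 F)) (x : Fin 8 → F) : act (g * h) x = act g (act h x) := by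
  simp [act, Matrix.mulVec_mulVec]

theorem act_zornMul (g : ↥(G2 F)) (x y : Fin 8 → F) :
    act g (zornMul x y) = zornMul (act g x) (act g y) := g.2 x y

theorem act_ext {g h : ↥(G2 F)} (H : ∀ x, act g x = act h x) : g = h := by
  refine Subtype.ext (Units.ext ?_)
  refine Matrix.ext_of_mulVec_single fun i => ?_
  exact H _

theorem act_phi (w : ↥(pairs F)) (x : Fin 8 → F) :
    act (phi F w) x = mk
      (((w : GL (Fin 2) F × GL (Fin 2) F).1 : Matrix (Fin 2) (Fin 2) F) * hM x *
        ((((w : GL (Fin 2) F × GL (Fin 2) F).1)⁻¹ : GL (Fin 2) F) : Matrix _ _ F))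
      (((w : GL (Fin 2) F × GL (Fin 2) F).1 : Matrix (Fin 2) (Fin 2) F) * xM x *
        ((((w : GL (Fin 2) F × GL (Fin 2) F).2)⁻¹ : GL (Fin 2) F) : Matrix _ _ F)) := by
  rw [← lin_apply]
  simp [act, phi, matHom]

theorem commute_of_forall (p : GL (Fin 2) F)
    (h : ∀ M, (p : Matrix (Fin 2) (Fin 2) F) * M * ((p⁻¹ : GL (Fin 2) F) : Matrix _ _ F) = M)
    (M : Matrix (Fin 2) (Fin 2) F) : Commute (p : Matrix (Fin 2) (Fin 2) F) M := by
  have := congrArg (· * (p : Matrix (Fin 2) (Fin 2) F)) (h M)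
  simpa [Matrix.mul_assoc, Commute, SemiconjBy] using this

theorem phi_ker {w : ↥(pairs F)} (h : phi F w = 1) :
    (w : GL (Fin 2) F × GL (Fin 2) F).1 = (w : GL (Fin 2) F × GL (Fin 2) F).2 ∧
      ∀ M, Commute ((w : GL (Fin 2) F × GL (Fin 2) F).1 : Matrix (Fin 2) (Fin 2) F) M := by
  have hx : ∀ x, act (phi F w) x = x := fun x => by rw [h, act_one]
  refine ⟨?_, commute_of_forall _ fun M => ?_⟩
  · have h1 := congrArg xM (hx (mk 0 1))
    rw [act_phi, xM_mk, xM_mk, mul_one] at h1
    refine mul_inv_eq_one.1 (Units.ext ?_)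
    simpa using h1
  · have h1 := congrArg hM (hx (mk M 0))
    rwa [act_phi, hM_mk, hM_mk] at h1

/-- An element of the kernel from a scalar pair. -/
theorem phi_eq_one {w : ↥(pairs F)}
    (h1 : (w : GL (Fin 2) F × GL (Fin 2) F).1 = (w : GL (Fin 2) F × GL (Fin 2) F).2)
    (h2 : ∀ M, Commute ((w : GL (Fin 2) F × GL (Fin 2) F).1 : Matrix (Fin 2) (Fin 2) F) M) :
    phi F w = 1 := by
  refine act_ext fun x => ?_
  rw [act_phi, act_one, ← h1, (h2 _).eq, (h2 _).eq]
  simp [Matrix.mul_assoc]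

theorem one_neg_one_mem : ((1, -1) : GL (Fin 2) F × GL (Fin 2) F) ∈ pairs F := by
  rw [mem_pairs]
  simp [Matrix.det_neg]

/-- The involution `(1, -1)`. -/
def negPair (F : Type*) [Field F] : ↥(pairs F) := ⟨(1, -1), one_neg_one_mem⟩

theorem act_t (x : Fin 8 → F) : act (phi F (negPair F)) x = mk (hM x) (-xM x) := by
  rw [act_phi]
  simp [negPair, inv_neg]

/-- Every algebra automorphism of the `2 × 2` matrices is inner. -/
theorem exists_conj (φ : Matrix (Fin 2) (Fin 2) F ≃ₐ[F] Matrix (Fin 2) (Fin 2) F) :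
    ∃ p : GL (Fin 2) F, ∀ M, φ M =
      (p : Matrix (Fin 2) (Fin 2) F) * M * ((p⁻¹ : GL (Fin 2) F) : Matrix _ _ F) := by
  let e : Matrix (Fin 2) (Fin 2) F ≃ₐ[F] Module.End F (Fin 2 → F) := Matrix.toLinAlgEquiv'
  obtain ⟨T, hT⟩ := ((e.symm.trans φ).trans e).eq_linearEquivConjAlgEquiv
  have h1 : LinearMap.toMatrix' (T : (Fin 2 → F) →ₗ[F] (Fin 2 → F)) *
      LinearMap.toMatrix' (T.symm : (Fin 2 → F) →ₗ[F] (Fin 2 → F)) = 1 := by
    rw [← LinearMap.toMatrix'_comp]; simp
  have h2 : LinearMap.toMatrix' (T.symm : (Fin 2 → F) →ₗ[F] (Fin 2 → F)) *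
      LinearMap.toMatrix' (T : (Fin 2 → F) →ₗ[F] (Fin 2 → F)) = 1 := by
    rw [← LinearMap.toMatrix'_comp]; simp
  refine ⟨⟨_, _, h1, h2⟩, fun M => ?_⟩
  have h := congrArg e.symm (DFunLike.congr_fun hT (e M))
  simp only [AlgEquiv.trans_apply, AlgEquiv.symm_apply_apply] at h
  rw [h]
  rw [LinearEquiv.conjAlgEquiv_apply]
  change LinearMap.toMatrix' ((T : (Fin 2 → F) →ₗ[F] (Fin 2 → F)).comp
    ((Matrix.toLin' M).comp (T.symm : (Fin 2 → F) →ₗ[F] (Fin 2 → F)))) = _
  rw [LinearMap.toMatrix'_comp, LinearMap.toMatrix'_comp, LinearMap.toMatrix'_toLin',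
    ← Matrix.mul_assoc]
  rfl

/-- The centraliser of `(1, -1)` consists of pairs. -/
theorem exists_phi_eq (h2 : (2 : F) ≠ 0) (g : ↥(G2 F))
    (hg : Commute g (phi F (negPair F))) : g ∈ (phi F).range := by
  have key : ∀ k : ↥(G2 F), Commute k (phi F (negPair F)) → ∀ x,
      act k (mk (hM x) (-xM x)) = mk (hM (act k x)) (-xM (act k x)) := fun k hk x => by
    rw [← act_t, ← act_t, ← act_mul, ← act_mul, hk.eq]
  have hzero : ∀ {X : Matrix (Fin 2) (Fin 2) F}, -X = X → X = 0 := fun {X} hX => by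
    ext i j
    have h := congrFun (congrFun hX i) j
    simp only [Matrix.neg_apply] at h
    have h' : (2 : F) * X i j = 0 := by linear_combination -h
    simpa [h2] using h'
  have hH : ∀ k : ↥(G2 F), Commute k (phi F (negPair F)) → ∀ M,
      act k (mk M 0) = mk (hM (act k (mk M 0))) 0 := fun k hk M => by
    have h := key k hk (mk M 0)
    rw [hM_mk, xM_mk, neg_zero] at h
    have hX := congrArg xM h
    rw [xM_mk] at hX
    exact ext_comp (by simp) (by rw [xM_mk]; exact hzero hX.symm)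
  have hmul : ∀ M N : Matrix (Fin 2) (Fin 2) F, zornMul (mk M 0) (mk N 0) = mk (N * M) 0 :=
    fun M N => ext_comp (by simp [hM_zornMul])
      (by simp [xM_zornMul])
  have hone : ∀ k : ↥(G2 F), Commute k (phi F (negPair F)) → hM (act k (mk 1 0)) = 1 := by
    intro k hk
    have hk' : Commute k⁻¹ (phi F (negPair F)) := hk.inv_left
    set y := act k⁻¹ (mk 1 0)
    have hy : act k y = mk 1 0 := by rw [← act_mul, mul_inv_cancel, act_one]
    have hy' : y = mk (hM y) 0 := hH _ hk' 1
    have h1 : act k (mk 1 0) = mk 1 0 := by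
      have h := act_zornMul k (mk 1 0) y
      rw [hy, hy', hmul, mul_one, ← hy', hy, hH k hk, hmul, one_mul] at h
      exact (hH k hk 1).trans h.symm
    rw [h1, hM_mk]
  let f : Matrix (Fin 2) (Fin 2) F →ₐ[F] Matrix (Fin 2) (Fin 2) F :=
    AlgHom.ofLinearMap
      { toFun := fun M => hM (act g (mk M 0))
        map_add' := fun M N => by
          have e : mk (M + N) 0 = mk M 0 + mk N 0 := by
            ext i; fin_cases i <;> simp [mk]
          have e' : ∀ x y : Fin 8 → F, hM (x + y) = hM x + hM y := fun x y => by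
            ext i j; fin_cases i <;> fin_cases j <;> simp [hM]
          rw [e, act, Matrix.mulVec_add, e']; rfl
        map_smul' := fun c M => by
          have e : mk (c • M) 0 = c • mk M 0 := by
            ext i; fin_cases i <;> simp [mk]
          have e' : ∀ x : Fin 8 → F, hM (c • x) = c • hM x := fun x => by
            ext i j; fin_cases i <;> fin_cases j <;> simp [hM]
          rw [e, act, Matrix.mulVec_smul, e']; rfl }
      (hone g hg)
      (fun M N => by
        show hM (act g (mk (M * N) 0)) = hM (act g (mk M 0)) * hM (act g (mk N 0))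
        rw [← hmul N M, act_zornMul, hM_zornMul]
        conv_lhs => rw [hH g hg N, hH g hg M]
        simp)
  have hf : Function.Injective f := by
    intro M N h
    have h' : act g (mk M 0) = act g (mk N 0) := by rw [hH g hg M, hH g hg N]; exact congrArg (mk · 0) h
    have := congrArg (act g⁻¹) h'
    rw [← act_mul, ← act_mul, inv_mul_cancel, act_one, act_one] at this
    simpa using congrArg hM this
  obtain ⟨p, hp⟩ := exists_conj (AlgEquiv.ofBijective f
    ⟨hf, LinearMap.surjective_of_injective (f := f.toLinearMap) hf⟩)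
  set w : ↥(pairs F) := ⟨(p, p), mem_pairs.2 rfl⟩ with hw
  set k : ↥(G2 F) := (phi F w)⁻¹ * g
  have hwt : Commute w (negPair F) := by
    refine Subtype.ext (Prod.ext ?_ ?_) <;> simp [hw, negPair]
  have hk : Commute k (phi F (negPair F)) := (hwt.map (phi F)).inv_left.mul_left hg
  have hkH : ∀ M, act k (mk M 0) = mk M 0 := by
    intro M
    have e : act (phi F w) (mk M 0) = act g (mk M 0) := by
      rw [hH g hg M]
      have h1 : hM (act g (mk M 0)) =
          (p : Matrix (Fin 2) (Fin 2) F) * M * ((p⁻¹ : GL (Fin 2) F) : Matrix _ _ F) := hp M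
      rw [h1, act_phi]
      simp [hw]
    rw [act_mul, ← e, ← act_mul, inv_mul_cancel, act_one]
  set z := act k (mk 0 1)
  have hz : z = mk 0 (xM z) := by
    have h := key k hk (mk 0 1)
    rw [hM_mk, xM_mk] at h
    have e : act k (mk 0 (-1)) = -z := by
      rw [show mk 0 (-1) = -mk 0 (1 : Matrix (Fin 2) (Fin 2) F) by
        ext i; fin_cases i <;> simp [mk], act, Matrix.mulVec_neg]
      rfl
    rw [e] at h
    refine ext_comp ?_ (by simp)
    rw [hM_mk]
    refine hzero ?_
    have := congrArg hM h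
    rw [hM_mk] at this
    have e2 : hM (-z) = -hM z := by
      ext i j; fin_cases i <;> fin_cases j <;> simp [hM]
    rw [← e2]; exact this
  have hkX : ∀ X, act k (mk 0 X) = mk 0 (X * xM z) := by
    intro X
    have e : zornMul (mk X 0) (mk 0 1) = mk 0 X :=
      ext_comp (by simp [hM_zornMul]) (by simp [xM_zornMul, Matrix.adjugate_fin_two])
    rw [← e, act_zornMul, hkH, show act k (mk 0 1) = z from rfl, hz]
    exact ext_comp (by simp [hM_zornMul]) (by simp [xM_zornMul, Matrix.adjugate_fin_two])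
  have hdet : Matrix.det (xM z) = 1 := by
    have e : zornMul (mk 0 (1 : Matrix (Fin 2) (Fin 2) F)) (mk 0 1) = mk (-1) 0 :=
      ext_comp (by simp [hM_zornMul]) (by simp [xM_zornMul, Matrix.adjugate_fin_two])
    have h := act_zornMul k (mk 0 1) (mk 0 1)
    rw [e, hkH, show act k (mk 0 1) = z from rfl, hz] at h
    have h' := congrArg hM h
    rw [hM_mk, hM_zornMul, hM_mk, xM_mk, Matrix.mul_adjugate, zero_mul, zero_sub,
      neg_inj] at h'
    simpa [Matrix.one_apply] using (congrFun (congrFun h' 0) 0).symm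
  obtain ⟨q, hq⟩ : IsUnit (xM z) := by
    rw [Matrix.isUnit_iff_isUnit_det, hdet]; exact isUnit_one
  have hqd : ((1, q⁻¹) : GL (Fin 2) F × GL (Fin 2) F) ∈ pairs F := by
    rw [mem_pairs]
    have h := congrArg Matrix.det (Units.mul_inv q)
    rw [Matrix.det_mul, hq, hdet, one_mul, Matrix.det_one] at h
    simp only [Units.val_one, Matrix.det_one]
    exact h.symm
  have hfin : k = phi F ⟨(1, q⁻¹), hqd⟩ := by
    refine act_ext fun x => ?_
    have e : x = mk (hM x) 0 + mk 0 (xM x) := by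
      conv_lhs => rw [← mk_hM_xM x]
      ext i; fin_cases i <;> simp [mk]
    have e' : act k x = act k (mk (hM x) 0) + act k (mk 0 (xM x)) := by
      rw [act, act, act, ← Matrix.mulVec_add, ← e]
    rw [e', hkH, hkX, act_phi]
    ext i
    fin_cases i <;> simp [mk, hq]
  exact ⟨w * ⟨(1, q⁻¹), hqd⟩, by rw [map_mul, ← hfin, mul_inv_cancel_left]⟩

end Cfsg.Agent.H93.G2Quat
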