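import Cfsg.Agent.H93.InnerTools
import Cfsg.Agent.H93.LocalSaturated
import Cfsg.Agent.H93.Model
import Cfsg.Agent.H94.FactorSaturated
import Cfsg.Agent.H96.CoreCenter
import Cfsg.Agent.S5090
import Cfsg.Agent.H93.FamilyClimb

/-!
Nilpotency criteria for saturated fusion systems: reduction of a functorial local-innerness hypothesis to
finite groups with self-centralizing `p`-core.
-/

set_option autoImplicit false

namespace Cfsg.Agent.H93

open Cfsg Cfsg.FusionSystem

universe u v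

section Modulo

variable {Ω : Type u} [Group Ω] {S : Subgroup Ω} {F : FusionSystem S} {p : ℕ} {Q : Subgroup Ω}

/-- If all maps are inner modulo a normal subgroup `Q`, then `Q C_S(Q)` is normal in the system. -/
theorem isNormal_sup_centralizer [Finite S] [Fact p.Prime] (hS : IsPGroup p S) (hF : F.IsSaturated p)
    (hQ : F.IsNormal Q)
    (hmod : ∀ (A A' : Subgroup Ω) (f : Ω → Ω), Mor F A A' f → Q ≤ A →
      ∃ s ∈ S, ∀ x ∈ A, (s * x * s⁻¹)⁻¹ * f x ∈ Q) :
    F.IsNormal (Q ⊔ centralizerIn S Q) := by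
  have hQS := hQ.1
  have hTS : Q ⊔ centralizerIn S Q ≤ S := sup_le hQS (centralizerIn_le S Q)
  have hQsc := IsNormal.stronglyClosed hQ
  have hSN : S ≤ Subgroup.normalizer (Q : Set Ω) := StronglyClosed.le_normalizer hQsc
  have hST : ∀ s ∈ S, ∀ x ∈ Q ⊔ centralizerIn S Q, s * x * s⁻¹ ∈ Q ⊔ centralizerIn S Q := by
    intro s hs x hx
    have hle : (Q ⊔ centralizerIn S Q).map (MulAut.conj s).toMonoidHom ≤ Q ⊔ centralizerIn S Q := by
      rw [Subgroup.map_sup]
      refine sup_le_sup ?_ ?_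
      · rintro _ ⟨y, hy, rfl⟩
        exact (Subgroup.mem_normalizer_iff.1 (hSN hs) y).1 hy
      · rintro _ ⟨y, hy, rfl⟩
        obtain ⟨hyS, hyc⟩ := mem_centralizerIn.1 hy
        refine mem_centralizerIn.2 ⟨S.mul_mem (S.mul_mem hs hyS) (S.inv_mem hs), fun q hq => ?_⟩
        have hq' : s⁻¹ * q * s ∈ Q := (Subgroup.mem_normalizer_iff.1 (hSN hs) _).2 (by simpa [mul_assoc] using hq)
        calc (s * y * s⁻¹) * q * (s * y * s⁻¹)⁻¹ = s * (y * (s⁻¹ * q * s) * y⁻¹) * s⁻¹ := by
              simp [mul_assoc]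
          _ = q := by rw [hyc _ hq']; simp [mul_assoc]
    exact hle ⟨x, hx, rfl⟩
  have hsc : F.StronglyClosed (Q ⊔ centralizerIn S Q) := by
    refine ⟨hTS, fun R hR φ hφ x => ?_⟩
    obtain ⟨ψ, hψ, he, -⟩ := hQ.2 R φ hφ
    obtain ⟨f, hf, hfe⟩ := exists_mor hψ rfl
    obtain ⟨s, hs, hse⟩ := hmod _ _ f hf le_sup_right
    have h1 := Subgroup.mem_sup_left (T := centralizerIn S Q) (hse x (Subgroup.mem_sup_left x.2))
    have h2 := hST s hs x (hR x.2)
    have h3 := Subgroup.mul_mem _ h2 h1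
    rw [mul_inv_cancel_left] at h3
    rw [← he x, ← hfe]
    exact h3
  refine (isNormal_iff_le_centric_radical hS hF).2 ⟨hsc, fun R hc hr => sup_le
    (IsNormal.le_centric_radical hS hQ hc hr) ?_⟩
  have hQR := IsNormal.le_centric_radical hS hQ hc hr
  have hRS := hc.1
  have := finite_of_le hRS
  -- automorphisms trivial on `Q` form a normal `p`-subgroup
  let D : Subgroup (MulAut R) :=
    { carrier := {α | α ∈ F.autGroup R ∧ ∀ x : R, (x : Ω) ∈ Q → α x = x}
      one_mem' := ⟨Subgroup.one_mem _, fun _ _ => rfl⟩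
      mul_mem' := fun {a b} ha hb => ⟨Subgroup.mul_mem _ ha.1 hb.1, fun x hx => by
        rw [MulAut.mul_apply, hb.2 x hx, ha.2 x hx]⟩
      inv_mem' := fun {a} ha => ⟨Subgroup.inv_mem _ ha.1, fun x hx => by
        apply a.injective
        rw [MulAut.apply_inv_self, ha.2 x hx]⟩ }
  have hDn : ∀ α ∈ D, ∀ β ∈ F.autGroup R, β * α * β⁻¹ ∈ D := by
    refine fun α hα β hβ => ⟨Subgroup.mul_mem _ (Subgroup.mul_mem _ hβ hα.1) (Subgroup.inv_mem _ hβ),
      fun x hx => ?_⟩
    rw [MulAut.mul_apply, MulAut.mul_apply,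
      hα.2 _ (StronglyClosed.aut_mem hQsc hRS (Subgroup.inv_mem _ hβ) x hx), MulAut.apply_inv_self]
  have hDp : IsPGroup p D := by
    rintro ⟨α, hαA, hαQ⟩
    obtain ⟨f, hf, hfe⟩ := exists_mor_of_aut hRS hαA
    obtain ⟨s, hs, hse⟩ := hmod _ _ f hf hQR
    have key : ∀ (j : ℕ) (x : R),
        (s ^ j * (x : Ω) * (s ^ j)⁻¹)⁻¹ * (((α ^ j) x : R) : Ω) ∈ Q := by
      intro j
      induction j with
      | zero => intro x; simp
      | succ j ih =>
        intro x
        set y := (α ^ j) x with hy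
        have h1 := hse y y.2
        rw [hfe y] at h1
        have h2 := ih x
        have h3 : s * ((s ^ j * (x : Ω) * (s ^ j)⁻¹)⁻¹ * (y : Ω)) * s⁻¹ ∈ Q :=
          (Subgroup.mem_normalizer_iff.1 (hSN hs) _).1 h2
        have h4 := Q.mul_mem h3 h1
        have e : ((α ^ (j + 1)) x : R) = α y := by rw [pow_succ', MulAut.mul_apply]
        rw [e]
        simpa [pow_succ', mul_assoc] using h4
    obtain ⟨k, hk⟩ := hS ⟨s, hs⟩
    have hk' : s ^ p ^ k = 1 := congrArg Subtype.val hk
    have hpow : ∀ (j : ℕ) (x : R), (x : Ω) ∈ Q → (α ^ j) x = x := by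
      intro j
      induction j with
      | zero => intro x _; simp
      | succ j ih => intro x hx; rw [pow_succ', MulAut.mul_apply, ih x hx, hαQ x hx]
    have hQn : ∀ x : R, (((α ^ p ^ k) x * x⁻¹ : R) : Ω) ∈ Q := by
      intro x
      have h1 := key (p ^ k) x
      rw [hk'] at h1
      simp only [one_mul, inv_one, mul_one] at h1
      have h2 := (Subgroup.mem_normalizer_iff.1 (hSN (hRS x.2)) _).1 h1
      simpa [mul_assoc] using h2
    obtain ⟨m, hm⟩ := exists_pow_eq_one_of_chain (γ := α ^ p ^ k) (hS.to_le hRS) 0 (fun _ => Q)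
      (by simp) (fun a ha => hpow _ a ha) (by simp) hQn
    refine ⟨k + m, Subtype.ext ?_⟩
    rw [← pow_mul, ← pow_add] at hm
    exact hm
  have hDle : D ≤ Inn R := by
    have := le_opAut (F := F) (p := p) (N := D) (fun α hα => hα.1) hDn hDp
    exact this.trans hr.2.le
  intro t ht
  by_contra htR
  have hsupS : R ⊔ centralizerIn S Q ≤ S := sup_le hRS (centralizerIn_le S Q)
  have := finite_of_le hsupS
  have hlt : R < R ⊔ centralizerIn S Q :=
    lt_of_le_not_ge le_sup_left fun h => htR (h (Subgroup.mem_sup_right ht))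
  obtain ⟨g, hg, hgR⟩ := Set.exists_of_ssubset (lt_inf_normalizer (hS.to_le hsupS) hlt)
  have hCn : R ≤ Subgroup.normalizer (centralizerIn S Q : Set Ω) := by
    intro r hr'
    have : Finite (centralizerIn S Q : Set Ω) := finite_of_le (centralizerIn_le S Q)
    refine Subgroup.mem_normalizer_fintype fun y hy => ?_
    obtain ⟨hyS, hyc⟩ := mem_centralizerIn.1 hy
    refine mem_centralizerIn.2 ⟨S.mul_mem (S.mul_mem (hRS hr') hyS) (S.inv_mem (hRS hr')), fun q hq => ?_⟩
    have hq' : r⁻¹ * q * r ∈ Q :=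
      (Subgroup.mem_normalizer_iff.1 (hSN (hRS hr')) _).2 (by simpa [mul_assoc] using hq)
    calc (r * y * r⁻¹) * q * (r * y * r⁻¹)⁻¹ = r * (y * (r⁻¹ * q * r) * y⁻¹) * r⁻¹ := by simp [mul_assoc]
      _ = q := by rw [hyc _ hq']; simp [mul_assoc]
  have hg1 : g ∈ ((R ⊔ centralizerIn S Q : Subgroup Ω) : Set Ω) := hg.1
  rw [Subgroup.coe_mul_of_left_le_normalizer_right R _ hCn] at hg1
  obtain ⟨r, hr', c, hcc, rfl⟩ := hg1
  refine hgR (R.mul_mem hr' ?_)
  have hcn : c ∈ Subgroup.normalizer (R : Set Ω) := by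
    have := Subgroup.mul_mem _ (Subgroup.inv_mem _ (Subgroup.le_normalizer hr')) hg.2
    simpa using this
  have hcS : c ∈ normalizerIn S R := ⟨(mem_centralizerIn.1 hcc).1, hcn⟩
  have hmem : conjAut S R ⟨c, hcS⟩ ∈ D :=
    ⟨autInducedBy_le_autGroup F hRS (autInducedBy_eq_range S R ▸ ⟨_, rfl⟩),
      fun x hx => Subtype.ext ((mem_centralizerIn.1 hcc).2 x hx)⟩
  have hI := hDle hmem
  rw [inn_eq_autInducedBy, mem_autInducedBy] at hI
  obtain ⟨w, hw, hwe⟩ := hI
  have : w⁻¹ * c ∈ centralizerIn S R :=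
    mem_centralizerIn.2 ⟨S.mul_mem (S.inv_mem (hRS hw)) hcS.1, conj_map_eq_of_eq fun x hx => hwe ⟨x, hx⟩⟩
  have := R.mul_mem hw (hc.2 R (isConj_refl F hRS) this)
  simpa using this

end Modulo

section Criterion

variable {p : ℕ} [Fact p.Prime] {ι : Type v} {W : ι → ∀ (Ω : Type u) [Group Ω], Subgroup Ω → Subgroup Ω}

/-- A class of systems closed under normalizer systems and factor systems by normal subgroups. -/
structure Hereditary (p : ℕ) (Ok : ∀ (Ω : Type u) [Group Ω] (S : Subgroup Ω), FusionSystem S → Prop) :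
    Prop where
  normalizer : ∀ (Ω : Type u) [Group Ω] (S : Subgroup Ω) [Finite S] (F : FusionSystem S), IsPGroup p S →
    F.IsSaturated p → Ok Ω S F → ∀ (X : Subgroup Ω) (hX : X ≤ S), F.IsFullyNormalized X →
      Ok Ω (normalizerIn S X) (normalizerSystem F X hX)
  factor : ∀ (Ω : Type u) [Group Ω] (S : Subgroup Ω) [Finite S] (F : FusionSystem S), IsPGroup p S →
    F.IsSaturated p → Ok Ω S F → ∀ (Q : Subgroup Ω), F.IsNormal Q →
      ∀ (Ω' : Type u) [Group Ω'] (S' : Subgroup Ω') (θ : S →* Ω') (E : FusionSystem S'),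
        F.IsFactorSystem Q θ E → Ok Ω' S' E

/-- The condition on finite groups to which the criterion reduces. -/
def GroupCond (W : ι → ∀ (Ω : Type u) [Group Ω], Subgroup Ω → Subgroup Ω) (fix : ι → Prop)
    {L : Type u} [Group L] (P : Subgroup L) : Prop :=
  ∀ (i : ι) (g : L), g ∈ Subgroup.normalizer (W i L P : Set L) →
    (fix i → g ∈ Subgroup.centralizer (W i L P : Set L)) → g ∈ P

/-- Inner when a model satisfies the group criterion. -/
theorem innerOn_of_constrained {fix : ι → Prop} (hW : FunctorFam p W) {Ω : Type u} [Group Ω]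
    {S : Subgroup Ω} [Finite S] (hS : IsPGroup p S) (F : FusionSystem S)
    (hC : F.IsConstrained p) (hloc : ∀ i, LocInner F (W i Ω S) (fix i))
    (hgrp : ∀ (L : Type u) [Group L] (κ : S →* L), F.IsModel p L κ → GroupCond W fix κ.range →
      κ.range = ⊤) : InnerOn F := by
  obtain ⟨L, _, κ, hm⟩ := S5090.result p hS F hC
  obtain ⟨hfin, ⟨hinj, hreal⟩, ⟨T, hT⟩, hcent⟩ := id hm
  have hOn : (pCore p L).Normal := H19.pCore_normal p L
  have hOT : pCore p L ≤ κ.range := hT ▸ H19.pCore_le_sylow T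
  have hWr : ∀ i, ((W i Ω S).subgroupOf S).map κ = W i L κ.range := fun i => hW.map i Ω L S κ hinj
  have hcond : GroupCond W fix κ.range := by
    intro i g hgn hgc
    set Z := (pCore p L).comap κ with hZ
    set A : Subgroup Ω := Z.map S.subtype ⊔ W i Ω S with hA
    have hAS : A ≤ S := sup_le (Subgroup.map_subtype_le _) (hW.le i Ω S)
    have hsub : A.subgroupOf S = Z ⊔ (W i Ω S).subgroupOf S := by
      rw [hA, Subgroup.subgroupOf_sup (Subgroup.map_subtype_le _) (hW.le i Ω S)]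
      rw [Subgroup.subgroupOf, Subgroup.comap_map_eq_self_of_injective S.subtype_injective]
    have hgA : ∀ x : A, g * κ ⟨x, hAS x.2⟩ * g⁻¹ ∈ κ.range := by
      have hle : (A.subgroupOf S).map κ ≤ κ.range.comap (MulAut.conj g).toMonoidHom := by
        rw [hsub, Subgroup.map_sup, hWr]
        refine sup_le ?_ ?_
        · rintro _ ⟨z, hz, rfl⟩
          exact hOT (hOn.conj_mem _ hz g)
        · intro y hy
          exact hW.le i L κ.range ((Subgroup.mem_normalizer_iff.1 hgn y).1 hy)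
      exact fun x => hle ⟨⟨x, hAS x.2⟩, x.2, rfl⟩
    choose e he using hgA
    let φ : A →* Ω :=
      { toFun := fun x => (e x : Ω)
        map_one' := by
          show ((e 1 : S) : Ω) = 1
          have : e 1 = 1 := hinj (by
            rw [he, map_one, show (⟨((1 : A) : Ω), hAS (1 : A).2⟩ : S) = 1 from rfl, map_one]; simp)
          rw [this]; rfl
        map_mul' := fun x y => by
          show ((e (x * y) : S) : Ω) = (e x : Ω) * (e y : Ω)
          have : e (x * y) = e x * e y := hinj (by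
            rw [map_mul, he, he, he, show (⟨((x * y : A) : Ω), hAS (x * y).2⟩ : S)
              = ⟨x, hAS x.2⟩ * ⟨y, hAS y.2⟩ from rfl, map_mul]
            simp [mul_assoc])
          rw [this]; rfl }
    have hφ : φ ∈ F.Hom A :=
      (hreal A hAS φ fun x => (e x).2).2 ⟨g, fun x => by rw [← he x]; rfl⟩
    obtain ⟨f, hf, hfe⟩ := exists_mor hφ rfl
    have hfW : ∀ y (hy : y ∈ W i Ω S), g * κ ⟨y, hW.le i Ω S hy⟩ * g⁻¹ ∈ W i L κ.range := by
      intro y hy
      refine (Subgroup.mem_normalizer_iff.1 hgn _).1 ?_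
      rw [← hWr]
      exact ⟨⟨y, hW.le i Ω S hy⟩, hy, rfl⟩
    obtain ⟨s, hs, hse⟩ := hloc i _ _ f hf le_sup_right (fun y hy => by
      rw [show f y = _ from hfe ⟨y, Subgroup.mem_sup_right hy⟩]
      have h1 := hfW y hy
      rw [← hWr] at h1
      obtain ⟨w, hw, hwe⟩ := h1
      have : e ⟨y, Subgroup.mem_sup_right hy⟩ = w := hinj ((he _).trans hwe.symm)
      show ((e _ : S) : Ω) ∈ _
      rw [this]; exact hw)
      (fun hfix y hy => by
        rw [show f y = _ from hfe ⟨y, Subgroup.mem_sup_right hy⟩]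
        show ((e _ : S) : Ω) = y
        have h1 : κ ⟨y, hW.le i Ω S hy⟩ ∈ W i L κ.range := by
          rw [← hWr]; exact ⟨_, hy, rfl⟩
        have h2 := Subgroup.mem_centralizer_iff.1 (hgc hfix) _ h1
        have : e ⟨y, Subgroup.mem_sup_right hy⟩ = ⟨y, hW.le i Ω S hy⟩ :=
          hinj ((he _).trans (by rw [← h2]; simp))
        rw [this])
    have hcz : (κ ⟨s, hs⟩)⁻¹ * g ∈ Subgroup.centralizer ((pCore p L : Subgroup L) : Set L) := by
      refine Subgroup.mem_centralizer_iff.2 fun o ho => ?_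
      obtain ⟨z, rfl⟩ := hOT ho
      have hzA : (z : Ω) ∈ A := Subgroup.mem_sup_left ⟨z, ho, rfl⟩
      have h1 := he ⟨z, hzA⟩
      have h2 : e ⟨z, hzA⟩ = ⟨s, hs⟩ * z * ⟨s, hs⟩⁻¹ := Subtype.ext (by
        have := hse z hzA
        rw [show f (z : Ω) = _ from hfe ⟨z, hzA⟩] at this
        exact this)
      rw [h2, map_mul, map_mul, map_inv] at h1
      calc κ z * ((κ ⟨s, hs⟩)⁻¹ * g)
          = (κ ⟨s, hs⟩)⁻¹ * (κ ⟨s, hs⟩ * κ z * (κ ⟨s, hs⟩)⁻¹) * g := by simp [mul_assoc]
        _ = (κ ⟨s, hs⟩)⁻¹ * g * κ z := by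
          rw [h1, show (⟨((⟨(z : Ω), hzA⟩ : A) : Ω), hAS hzA⟩ : S) = z from rfl]
          simp [mul_assoc]
    have := κ.range.mul_mem ⟨⟨s, hs⟩, rfl⟩ (hOT (hcent hcz))
    simpa using this
  have htop := hgrp L κ hm hcond
  rintro A A' f ⟨φ, hφ, -, hv⟩
  obtain ⟨g, hg⟩ := (hreal A (le_of_hom hφ) φ (apply_mem hφ)).1 hφ
  obtain ⟨s, rfl⟩ : g ∈ κ.range := htop ▸ Subgroup.mem_top g
  refine ⟨s, s.2, fun x hx => ?_⟩
  rw [← hv ⟨x, hx⟩]
  have : (⟨φ ⟨x, hx⟩, apply_mem hφ _⟩ : S) = s * ⟨x, le_of_hom hφ hx⟩ * s⁻¹ :=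
    hinj (by rw [map_mul, map_mul, map_inv]; exact hg ⟨x, hx⟩)
  exact congrArg Subtype.val this

/-- The criterion: a hereditary class in which the models satisfy the group statement. -/
theorem inner_of_functors {fix : ι → Prop} (hW : FunctorFam p W)
    {Ok : ∀ (Ω : Type u) [Group Ω] (S : Subgroup Ω), FusionSystem S → Prop} (hOk : Hereditary p Ok)
    (hgrp : ∀ (Ω : Type u) [Group Ω] (S : Subgroup Ω) [Finite S] (F : FusionSystem S), IsPGroup p S →
      F.IsSaturated p → Ok Ω S F → ∀ (L : Type u) [Group L] (κ : S →* L), F.IsModel p L κ →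
        GroupCond W fix κ.range → κ.range = ⊤)
    {Ω : Type u} [Group Ω] {S : Subgroup Ω} [Finite S] (hS : IsPGroup p S) (F : FusionSystem S)
    (hF : F.IsSaturated p) (hok : Ok Ω S F) (hloc : ∀ i, LocInner F (W i Ω S) (fix i)) :
    InnerOn F := by
  suffices H : ∀ (n m : ℕ) (Ω : Type u) [Group Ω] (S : Subgroup Ω) [Finite S] (F : FusionSystem S),
      Nat.card S = n → Nat.card S - Nat.card F.core = m → IsPGroup p S → F.IsSaturated p → Ok Ω S F →
        (∀ i, LocInner F (W i Ω S) (fix i)) → InnerOn F from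
    H _ _ Ω S F rfl rfl hS hF hok hloc
  intro n
  induction n using Nat.strong_induction_on with
  | _ n ihn =>
  intro m
  induction m using Nat.strong_induction_on with
  | _ m ihm =>
  intro Ω _ S _ F hn hm hS hF hok hloc
  set Q := F.core with hQdef
  have hQ : F.IsNormal Q := H96.isNormal_core F
  have hQS := hQ.1
  -- a proper normalizer is inner
  have hrec : ∀ (X : Subgroup Ω) (hX : X ≤ S), F.IsFullyNormalized X →
      (normalizerIn S X = S → Nat.card Q < Nat.card X) →
      (∀ i, LocInner (normalizerSystem F X hX) (W i Ω (normalizerIn S X)) (fix i)) →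
      InnerOn (normalizerSystem F X hX) := by
    intro X hX hXn hbig hl
    have : Finite (normalizerIn S X) := finite_of_le (normalizerIn_le S X)
    have hsat : (normalizerSystem F X hX).IsSaturated p :=
      IsNormalizerSystem.isSaturated hS hF hXn (fun _ => rfl)
    have hok' := hOk.normalizer Ω S F hS hF hok X hX hXn
    have hS' := hS.to_le (normalizerIn_le S X)
    by_cases hN : normalizerIn S X = S
    · have hXcore := le_core_normalizerSystem (F := F) hX
      have hcl : (normalizerSystem F X hX).core ≤ normalizerIn S X := sSup_le fun Y hY => hY.1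
      have : Finite (normalizerSystem F X hX).core := finite_of_le (hcl.trans (normalizerIn_le S X))
      have h1 := Subgroup.card_le_of_le hXcore
      have h2 := hbig hN
      have h3 : Nat.card (normalizerIn S X) = n := by rw [hN]; exact hn
      have h4 := Subgroup.card_le_of_le hX
      refine ihm _ ?_ Ω _ _ h3 rfl hS' hsat hok' hl
      rw [h3]
      omega
    · have hlt := card_lt_card_of_lt (lt_of_le_of_ne (normalizerIn_le S X) hN) le_rfl
      exact ihn _ (hn ▸ hlt) _ Ω _ _ rfl rfl hS' hsat hok' hl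
  -- local hypotheses pass to normalizers of `S`-invariant subgroups
  have hlocS : ∀ (X : Subgroup Ω) (hX : X ≤ S), normalizerIn S X = S → ∀ i,
      LocInner (normalizerSystem F X hX) (W i Ω (normalizerIn S X)) (fix i) := by
    intro X hX hN i A A' f hf hYA hfY hfix
    rw [hN] at hYA hfY hfix
    obtain ⟨s, hs, hse⟩ := hloc i A A' f (Mor.of_normalizer hX hf) hYA hfY hfix
    exact ⟨s, hN.symm ▸ hs, hse⟩
  by_cases hQ1 : Q = ⊥
  · -- every nontrivial fully normalized subgroup has an inner normalizer system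
    have hall : ∀ (k : ℕ) (X : Subgroup Ω) (hX : X ≤ S),
        Nat.card S - Nat.card (normalizerIn S X) = k → F.IsFullyNormalized X → X ≠ ⊥ →
        InnerOn (normalizerSystem F X hX) := by
      intro k
      induction k using Nat.strong_induction_on with
      | _ k ihk =>
      intro X hX hk hXn hX1
      set N := normalizerIn S X with hNdef
      have hbig : normalizerIn S X = S → Nat.card Q < Nat.card X := by
        intro _
        have := finite_of_le hX
        rw [hQ1, Subgroup.card_bot]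
        exact (Subgroup.one_lt_card_iff_ne_bot X).2 hX1
      by_cases hN : N = S
      · exact hrec X hX hXn hbig (hlocS X hX hN)
      refine hrec X hX hXn hbig fun i A A' f hf hYA hfY hfix => ?_
      have hNS : N ≤ S := normalizerIn_le S X
      have : Finite N := finite_of_le hNS
      have hNne : N ≠ ⊥ := fun e => hX1 (le_bot_iff.1 (e ▸ le_normalizerIn hX))
      set Y := W i Ω N with hYdef
      have hYN : Y ≤ N := hW.le i Ω N
      have hY1 : Y ≠ ⊥ := hW.ne_bot i Ω N (hS.to_le hNS) hNne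
      have hNY : normalizerIn S N ≤ normalizerIn S Y := fun x hx => ⟨hx.1, hW.normalizer_le i N hx.2⟩
      obtain ⟨Y', hYY', hY'n⟩ := exists_isFullyNormalized F (hYN.trans hNS)
      have hY'S := hY'n.1
      obtain ⟨a, M, ha, hM, haY⟩ :=
        exists_mor_normalizer hS (IsFullyNormalized.isFullyAutomized hS hF hY'n)
          (IsFullyNormalized.isReceptive hS hF hY'n) hYY'
      have hY'1 : Y' ≠ ⊥ := fun e => hY1 (by
        have := finite_of_le (hYN.trans hNS)
        refine Subgroup.eq_bot_of_card_eq Y ?_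
        rw [isConj_card_eq hYY', e, Subgroup.card_bot])
      have hkey : InnerOn (normalizerSystem F Y' hY'S) := by
        refine ihk _ ?_ Y' hY'S rfl hY'n hY'1
        have hlt : N < normalizerIn S N := lt_normalizerIn hS (lt_of_le_of_ne hNS hN)
        have h1 := card_lt_card_of_lt hlt (normalizerIn_le S N)
        have := finite_of_le (normalizerIn_le S Y)
        have h2 := Subgroup.card_le_of_le hNY
        have h3 := ha.card_eq
        have := finite_of_le (normalizerIn_le S Y')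
        have h4 := Subgroup.card_le_of_le hM
        have h5 := Subgroup.card_le_of_le (normalizerIn_le S Y')
        have h6 : Nat.card N = Nat.card (normalizerIn S X) := rfl
        omega
      have hAN : A ≤ N := hf.le_left
      have hA'N : A' ≤ N := hf.le_right
      obtain ⟨f', B, hf', hfe, hfX⟩ := mor_of_normalizer hX hf
      have hNin : N ≤ normalizerIn S Y := (le_normalizerIn hNS).trans hNY
      have hAX : A ⊔ X ≤ N := sup_le hAN (le_normalizerIn hX)
      have hBN : B ≤ N := by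
        have hle : (A ⊔ X) ≤ {x : Ω | x ∈ A ⊔ X ∧ f' x ∈ N} := by
          intro x hx
          refine ⟨hx, ?_⟩
          have hXX : Mor F X X f' := by
            obtain ⟨X', -, hX'f⟩ := hf'.restrict (le_sup_right : X ≤ A ⊔ X)
            obtain rfl : X' = X := by
              have := finite_of_le hX
              refine Subgroup.eq_of_le_of_card_ge (fun y hy => ?_) hX'f.card_eq.le
              obtain ⟨z, hz, rfl⟩ := hX'f.surj hy
              exact hfX z hz
            exact hX'f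
          exact hf'.map_mem_normalizerIn hXX le_sup_right hx (hAX hx).2
        intro y hy
        obtain ⟨x, hx, rfl⟩ := hf'.surj hy
        exact (hle hx).2
      obtain ⟨B₁, hB₁, haA⟩ := ha.restrict (hAX.trans hNin)
      obtain ⟨B₂, hB₂, haB⟩ := ha.restrict (hBN.trans hNin)
      obtain ⟨ai, hai, hai1, -⟩ := haA.exists_inv
      have hY'le : Y' ≤ B₁ := by
        intro y hy
        obtain ⟨x, hx, rfl⟩ := haY.surj hy
        exact haA.map_mem (Subgroup.mem_sup_left (hYA hx))
      have hg : Mor F B₁ B₂ (fun z => a (f' (ai z))) := haB.comp (hf'.comp hai)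
      have hgY : ∀ z ∈ Y', a (f' (ai z)) ∈ Y' := by
        intro z hz
        obtain ⟨x, hx, rfl⟩ := haY.surj hz
        rw [hai1 x (Subgroup.mem_sup_left (hYA hx)), hfe x (hYA hx)]
        exact haY.map_mem (hfY x hx)
      obtain ⟨s, hs, hse⟩ :=
        hkey _ _ _ (mor_normalizer_of hY'S hY'le (hB₁.trans hM) hg hgY)
      obtain ⟨X', -, haX⟩ := ha.restrict ((le_normalizerIn hX).trans hNin : X ≤ normalizerIn S Y)
      obtain ⟨M', -, haN⟩ := ha.restrict hNin
      have hM'eq : M' = normalizerIn S X' := by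
        have := finite_of_le (normalizerIn_le S X')
        refine Subgroup.eq_of_le_of_card_ge (fun y hy => ?_) ?_
        · obtain ⟨x, hx, rfl⟩ := haN.surj hy
          exact haN.map_mem_normalizerIn haX (le_normalizerIn hX) hx hx.2
        · rw [← haN.card_eq]; exact hXn.2 X' haX.isConj
      have hX'B : ∀ z ∈ X', z ∈ B₁ ∧ s * z * s⁻¹ ∈ X' := by
        intro z hz
        obtain ⟨x, hx, rfl⟩ := haX.surj hz
        have hz1 := haA.map_mem (Subgroup.mem_sup_right hx)
        refine ⟨hz1, ?_⟩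
        rw [← hse _ hz1]
        show a (f' (ai (a x))) ∈ X'
        rw [hai1 x (Subgroup.mem_sup_right hx)]
        exact haX.map_mem (hfX x hx)
      have hsX : s ∈ normalizerIn S X' := by
        have : Finite (X' : Set Ω) := finite_of_le haX.le_right
        exact ⟨hs.1, Subgroup.mem_normalizer_fintype fun z hz => (hX'B z hz).2⟩
      rw [← hM'eq] at hsX
      obtain ⟨t, ht, rfl⟩ := haN.surj hsX
      refine ⟨t, ht, fun x hx => ?_⟩
      have hxA : x ∈ A ⊔ X := Subgroup.mem_sup_left hx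
      have h1 := hse (a x) (haA.map_mem hxA)
      simp only [hai1 x hxA] at h1
      rw [← hfe x hx]
      have hxN : x ∈ N := hAX hxA
      rw [← haN.map_conj ht hxN] at h1
      exact haN.injOn (hBN (hf'.map_mem hxA)) (N.mul_mem (N.mul_mem ht hxN) (N.inv_mem ht)) h1
    intro A A' f hf
    obtain ⟨φ, hφ, hr, hv⟩ := hf
    suffices hle : F ≤ innerFusionSystem S by
      obtain ⟨-, s, hs, he⟩ := hle A hφ
      exact ⟨s, hs, fun x hx => (hv ⟨x, hx⟩).symm.trans (he ⟨x, hx⟩)⟩
    refine H94.alperin_le hS hF _ fun U hU hc hr α hα => ?_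
    have hUS := hU.1
    refine mem_autGroup_of hUS (φ := U.subtype.comp α.toMonoidHom) ⟨hUS, ?_⟩ fun x => rfl
    by_cases hU1 : U = ⊥
    · refine ⟨1, S.one_mem, fun x => ?_⟩
      have hx : x = 1 := Subtype.ext (Subgroup.mem_bot.1 (hU1 ▸ x.2 : (x : Ω) ∈ (⊥ : Subgroup Ω)))
      subst hx
      simp
    obtain ⟨g, hg, hge⟩ := exists_mor_of_aut hUS hα
    obtain ⟨s, hs, hse⟩ := hall _ U hUS rfl hU hU1 _ _ g
      (mor_normalizer_of hUS le_rfl (le_normalizerIn hUS) hg fun x hx => hg.map_mem hx)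
    exact ⟨s, hs.1, fun x => (hge x).symm.trans (hse x x.2)⟩
  by_cases hQc : F.IsCentric Q
  · exact innerOn_of_constrained hW hS F ⟨hF, Q, hQ, hQc⟩ hloc
      (fun L _ κ hm => hgrp Ω S F hS hF hok L κ hm)
  exfalso
  have hQsc := IsNormal.stronglyClosed hQ
  let Q₀ : Subgroup S := Q.subgroupOf S
  have hQ₀ : Q₀.Normal :=
    ⟨fun x hx s => (Subgroup.mem_normalizer_iff.1 (StronglyClosed.le_normalizer hQsc s.2) x).1 hx⟩
  let θ : S →* S ⧸ Q₀ := QuotientGroup.mk' Q₀
  have hθr : θ.range = ⊤ := MonoidHom.range_eq_top.2 (QuotientGroup.mk'_surjective Q₀)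
  have hker : ∀ s : S, θ s = 1 ↔ (s : Ω) ∈ Q := fun s => QuotientGroup.eq_one_iff s
  obtain ⟨E, hE⟩ := H94.exists_factorSystem (S' := (⊤ : Subgroup (S ⧸ Q₀))) F Q hQsc θ hker hθr
  have hS' : IsPGroup p (⊤ : Subgroup (S ⧸ Q₀)) :=
    (hS.to_quotient Q₀).of_equiv Subgroup.topEquiv.symm
  have hEsat := H94.factor_isSaturated hS hF hQsc hE
  have hlt : Nat.card (⊤ : Subgroup (S ⧸ Q₀)) < n := by
    rw [Subgroup.card_top, ← hn, Subgroup.card_eq_card_quotient_mul_card_subgroup Q₀]
    refine lt_mul_of_one_lt_right Nat.card_pos ((Subgroup.one_lt_card_iff_ne_bot Q₀).2 ?_)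
    intro e
    apply hQ1
    rw [← Subgroup.map_subgroupOf_eq_of_le hQS]
    show Q₀.map S.subtype = ⊥
    rw [e, Subgroup.map_bot]
  have hθS : ∀ s : S, ∀ g, g ∈ Subgroup.normalizer ((⊤ : Subgroup (S ⧸ Q₀)) : Set (S ⧸ Q₀)) := fun _ g =>
    Subgroup.le_normalizer (Subgroup.mem_top g)
  have hne : (⊤ : Subgroup (S ⧸ Q₀)) ≠ ⊥ := by
    intro e
    apply hQc
    have hQeq : Q = S := le_antisymm hQS fun x hx => (hker ⟨x, hx⟩).1
      (Subgroup.mem_bot.1 (e ▸ Subgroup.mem_top _))
    refine ⟨hQS, fun R hR => ?_⟩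
    have hRQ : R = Q := by
      obtain ⟨φ, hφ, rfl⟩ := hR
      have := finite_of_le hQS
      refine Subgroup.eq_of_le_of_card_ge ?_ (card_range (F.injective_of_mem hφ)).ge
      exact (range_le hφ).trans hQeq.ge
    rw [hRQ, hQeq]
    exact centralizerIn_le S S
  have hlocE : ∀ i, LocInner E (W i (S ⧸ Q₀) ⊤) (fix i) := by
    intro i P' P'' f' hf' hYP hfY _
    set Yb := W i (S ⧸ Q₀) (⊤ : Subgroup (S ⧸ Q₀)) with hYb
    set Yp := preimageAlong θ Yb with hYp
    have hYpS : Yp ≤ S := H94.preimageAlong_le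
    have hQYp : Q ≤ Yp := fun x hx => H94.mem_preimageAlong.2
      ⟨hQS hx, (((hker ⟨x, hQS hx⟩).2 hx).symm ▸ Yb.one_mem)⟩
    have hN : normalizerIn S Yp = S := by
      refine le_antisymm (normalizerIn_le S Yp) fun s hs => ⟨hs, ?_⟩
      have : Finite (Yp : Set Ω) := finite_of_le hYpS
      refine Subgroup.mem_normalizer_fintype fun x hx => ?_
      obtain ⟨hxS, hxY⟩ := H94.mem_preimageAlong.1 hx
      refine H94.mem_preimageAlong.2 ⟨S.mul_mem (S.mul_mem hs hxS) (S.inv_mem hs), ?_⟩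
      have h1 := (Subgroup.mem_normalizer_iff.1
        (hW.normalizer_le i _ (hθS ⟨s, hs⟩ (θ ⟨s, hs⟩))) _).1 hxY
      rw [← map_inv, ← map_mul, ← map_mul] at h1
      exact h1
    have hYpQ : Nat.card Q < Nat.card Yp := by
      refine card_lt_card_of_lt (lt_of_le_of_ne hQYp fun e => ?_) hYpS
      refine hW.ne_bot i _ _ hS' hne ((Subgroup.eq_bot_iff_forall _).2 fun y hy => ?_)
      obtain ⟨z, rfl⟩ := QuotientGroup.mk'_surjective Q₀ y
      refine (hker z).2 ?_
      rw [e]
      exact H94.mem_preimageAlong.2 ⟨z.2, hy⟩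
    have hXn : F.IsFullyNormalized Yp := isFullyNormalized_of_normalized hYpS hN
    have hin := hrec Yp hYpS hXn (fun _ => hYpQ) (hlocS Yp hYpS hN)
    obtain ⟨φ', hφ', hr', hv'⟩ := hf'
    obtain ⟨-, ψ, hψ, hP0, hψS, hm, hind⟩ := (hE.2.2.2 P' φ').1 hφ'
    obtain ⟨g, hg, hge⟩ := exists_mor hψ rfl
    have hYple : Yp ≤ preimageAlong θ P' := fun x hx => by
      obtain ⟨hxS, hxY⟩ := H94.mem_preimageAlong.1 hx
      exact H94.mem_preimageAlong.2 ⟨hxS, hYP hxY⟩
    obtain ⟨s, hs, hse⟩ := hin _ _ g (mor_normalizer_of hYpS hYple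
      (H94.preimageAlong_le.trans hN.ge) hg fun x hx => by
        obtain ⟨hxS, hxY⟩ := H94.mem_preimageAlong.1 hx
        rw [show g x = _ from hge ⟨x, hYple hx⟩]
        refine H94.mem_preimageAlong.2 ⟨hψS _, ?_⟩
        rw [← hind ⟨x, hYple hx⟩, hv']
        exact hfY _ hxY)
    refine ⟨θ ⟨s, hs.1⟩, Subgroup.mem_top _, fun y hy => ?_⟩
    obtain ⟨z, rfl⟩ := QuotientGroup.mk'_surjective Q₀ y
    have hz : (z : Ω) ∈ preimageAlong θ P' := H94.mem_preimageAlong.2 ⟨z.2, hy⟩
    have h1 := hind ⟨z, hz⟩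
    rw [hv'] at h1
    refine h1.trans ?_
    rw [← map_inv, ← map_mul, ← map_mul]
    exact congrArg θ (Subtype.ext ((hge ⟨z, hz⟩).symm.trans (hse z hz)))
  have hEin : InnerOn E :=
    ihn _ hlt _ (S ⧸ Q₀) ⊤ E rfl rfl hS' hEsat (hOk.factor Ω S F hS hF hok Q hQ _ _ θ E hE) hlocE
  have hsurj := H94.factor_isSurjectiveMorphism hS hF hQsc hE
  have hmod : ∀ (A A' : Subgroup Ω) (f : Ω → Ω), Mor F A A' f → Q ≤ A →
      ∃ s ∈ S, ∀ x ∈ A, (s * x * s⁻¹)⁻¹ * f x ∈ Q := by
    rintro A A' f ⟨φ, hφ, -, hv⟩ -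
    obtain ⟨φ', hφ', hP, hφS, hm, hind⟩ := hsurj.1.2 A φ hφ
    obtain ⟨f', hf', hfe'⟩ := exists_mor hφ' rfl
    obtain ⟨t, -, hte⟩ := hEin _ _ f' hf'
    obtain ⟨s, rfl⟩ := QuotientGroup.mk'_surjective Q₀ t
    refine ⟨s, s.2, fun x hx => ?_⟩
    have h1 := hte _ (hm ⟨x, hx⟩)
    rw [hfe' ⟨_, hm ⟨x, hx⟩⟩, hind ⟨x, hx⟩, ← map_inv, ← map_mul, ← map_mul] at h1
    rw [← hv ⟨x, hx⟩]
    refine (hker ((s * ⟨x, hP hx⟩ * s⁻¹)⁻¹ * ⟨φ ⟨x, hx⟩, hφS _⟩)).1 ?_
    rw [map_mul, h1, map_inv, inv_mul_cancel]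
  have hT := isNormal_sup_centralizer hS hF hQ hmod
  have hTQ : Q ⊔ centralizerIn S Q ≤ Q := le_sSup (α := Subgroup Ω) hT
  refine hQc ⟨hQS, fun R hR => ?_⟩
  have hRQ : R = Q := by
    obtain ⟨φ, hφ, rfl⟩ := hR
    have := finite_of_le hQS
    refine Subgroup.eq_of_le_of_card_ge ?_ (card_range (F.injective_of_mem hφ)).ge
    rintro _ ⟨x, rfl⟩
    exact hQsc.2 Q le_rfl φ hφ x
  rw [hRQ]
  exact le_sup_right.trans hTQ

end Criterion

end Cfsg.Agent.H93
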