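import Cfsg.Agent.H94.QuasisimpleNormal
import Cfsg.Agent.H94.ResidualNormal
import Cfsg.Agent.H94.PPrimeResidual
import Cfsg.Agent.H93.NormalRadical
import Cfsg.Agent.H93.Saturation

/-!
Images of weakly normal subsystems in factor systems by central subgroups; a normal subsystem of a quasisimple
system is central or is the whole system.
-/

set_option autoImplicit false

universe u v

namespace Cfsg.Agent.H93.QSDichotomy

open Cfsg Cfsg.FusionSystem Cfsg.Agent.H96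
open H94 (mem_preimageAlong preimageAlong_le mem_imageAlong)

variable {Ω : Type u} [Group Ω] {S T : Subgroup Ω} [Finite S] {p : ℕ} [Fact p.Prime] {F : FusionSystem S}
  {D : FusionSystem T}

/-- The image of a weakly normal subsystem in the factor system by a central subgroup is weakly normal. -/
theorem exists_weaklyNormal_image (hS : IsPGroup p S) {Z : Subgroup Ω} (hZ : Z ≤ F.center) (hcl : F.StronglyClosed Z)
    {Ω' : Type v} [Group Ω'] {S' : Subgroup Ω'} {θ : S →* Ω'} {E : FusionSystem S'}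
    (hE : F.IsFactorSystem Z θ E) (hD : D.IsWeaklyNormalIn F p) :
    ∃ Dbar : FusionSystem (imageAlong θ T), Dbar.IsWeaklyNormalIn E p ∧
      ∀ (P' : Subgroup Ω') (φ' : P' →* Ω'), φ' ∈ Dbar.Hom P' →
        ∃ φ ∈ D.Hom (preimageAlong θ P' ⊓ T), ∀ (x : ↥(preimageAlong θ P' ⊓ T)) (hx : (x : Ω) ∈ S)
          (hφx : φ x ∈ S) (hm : θ ⟨x, hx⟩ ∈ P'), φ' ⟨θ ⟨x, hx⟩, hm⟩ = θ ⟨φ x, hφx⟩ := by
  obtain ⟨hDs, hF, hI⟩ := id hD
  have hT := hI.2.1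
  have hTS := hT.1
  have := finite_of_le hTS
  have hTp := hS.to_le hTS
  obtain ⟨hZS, hker, hrange, hiff⟩ := id hE
  have hS'fin : Finite S' := by
    subst hrange
    exact Finite.of_surjective θ.rangeRestrict θ.rangeRestrict_surjective
  have hEs := H94.factor_isSaturated hS hF hcl hE
  have hsur := H94.factor_isSurjectiveMorphism hS hF hcl hE
  set T' := imageAlong θ T with hT'def
  have hT'S : T' ≤ S' := by
    intro y hy
    obtain ⟨x, -, rfl⟩ := mem_imageAlong.1 hy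
    exact hrange ▸ ⟨x, rfl⟩
  -- the restriction of `θ` to `T`
  let θT : T →* Ω' := θ.comp (Subgroup.inclusion hTS)
  have hkerT : ∀ t : T, θT t = 1 ↔ (t : Ω) ∈ T ⊓ Z := fun t =>
    (hker (Subgroup.inclusion hTS t)).trans ⟨fun h => ⟨t.2, h⟩, fun h => h.2⟩
  have hrangeT : θT.range = T' := by
    ext y
    refine ⟨?_, fun hy => ?_⟩
    · rintro ⟨t, rfl⟩
      exact mem_imageAlong.2 ⟨_, t.2, rfl⟩
    · obtain ⟨x, hx, rfl⟩ := mem_imageAlong.1 hy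
      exact ⟨⟨x, hx⟩, rfl⟩
  have hDcl : D.StronglyClosed (T ⊓ Z) := ⟨inf_le_left, fun R hR φ hφ x => by
    rw [apply_center F (hI.1 R hφ) (hZ (hR x.2).2)]
    exact hR x.2⟩
  obtain ⟨Db, hDb⟩ := H94.exists_factorSystem D (T ⊓ Z) hDcl θT hkerT hrangeT
  have hpre : ∀ (P' : Subgroup Ω') {x : Ω},
      x ∈ preimageAlong θT P' ↔ x ∈ preimageAlong θ P' ⊓ T := fun P' x => by
    rw [Subgroup.mem_inf, mem_preimageAlong, mem_preimageAlong]
    exact ⟨fun ⟨h, h'⟩ => ⟨⟨hTS h, h'⟩, h⟩, fun ⟨⟨_, h'⟩, h⟩ => ⟨h, h'⟩⟩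
  have hfwd : ∀ (P' : Subgroup Ω') (φ' : P' →* Ω'), φ' ∈ Db.Hom P' →
        ∃ φ ∈ D.Hom (preimageAlong θ P' ⊓ T), ∀ (x : ↥(preimageAlong θ P' ⊓ T)) (hx : (x : Ω) ∈ S)
          (hφx : φ x ∈ S) (hm : θ ⟨x, hx⟩ ∈ P'), φ' ⟨θ ⟨x, hx⟩, hm⟩ = θ ⟨φ x, hφx⟩ := by
    intro P' φ' hφ'
    obtain ⟨-, φ, hφ, hP, hφT, hm, hind⟩ := (hDb.2.2.2 P' φ').1 hφ'
    have hle : preimageAlong θ P' ⊓ T ≤ preimageAlong θT P' := fun x hx => (hpre P').2 hx
    exact ⟨res φ hle, res_mem D hφ hle, fun x hx hφx hmem => hind ⟨x, hle x.2⟩⟩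
  refine ⟨Db, ⟨H94.factor_isSaturated hTp hDs hDcl hDb, hEs, ?_, ?_, ?_, ?_⟩, hfwd⟩
  · -- subsystem
    intro P' φ' hφ'
    have hP'T := (Db.le_of_mem hφ').1
    obtain ⟨φ, hφ, hval⟩ := hfwd P' φ' hφ'
    obtain ⟨hle, -⟩ := D.le_of_mem hφ
    obtain ⟨φ₁, hφ₁, hP, hv, hm, hind⟩ := hsur.1.2 _ φ (hI.1 _ hφ)
    have hP'le : P' ≤ imageAlong θ (preimageAlong θ P' ⊓ T) := by
      intro y hy
      obtain ⟨x, hx, rfl⟩ := mem_imageAlong.1 (hP'T hy)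
      exact mem_imageAlong.2 ⟨x, ⟨mem_preimageAlong.2 ⟨x.2, hy⟩, hx⟩, rfl⟩
    refine mem_congr E (res_mem E hφ₁ hP'le) fun y => ?_
    obtain ⟨x, hx, hxy⟩ := mem_imageAlong.1 (hP'le y.2)
    rw [show y = ⟨θ x, hxy ▸ y.2⟩ from Subtype.ext hxy.symm]
    exact ((hind ⟨x, hx⟩).trans (hval ⟨x, hx⟩ x.2 (hv ⟨x, hx⟩) (hxy ▸ y.2)).symm).symm
  · -- strongly closed
    refine ⟨hT'S, fun R' hR' φ' hφ' y => ?_⟩
    obtain ⟨hR'S, φ, hφ, hP, hv, hm, hind⟩ := (hiff R' φ').1 hφ'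
    obtain ⟨x, hx, hxy⟩ := mem_imageAlong.1 (hR' y.2)
    have hxP : (x : Ω) ∈ preimageAlong θ R' := mem_preimageAlong.2 ⟨x.2, hxy ▸ y.2⟩
    rw [show y = ⟨θ ⟨x, hP hxP⟩, hm ⟨x, hxP⟩⟩ from Subtype.ext hxy.symm, hind ⟨x, hxP⟩]
    exact mem_imageAlong.2 ⟨_, H94.apply_mem_of_stronglyClosed hT hφ (x := ⟨x, hxP⟩) hx, rfl⟩
  · -- invariance
    intro P' hP'T φ' hφ' α hα
    obtain ⟨φ, hφ, hval⟩ := hfwd P' φ' hφ'
    obtain ⟨-, ψ, hψ, hP, hv, hm, hind⟩ := (hiff T' _).1 ((mem_autGroup E hT'S).1 hα)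
    have hTpre : T ≤ preimageAlong θ T' := fun x hx =>
      mem_preimageAlong.2 ⟨hTS hx, mem_imageAlong.2 ⟨⟨x, hTS hx⟩, hx, rfl⟩⟩
    obtain ⟨a, ha, hae⟩ := exists_autGroup_of_mem F (res_mem F hψ hTpre) fun x =>
      H94.apply_mem_of_stronglyClosed hT hψ (x := Subgroup.inclusion hTpre x) x.2
    have haθ : ∀ t : T, ((α ⟨θ (Subgroup.inclusion hTS t), mem_imageAlong.2 ⟨_, t.2, rfl⟩⟩ : T') : Ω') =
        θ (Subgroup.inclusion hTS (a t)) := fun t =>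
      (hind ⟨t, hTpre t.2⟩).trans (congrArg θ (Subtype.ext (hae t).symm))
    obtain ⟨χ, hχ, hχe⟩ := hI.2.2.1 _ inf_le_right φ hφ a ha
    set Q' := (P'.subgroupOf T').map (T'.subtype.comp α.toMonoidHom) with hQ'def
    have hQ'T : Q' ≤ T' := by
      rintro _ ⟨y, -, rfl⟩
      exact (α y).2
    have hQle : preimageAlong θT Q' ≤ ((preimageAlong θ P' ⊓ T).subgroupOf T).map (T.subtype.comp a.toMonoidHom) := by
      intro x hx
      obtain ⟨hxT, z, hz, hze⟩ := mem_preimageAlong.1 hx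
      obtain ⟨t, ht⟩ := a.surjective ⟨x, hxT⟩
      refine ⟨t, Subgroup.mem_subgroupOf.2 ⟨mem_preimageAlong.2 ⟨hTS t.2, ?_⟩, t.2⟩,
        congrArg Subtype.val ht⟩
      have h1 : α z = α ⟨θ (Subgroup.inclusion hTS t), mem_imageAlong.2 ⟨_, t.2, rfl⟩⟩ :=
        Subtype.ext (by
          rw [haθ, ht]
          exact hze)
      have h2 : (z : Ω') ∈ P' := Subgroup.mem_subgroupOf.1 hz
      rw [α.injective h1] at h2
      exact h2
    obtain ⟨χ', hχ'i⟩ := H94.exists_induced hDcl hkerT hrangeT hQ'T (res_mem D hχ hQle)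
    refine ⟨χ', (hDb.2.2.2 _ _).2 ⟨hQ'T, _, res_mem D hχ hQle, hχ'i⟩, fun y hy hαy => ?_⟩
    obtain ⟨x, hx, hxy⟩ := mem_imageAlong.1 (hP'T y.2)
    have hxP : (x : Ω) ∈ preimageAlong θ P' ⊓ T := ⟨mem_preimageAlong.2 ⟨x.2, hxy ▸ y.2⟩, hx⟩
    obtain ⟨hQP, hχT, hQm, hχind⟩ := hχ'i
    have hax : ((a ⟨x, hx⟩ : T) : Ω) ∈ preimageAlong θT Q' := by
      refine mem_preimageAlong.2 ⟨Subtype.mem _, ⟨⟨y, hP'T y.2⟩, Subgroup.mem_subgroupOf.2 y.2, ?_⟩⟩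
      show ((α ⟨y, hP'T y.2⟩ : T') : Ω') = _
      exact Eq.trans (congrArg (fun w : T' => ((α w : T') : Ω')) (Subtype.ext hxy.symm)) (haθ ⟨x, hx⟩)
    have h1 := hχind ⟨_, hax⟩
    have h2 := hval ⟨x, hxP⟩ x.2 (hTS ((D.le_of_mem hφ).2 _)) (hxy ▸ y.2)
    have h3 := hχe ⟨x, hxP⟩ ((D.le_of_mem hφ).2 _) (hQle hax)
    refine (congrArg χ' (Subtype.ext ?_)).trans (h1.trans ?_)
    · exact (congrArg (fun w : T' => ((α w : T') : Ω')) (Subtype.ext hxy.symm)).trans (haθ ⟨x, hx⟩)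
    · have h4 : (⟨φ' y, hy⟩ : T') =
          ⟨θ (Subgroup.inclusion hTS ⟨φ ⟨x, hxP⟩, (D.le_of_mem hφ).2 _⟩),
            mem_imageAlong.2 ⟨_, (D.le_of_mem hφ).2 _, rfl⟩⟩ :=
        Subtype.ext ((congrArg φ' (Subtype.ext hxy.symm)).trans h2)
      rw [h4, haθ]
      exact congrArg θ (Subtype.ext h3)
  · -- Frattini condition
    intro P' hP'T φ' hφ'
    obtain ⟨hP'S, φ, hφ, hP, hv, hm, hind⟩ := (hiff P' φ').1 hφ'
    have hle : preimageAlong θT P' ≤ preimageAlong θ P' := fun x hx => ((hpre P').1 hx).1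
    have hPT : preimageAlong θT P' ≤ T := preimageAlong_le
    obtain ⟨a, ha, φ₀, hφ₀, he⟩ := hI.2.2.2 _ hPT _ (res_mem F hφ hle)
    obtain ⟨φ₀', hφ₀'i⟩ := H94.exists_induced hDcl hkerT hrangeT hP'T hφ₀
    obtain ⟨α₁, hα₁, hP1, hv1, hm1, hind1⟩ := hsur.1.2 T _ ((mem_autGroup F hTS).1 ha)
    obtain ⟨α, hα, hαe⟩ := exists_autGroup_of_mem E hα₁ fun y => by
      obtain ⟨x, hx, hxy⟩ := mem_imageAlong.1 y.2
      rw [show y = ⟨θ ⟨x, hP1 hx⟩, hm1 ⟨x, hx⟩⟩ from Subtype.ext hxy.symm, hind1 ⟨x, hx⟩]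
      exact mem_imageAlong.2 ⟨_, (a ⟨x, hx⟩).2, rfl⟩
    refine ⟨α, hα, φ₀', (hDb.2.2.2 _ _).2 ⟨hP'T, φ₀, hφ₀, hφ₀'i⟩, fun y hy => ?_⟩
    obtain ⟨_, hφ₀T, hm₀, hind₀⟩ := hφ₀'i
    obtain ⟨x, hx, hxy⟩ := mem_imageAlong.1 (hP'T y.2)
    have hxP : (x : Ω) ∈ preimageAlong θT P' := mem_preimageAlong.2 ⟨hx, hxy ▸ y.2⟩
    have hy' : y = ⟨θ ⟨x, hP (hle hxP)⟩, hm ⟨x, hle hxP⟩⟩ := Subtype.ext hxy.symm
    have h5 := hind ⟨x, hle hxP⟩
    have h6 := hind₀ ⟨x, hxP⟩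
    rw [hαe]
    have e : (⟨φ ⟨x, hle hxP⟩, hv _⟩ : S) = ⟨((a ⟨φ₀ ⟨x, hxP⟩, hφ₀T _⟩ : T) : Ω), hTS (Subtype.mem _)⟩ :=
      Subtype.ext (he ⟨x, hxP⟩ (hφ₀T _))
    refine (congrArg φ' hy').trans (h5.trans (Eq.trans (congrArg θ e)
      (Eq.trans (hind1 ⟨_, hφ₀T ⟨x, hxP⟩⟩).symm (congrArg α₁ (Subtype.ext ?_)))))
    exact ((congrArg φ₀' (Subtype.ext hxy.symm)).trans h6).symm

/-- An element of `Aut_F(S)` of `p`-power order is inner. -/
theorem mem_inner_of_pow (hS : IsPGroup p S) (hF : F.IsSaturated p) {c : MulAut S} (hc : c ∈ F.autGroup S) {k : ℕ}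
    (hk : c ^ p ^ k = 1) : c ∈ autInducedBy S S := by
  obtain ⟨R, hR⟩ := (H94.fullyNormalized_spec hS hF (H93.isFullyNormalized_top F)).1.2
  have : (R : Subgroup (F.autGroup S)).Normal := ⟨fun n hn h => by
    obtain ⟨s, hs, hse⟩ := mem_autInducedBy.1 (Subgroup.mem_subgroupOf.1 (hR.le hn))
    refine hR.ge (Subgroup.mem_subgroupOf.2 (mem_autInducedBy.2
      ⟨((h : MulAut S) ⟨s, hs⟩ : S), Subtype.mem _, fun y => ?_⟩))
    have he : (n : MulAut S) ((h : MulAut S)⁻¹ y) = ⟨s, hs⟩ * (h : MulAut S)⁻¹ y * ⟨s, hs⟩⁻¹ :=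
      Subtype.ext (hse _)
    show (((h : MulAut S) ((n : MulAut S) ((h : MulAut S)⁻¹ y)) : S) : Ω) = _
    rw [he, map_mul, map_mul, map_inv, MulAut.apply_inv_self]
    rfl⟩
  have hp : IsPGroup p (Subgroup.zpowers (⟨c, hc⟩ : F.autGroup S)) := by
    rintro ⟨g, hg⟩
    obtain ⟨i, rfl⟩ := hg
    refine ⟨k, Subtype.ext ?_⟩
    show ((⟨c, hc⟩ : F.autGroup S) ^ i) ^ p ^ k = 1
    rw [← zpow_natCast, ← zpow_mul, mul_comm, zpow_mul, zpow_natCast,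
      show (⟨c, hc⟩ : F.autGroup S) ^ p ^ k = 1 from Subtype.ext hk, one_zpow]
  obtain ⟨Q, hQ⟩ := hp.exists_le_sylow
  have : Subsingleton (Sylow p (F.autGroup S)) := by
    have := Sylow.unique_of_normal R ‹_›
    infer_instance
  rw [Subsingleton.elim Q R] at hQ
  exact Subgroup.mem_subgroupOf.1 (hR.le (hQ (Subgroup.mem_zpowers _)))

/-- A normal subsystem of a quasisimple system is the whole system or is central. -/
theorem quasisimple_normal_dichotomy (hS : IsPGroup p S) (hq : F.Quasisimple p) (hD : D.IsNormalIn F p) :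
    (T = S ∧ ∀ P, D.Hom P = F.Hom P) ∨ (T ≤ F.center ∧ ∀ P, D.Hom P ⊆ F.centralizerHom S P) := by
  obtain ⟨hF, hhyp, hsimp⟩ := hq
  obtain ⟨hDw, -⟩ := id hD
  have hI := hDw.2.2
  have hT := hI.2.1
  have hTS := hT.1
  set Z := F.center with hZdef
  set N := Z.subgroupOf S
  set θ := QuotientGroup.mk' N with hθdef
  have hcen : F.IsCentral Z := H96.isCentral_center F
  have hker : ∀ s : S, θ s = 1 ↔ (s : Ω) ∈ Z := fun s => by
    rw [hθdef, QuotientGroup.mk'_apply, QuotientGroup.eq_one_iff, Subgroup.mem_subgroupOf]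
  have hcl : F.StronglyClosed Z := H96.stronglyClosed_of_isCentral hcen
  obtain ⟨E, hE⟩ := H94.exists_factorSystem F Z hcl θ (S' := ⊤) hker
    (MonoidHom.range_eq_top.2 (QuotientGroup.mk'_surjective N))
  obtain ⟨-, hne, hmin⟩ := hsimp E hE
  have : Finite (S ⧸ N) := inferInstance
  have htp : IsPGroup p (⊤ : Subgroup (S ⧸ N)) :=
    (hS.to_quotient N).of_equiv (Subgroup.topEquiv (G := S ⧸ N)).symm
  obtain ⟨Db, hDbw, hDbval⟩ := exists_weaklyNormal_image hS (le_refl Z) hcl hE hDw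
  have hT' : imageAlong θ T ≤ ⊤ := le_top
  obtain ⟨R, hR, -⟩ := H94.exists_pPrimeResidual (htp.to_le hT') hDbw.1
  rcases hmin _ R (H94.pPrimeResidual_isNormalIn htp hDbw hR) with hbot | ⟨htop, hhom⟩
  · right
    have hTZ : T ≤ Z := fun x hx => (hker ⟨x, hTS hx⟩).1
      (Subgroup.mem_bot.1 (hbot.le (mem_imageAlong.2 ⟨⟨x, hTS hx⟩, hx, rfl⟩)))
    refine ⟨hTZ, fun P φ hφ => ?_⟩
    have hPT := (D.le_of_mem hφ).1
    have hid : ∀ x : P, φ x = x := fun x => apply_center F (hI.1 P hφ) (hTZ (hPT x.2))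
    have hPC : P ≤ centralizerIn S S := fun x hx =>
      ⟨hTS (hPT hx), F.center_le_centralizer (hTZ (hPT hx))⟩
    refine ⟨hI.1 P hφ, hPC, fun x => ?_, Subgroup.subtype _, subtype_mem F (sup_le (hPT.trans hTS) le_rfl),
      fun x => (hid x).symm, fun x => rfl⟩
    rw [hid]
    exact hPC x.2
  left
  -- `T` and the centre generate `S`
  have hTZ : S ≤ T ⊔ Z := by
    intro x hx
    obtain ⟨t, ht, hte⟩ := mem_imageAlong.1 (htop.ge (Subgroup.mem_top (θ ⟨x, hx⟩)))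
    have h : ((t : Ω))⁻¹ * x ∈ Z := (hker (t⁻¹ * ⟨x, hx⟩)).1 (by rw [map_mul, map_inv, hte, inv_mul_cancel])
    have := Subgroup.mul_mem_sup ht h
    rwa [mul_inv_cancel_left] at this
  have hTn : T ≤ Subgroup.normalizer (Z : Set Ω) := hTS.trans (H94.le_normalizer_of_stronglyClosed hcl)
  have hsplit : ∀ x ∈ S, ∃ t ∈ T, ∃ z ∈ Z, t * z = x := fun x hx =>
    Set.mem_mul.1 ((Subgroup.coe_mul_of_left_le_normalizer_right T Z hTn).le (hTZ hx))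
  have hTeq : T = S := by
    refine le_antisymm hTS ?_
    conv_lhs => rw [← hhyp]
    rw [hyperfocalSubgroup, Subgroup.closure_le]
    rintro _ ⟨P, α, x, hP, -, rfl⟩
    obtain ⟨ψ, hψ, h1, h2⟩ := hcen.2 P _ ((mem_autGroup F hP).1 α.2)
    obtain ⟨t, ht, z, hz, htz⟩ := hsplit _ (hP x.2)
    have hts : t ∈ P ⊔ Z := by
      rw [eq_mul_inv_of_mul_eq htz]
      exact mul_mem (Subgroup.mem_sup_left x.2) (Subgroup.mem_sup_right (inv_mem hz))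
    have hψt : ψ ⟨t, hts⟩ ∈ T := H94.apply_mem_of_stronglyClosed hT hψ (x := ⟨t, hts⟩) ht
    have e : (((α : MulAut P) x : P) : Ω) = ψ ⟨t, hts⟩ * z := by
      have h4 : Subgroup.inclusion le_sup_left x = ⟨t, hts⟩ * Subgroup.inclusion le_sup_right (⟨z, hz⟩ : Z) :=
        Subtype.ext htz.symm
      have h3 := h1 x
      rw [h4, map_mul, h2] at h3
      exact h3.symm
    show (x : Ω)⁻¹ * _ ∈ T
    rw [e]
    have hc : z * t = t * z := Subgroup.mem_centralizer_iff.1 (F.center_le_centralizer hz) t (hTS ht) |>.symm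
    have hc' : z * ψ ⟨t, hts⟩ = ψ ⟨t, hts⟩ * z :=
      (Subgroup.mem_centralizer_iff.1 (F.center_le_centralizer hz) _ (hTS hψt)).symm
    rw [← htz, show (t * z)⁻¹ * (ψ ⟨t, hts⟩ * z) = t⁻¹ * ψ ⟨t, hts⟩ by
      rw [mul_inv_rev, mul_assoc, ← hc', ← mul_assoc, ← mul_assoc, mul_assoc z⁻¹]
      have hci : z⁻¹ * t⁻¹ = t⁻¹ * z⁻¹ := by rw [← mul_inv_rev, ← mul_inv_rev, hc]
      rw [← mul_assoc z⁻¹, hci]
      group]
    exact mul_mem (inv_mem ht) hψt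
  subst hTeq
  refine ⟨rfl, fun P => Set.Subset.antisymm (hI.1 P) ?_⟩
  -- the automizer of `S`
  have haut : F.autGroup T ≤ D.autGroup T := by
    intro a ha
    have haF := (mem_autGroup F le_rfl).1 ha
    obtain ⟨α', hα', hP, hv, hm, hind⟩ :=
      (H94.factor_isSurjectiveMorphism hS hF hcl hE).1.2 T _ haF
    have hα'D : α' ∈ Db.Hom (imageAlong θ T) := hR.2.1.1 _ ((hhom _).ge hα')
    obtain ⟨φ, hφ, hval⟩ := hDbval _ α' hα'D
    have hle : T ≤ preimageAlong θ (imageAlong θ T) ⊓ T := fun x hx =>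
      ⟨mem_preimageAlong.2 ⟨hx, mem_imageAlong.2 ⟨⟨x, hx⟩, hx, rfl⟩⟩, hx⟩
    obtain ⟨d, hd, hde⟩ := exists_autGroup_of_mem D (res_mem D hφ hle) fun x => (D.le_of_mem hφ).2 _
    have hdF : d ∈ F.autGroup T := (mem_autGroup F le_rfl).2 (hI.1 _ ((mem_autGroup D le_rfl).1 hd))
    obtain ⟨c, hc⟩ : ∃ c, c = d⁻¹ * a := ⟨_, rfl⟩
    have hcF : c ∈ F.autGroup T := hc ▸ mul_mem (inv_mem hdF) ha
    have hval' : ∀ y : T, α' ⟨θ y, hm y⟩ = θ (d y) := fun y =>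
      (hval ⟨y, hle y.2⟩ y.2 ((F.le_of_mem (hI.1 _ hφ)).2 _) (hm y)).trans
        (congrArg θ (Subtype.ext (hde y).symm))
    have hθc : ∀ y : T, θ (c y) = θ y := fun y => by
      have h1 : d (c y) = a y := by rw [hc, MulAut.mul_apply, MulAut.apply_inv_self]
      have h2 := hval' (c y)
      rw [h1] at h2
      exact congrArg Subtype.val (E.injective_of_mem hα' (a₁ := ⟨θ (c y), hm _⟩) (a₂ := ⟨θ y, hm _⟩)
        (h2.trans ((hind y).trans rfl).symm))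
    obtain ⟨k, hk⟩ := H93.pow_eq_one_of_stabilizes hS le_rfl (δ := c) (R := Z)
      (fun y hy => Subtype.ext (apply_center F ((mem_autGroup F le_rfl).1 hcF) hy))
      (fun y => (hker (y⁻¹ * c y)).1 (by rw [map_mul, map_inv, hθc, inv_mul_cancel]))
    have hcD : c ∈ D.autGroup T := autInducedBy_le_autGroup D le_rfl (mem_inner_of_pow hS hF hcF hk)
    rw [show a = d * c by rw [hc, mul_inv_cancel_left]]
    exact mul_mem hd hcD
  intro φ hφ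
  obtain ⟨α, hα, φ₀, hφ₀, he⟩ := hI.2.2.2 P (F.le_of_mem hφ).1 φ hφ
  obtain ⟨χ, hχ, hχe⟩ := exists_comp D hφ₀ ((mem_autGroup D le_rfl).1 (haut hα)) (D.le_of_mem hφ₀).2
  exact mem_congr D hχ fun x => (he x ((D.le_of_mem hφ₀).2 x)).trans (hχe x).symm

end Cfsg.Agent.H93.QSDichotomy
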